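import Groth.Agent.Ega3B.ExtAdj
import Mathlib.Algebra.Homology.DerivedCategory.Ext.Linear
import Mathlib.CategoryTheory.Adjunction.Mates

/-!
# Naturality of `Ext X (R G) n → Ext (L X) G n` in the adjunction, and linearity

For adjunctions `L ⊣ R`, `L' ⊣ R'` with exact left adjoints and `α : L' ⟶ L` with mate `β : R ⟶ R'`, the comparison maps
`φ` of `Groth.Agent.Ega3B.ExtAdj` fit in a commutative square.
-/

set_option autoImplicit false

universe w w' v v' u u' t

namespace K903.ExtAdjNat

open CategoryTheory CategoryTheory.Limits CategoryTheory.Abelian Groth.Agent.Ega3B.ExtAdj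

variable {C : Type u} [Category.{v} C] [Abelian C] {D : Type u'} [Category.{v'} D] [Abelian D]
  [HasExt.{w} C] [HasExt.{w'} D]

/-- Natural transformations between exact functors commute with the induced maps on `Ext`. -/
theorem mapExact_natTrans [EnoughInjectives C] {F F' : C ⥤ D} [F.Additive] [PreservesFiniteLimits F]
    [PreservesFiniteColimits F] [F'.Additive] [PreservesFiniteLimits F'] [PreservesFiniteColimits F']
    (α : F ⟶ F') {A B : C} {n : ℕ} (y : Ext A B n) :
    (Ext.mk₀ (α.app A)).comp (y.mapExactFunctor F') (zero_add n) =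
      (y.mapExactFunctor F).comp (Ext.mk₀ (α.app B)) (add_zero n) := by
  induction n generalizing B with
  | zero =>
    obtain ⟨f, rfl⟩ := (Ext.mk₀_bijective _ _).2 y
    rw [Ext.mapExactFunctor_mk₀, Ext.mapExactFunctor_mk₀, Ext.mk₀_comp_mk₀, Ext.mk₀_comp_mk₀, α.naturality]
  | succ n hn =>
    let I : InjectivePresentation B := Classical.arbitrary _
    let S := ShortComplex.mk _ _ (cokernel.condition I.f)
    have hI' : Injective S.X₂ := I.injective
    have hS : S.ShortExact := { exact := ShortComplex.exact_cokernel I.f }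
    obtain ⟨z, hz⟩ := Ext.covariant_sequence_exact₁ A hS (n₁ := n + 1) (n₀ := n) y
      (Ext.eq_zero_of_injective _) rfl
    have h1 : Ext.comp (X := F.obj S.X₃) (Y := F.obj S.X₁) (Z := F'.obj S.X₁) (hS.map_of_exact F).extClass
        (Ext.mk₀ (α.app S.X₁)) (add_zero 1) =
        Ext.comp (X := F.obj S.X₃) (Y := F'.obj S.X₃) (Z := F'.obj S.X₁) (Ext.mk₀ (α.app S.X₃))
          (hS.map_of_exact F').extClass (zero_add 1) :=
      ShortComplex.ShortExact.extClass_naturality (hS.map_of_exact F) (hS.map_of_exact F')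
        (S.mapNatTrans α)
    have e : ∀ (G : C ⥤ D) [G.Additive] [PreservesFiniteLimits G] [PreservesFiniteColimits G],
        y.mapExactFunctor G = Ext.comp (X := G.obj A) (Y := G.obj S.X₃) (Z := G.obj S.X₁)
          (z.mapExactFunctor G) (hS.map_of_exact G).extClass rfl := by
      intro G _ _ _
      rw [← hz, Ext.mapExactFunctor_comp, Ext.mapExactFunctor_extClass]
    rw [e F, e F']
    refine (Ext.comp_assoc (Ext.mk₀ (α.app A)) (z.mapExactFunctor F') (hS.map_of_exact F').extClass
      (zero_add n) rfl (by omega)).symm.trans ?_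
    rw [hn]
    refine (Ext.comp_assoc (z.mapExactFunctor F) (Ext.mk₀ (α.app S.X₃)) (hS.map_of_exact F').extClass
      (add_zero n) (zero_add 1) (by omega)).trans ?_
    refine Eq.trans ?_ (Ext.comp_assoc (z.mapExactFunctor F) (hS.map_of_exact F).extClass
      (Ext.mk₀ (α.app S.X₁)) rfl (add_zero 1) (by omega)).symm
    exact congrArg (fun t => (z.mapExactFunctor F).comp t rfl) h1.symm

variable {L L' : C ⥤ D} {R R' : D ⥤ C} (adj : L ⊣ R) (adj' : L' ⊣ R')
  [L.Additive] [PreservesFiniteLimits L] [PreservesFiniteColimits L]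
  [L'.Additive] [PreservesFiniteLimits L'] [PreservesFiniteColimits L']

theorem φ_mate [EnoughInjectives C] (α : L' ⟶ L) (X : C) (G : D) {n : ℕ} (u : Ext X (R.obj G) n) :
    (Ext.mk₀ (α.app X)).comp (φ adj X G n u) (zero_add n) =
      φ adj' X G n (u.comp (Ext.mk₀ ((conjugateEquiv adj adj' α).app G)) (add_zero n)) := by
  rw [φ_apply, φ_apply, Ext.mapExactFunctor_comp, Ext.mapExactFunctor_mk₀]
  rw [Ext.comp_assoc_of_third_deg_zero, Ext.mk₀_comp_mk₀, conjugateEquiv_counit, ← Ext.mk₀_comp_mk₀,
    ← Ext.comp_assoc_of_third_deg_zero, mapExact_natTrans α u, Ext.comp_assoc_of_third_deg_zero]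

/-- Surjectivity transfers along the comparison. -/
theorem surjective_of_mate [EnoughInjectives C] (α : L' ⟶ L) (X : C) (G : D) (n : ℕ)
    (h' : Function.Bijective (φ adj' X G n)) 
    (hs : Function.Surjective ((Ext.mk₀ ((conjugateEquiv adj adj' α).app G)).postcomp X (add_zero n))) :
    Function.Surjective ((Ext.mk₀ (α.app X)).precomp G (zero_add n)) := by
  intro z
  obtain ⟨y, rfl⟩ := h'.2 z
  obtain ⟨u, rfl⟩ := hs y
  exact ⟨φ adj X G n u, φ_mate adj adj' α X G u⟩

/-- The comparison is bijective when both adjoints are exact and there are enough injectives. -/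
theorem φ_bijective_of_exact [EnoughInjectives D] [R.Additive] [PreservesFiniteColimits R] (X : C) (G : D) (n : ℕ) :
    Function.Bijective (φ adj X G n) := by
  have : PreservesLimits R := adj.rightAdjoint_preservesLimits
  refine φ_bijective adj (fun _ => True) (fun G _ => ?_) X n G trivial
  let I : InjectivePresentation G := Classical.arbitrary _
  have hS : (ShortComplex.mk _ _ (cokernel.condition I.f)).ShortExact := { exact := ShortComplex.exact_cokernel I.f }
  exact ⟨I.J, cokernel I.f, I.f, cokernel.π I.f, cokernel.condition I.f, hS, hS.map_of_exact R, I.injective, trivial⟩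

section Linear

variable {k : Type t} [Ring k] [Linear k C] [Linear k D]

theorem φ_smul (hR : ∀ (G : D) (a : k), R.map (a • 𝟙 G) = a • 𝟙 (R.obj G)) (X : C) (G : D) (n : ℕ) (a : k)
    (u : Ext X (R.obj G) n) : φ adj X G n (a • u) = a • φ adj X G n u := by
  rw [Ext.smul_eq_comp_mk₀, Ext.smul_eq_comp_mk₀, ← hR, φ_natural]

include adj in
omit [HasExt.{w} C] [HasExt.{w'} D] [L.Additive] [PreservesFiniteLimits L] [PreservesFiniteColimits L] in
/-- `R` is linear on scalar endomorphisms if `L` is. -/
theorem map_smul_id (hL : ∀ (A : C) (a : k), L.map (a • 𝟙 A) = a • 𝟙 (L.obj A)) (G : D) (a : k) :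
    R.map (a • 𝟙 G) = a • 𝟙 (R.obj G) := by
  apply (adj.homEquiv _ _).symm.injective
  rw [Adjunction.homEquiv_counit, Adjunction.homEquiv_counit, hL]
  have := adj.counit.naturality (a • 𝟙 G)
  refine this.trans ?_
  simp

/-- The linear comparison isomorphism. -/
noncomputable def linEquiv [EnoughInjectives D] [R.Additive] [PreservesFiniteColimits R]
    (hR : ∀ (G : D) (a : k), R.map (a • 𝟙 G) = a • 𝟙 (R.obj G)) (X : C) (G : D) (n : ℕ) :
    Ext X (R.obj G) n ≃ₗ[k] Ext (L.obj X) G n :=
  LinearEquiv.ofBijective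
    { toFun := φ adj X G n
      map_add' := map_add _
      map_smul' := fun a u => φ_smul adj hR X G n a u } (φ_bijective_of_exact adj X G n)

end Linear

end K903.ExtAdjNat
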