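import Groth.Agent.Pic13.H952.FibrePt
import Groth.Prelude.Def_CurvBase

/-!
# Euler characteristics at field points (helper903)

* `K903.EulerPt.euler_pull` : the Euler characteristic of the pull back of `M` to the fibre at a field point is
  `PerfAux.eulerChar` at the image point.
-/

set_option autoImplicit false
universe u

open CategoryTheory CategoryTheory.Limits AlgebraicGeometry

namespace K903.EulerPt

open Groth.Agent

variable {k : Type u} [Field k]

theorem euler_congr' {Y : Scheme.{u}} (q : Y ⟶ Spec (CommRingCat.of k)) {M N : Y.Modules} (e : M ≅ N) :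
    @Curv2.euler k _ Y ⟨q⟩ M = @Curv2.euler k _ Y ⟨q⟩ N := by
  let _ : Y.Over (Spec (CommRingCat.of k)) := ⟨q⟩
  unfold Curv2.euler
  refine finsum_congr fun i => ?_
  rw [(Fga.EulerIso.HHequiv k e i).finrank_eq]

theorem euler_pull {Y Z B : Scheme.{u}} (q : Y ⟶ Spec (CommRingCat.of k)) (p : Z ⟶ B)
    [QuasiCompact p] [QuasiSeparated p] (τ : Spec (CommRingCat.of k) ⟶ B) (j : Y ⟶ Z)
    (H : IsPullback j q p τ) (M : Z.Modules) (hM : Coh.IsQCoh M) :
    @Curv2.euler k _ Y ⟨q⟩ ((Scheme.Modules.pullback j).obj M) =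
      PerfAux.eulerChar p M (τ (IsLocalRing.closedPoint k)) := by
  let _ : Y.Over (Spec (CommRingCat.of k)) := ⟨q⟩
  unfold Curv2.euler PerfAux.eulerChar
  refine finsum_congr fun i => ?_
  rw [Pic13.H952.FibrePt.finrank_eq_betti p τ j H _ ⟨_, rfl⟩ M hM i]

/-- Invariance under isomorphisms. -/
theorem euler_iso {Y Z : Scheme.{u}} (q : Y ⟶ Spec (CommRingCat.of k)) (p : Z ⟶ Spec (CommRingCat.of k))
    [QuasiCompact p] [QuasiSeparated p] (e : Y ⟶ Z) [IsIso e] (he : e ≫ p = q) (M : Z.Modules) (hM : Coh.IsQCoh M) :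
    @Curv2.euler k _ Y ⟨q⟩ ((Scheme.Modules.pullback e).obj M) = @Curv2.euler k _ Z ⟨p⟩ M := by
  have h1 := euler_pull q p (𝟙 _) e (IsPullback.of_horiz_isIso ⟨by rw [he, Category.comp_id]⟩) M hM
  have h2 := euler_pull p p (𝟙 _) (𝟙 _) (IsPullback.of_horiz_isIso ⟨by simp⟩) M hM
  rw [h1, ← h2]
  exact euler_congr' p ((Scheme.Modules.pullbackId Z).app M)

end K903.EulerPt
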