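import Groth.Agent.Fga.HilbAsm2
import Groth.Agent.Fga.QT8Map
import Groth.Agent.FGA.K277.ChiHilb
import Groth.Agent.CohqB.P1Charts
import Groth.Agent.CurvSt.K903.EulerPt
import Groth.Agent.Fga.TensorList

/-!
# The Hilbert function of a closed subscheme of projective space (helper903)

* `K903.HilbLink.ev_chart`: dehomogenisation on a chart of `P^n_A`;
* `K903.HilbLink.grSub_one`: the homogeneous ideal `toW (hI I)` of an ideal sheaf `I` on `P^n_A` is the graded submodule
  of the structure sheaf of `V(I)` (system with one section `1`).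
-/

set_option autoImplicit false
universe u

open CategoryTheory CategoryTheory.Limits AlgebraicGeometry MvPolynomial Opposite

namespace K903.HilbLink

open Groth.Agent Groth.Agent.Fga QTDefs QT4b QT4 QT8 QA0 QD1Alg QD1Sch QD1Hilb CohB1
open Groth.Agent.CohqB.ProjBC

variable {A : Type u} [CommRing A] {n : ℕ}

/-- `P^n_A ⟶ P^n_ℤ`. -/
noncomputable abbrev gP (n : ℕ) (A : Type u) [CommRing A] : ProjSpace n A ⟶ PZ n := pmap (zHom A) n

/-- `P^n_A ⟶ Spec A`. -/
noncomputable abbrev qP (n : ℕ) (A : Type u) [CommRing A] : ProjSpace n A ⟶ Spec (CommRingCat.of A) :=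
  ProjSpace.toSpec n A

theorem coeff_top {Y : Scheme.{u}} (q : Y ⟶ Spec (CommRingCat.of A)) (a : A) :
    QTDefs.coeff q ⊤ a = q.appTop.hom ((Scheme.ΓSpecIso (CommRingCat.of A)).inv.hom a) := by
  rw [QTDefs.coeff]
  exact resR_self _ _

theorem chart_coeff (i : Fin (n + 1)) (a : A) :
    QTDefs.coeff (chartι (A := A) n i ≫ qP n A) ⊤ a =
      (Scheme.ΓSpecIso (CommRingCat.of (Rc n A i))).inv.hom (chartHom n i (C a)) := by
  rw [coeff_top]
  have h : chartι (A := A) n i ≫ qP n A = Spec.map (CommRingCat.ofHom (awayAlg n (X i))) := chartι_toSpec n i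
  rw [h, chartHom_C]
  exact congr($(Scheme.ΓSpecIso_inv_naturality (CommRingCat.ofHom (awayAlg (A := A) n (X i)))).hom a).symm

theorem le_V (i : Fin (n + 1)) {A : Type u} [CommRing A] {Y : Scheme.{u}} (t : Y ⟶ Spec (CommRingCat.of (Rc n A i))) :
    (⊤ : Y.Opens) ≤ V (t ≫ chartι n i ≫ gP n A) i := by
  intro y _
  have h : (chartι n i ≫ gP n A) = Spec.map (CommRingCat.ofHom (cmap (zHom A) i)) ≫ chartι n i := chartι_pmap (zHom A) i
  rw [h]
  have h2 : (chartι (A := ULift.{u} ℤ) n i).opensRange = CurvesC.ProjSpaceBasic.Dp n (ULift.{u} ℤ) i :=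
    CohqB.P1Charts.opensRange_chartι n _ i
  change (t ≫ Spec.map (CommRingCat.ofHom (cmap (zHom A) i)) ≫ chartι (A := ULift.{u} ℤ) n i) y ∈
    CurvesC.ProjSpaceBasic.Dp n (ULift.{u} ℤ) i
  rw [← h2]
  exact ⟨(t ≫ Spec.map (CommRingCat.ofHom (cmap (zHom A) i))) y, by simp⟩

theorem resR_y_congr {Y : Scheme.{u}} {g g' : Y ⟶ PZ n} (h : g = g') (i k : Fin (n + 1)) {O : Y.Opens}
    (h1 : O ≤ V g i) (h2 : O ≤ V g' i) : resR h1 (y g i k) = resR h2 (y g' i k) := by
  subst h
  rfl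

theorem chart_y (i k : Fin (n + 1)) :
    resR (show (⊤ : (Spec (CommRingCat.of (Rc n A i))).Opens) ≤ V (chartι n i ≫ gP n A) i by
      simpa using le_V i (𝟙 (Spec (CommRingCat.of (Rc n A i))))) (y (chartι n i ≫ gP n A) i k) =
      (Scheme.ΓSpecIso (CommRingCat.of (Rc n A i))).inv.hom (chartHom n i (X k)) := by
  have h : chartι n i ≫ gP n A = Spec.map (CommRingCat.ofHom (cmap (zHom A) i)) ≫ chartι n i := chartι_pmap (zHom A) i
  have hV : (⊤ : (Spec (CommRingCat.of (Rc n A i))).Opens) ≤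
      V (Spec.map (CommRingCat.ofHom (cmap (zHom A) i)) ≫ chartι (A := ULift.{u} ℤ) n i) i := by
    rw [← h]
    simpa using le_V i (𝟙 (Spec (CommRingCat.of (Rc n A i))))
  rw [resR_y_congr h i k _ hV]
  let m := Spec.map (CommRingCat.ofHom (cmap (n := n) (zHom A) i))
  let u₀ := chartι (A := ULift.{u} ℤ) n i
  have e0 : (⊤ : (Spec (CommRingCat.of (Rc n (ULift.{u} ℤ) i))).Opens) ≤ u₀ ⁻¹ᵁ CohqB.P1Charts.D n (ULift.{u} ℤ) i := by
    rw [← CohqB.P1Charts.opensRange_chartι, Scheme.Hom.preimage_opensRange]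
  have e1 : u₀.appLE (CohqB.P1Charts.D n (ULift.{u} ℤ) i) ⊤ e0 ≫ m.appLE ⊤ ⊤ le_top =
      (m ≫ u₀).appLE (CohqB.P1Charts.D n (ULift.{u} ℤ) i) ⊤ hV := Scheme.Hom.appLE_comp_appLE _ _ _ _ _ _ _
  have e2 := CohqB.P1Charts.awayToSection_chartι n (ULift.{u} ℤ) i
  have e3 : resR hV (y (m ≫ u₀) i k) =
      ((m ≫ u₀).appLE (CohqB.P1Charts.D n (ULift.{u} ℤ) i) ⊤ hV).hom (CurvesC.ProjSpaceBasic.ratio n (ULift.{u} ℤ) i k) := rfl
  change resR hV (y (m ≫ u₀) i k) = _
  rw [e3, ← e1]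
  have e4 : (u₀.appLE (CohqB.P1Charts.D n (ULift.{u} ℤ) i) ⊤ e0).hom (CurvesC.ProjSpaceBasic.ratio n (ULift.{u} ℤ) i k) =
      (Scheme.ΓSpecIso (CommRingCat.of (Rc n (ULift.{u} ℤ) i))).inv.hom (chartHom n i (X k)) := by
    have e5 : (chartHom n i (X k) : Rc n (ULift.{u} ℤ) i) = HomogeneousLocalization.Away.mk (CohB1.polyGrading n (ULift.{u} ℤ))
      (CurvesC.ProjSpaceBasic.X_mem n (ULift.{u} ℤ) i) 1 (X k)
      (by rw [one_smul]; exact CurvesC.ProjSpaceBasic.X_mem n (ULift.{u} ℤ) k) := by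
      rw [chartHom, MvPolynomial.coe_eval₂Hom, MvPolynomial.eval₂_X]
    rw [e5]
    exact congr(($e2).hom (HomogeneousLocalization.Away.mk (CohB1.polyGrading n (ULift.{u} ℤ))
      (CurvesC.ProjSpaceBasic.X_mem n (ULift.{u} ℤ) i) 1 (X k)
      (by rw [one_smul]; exact CurvesC.ProjSpaceBasic.X_mem n (ULift.{u} ℤ) k)))
  rw [CommRingCat.comp_apply]
  change (m.appLE ⊤ ⊤ le_top).hom ((u₀.appLE (CohqB.P1Charts.D n (ULift.{u} ℤ) i) ⊤ e0).hom _) = _
  rw [e4]
  have e6 : m.appLE ⊤ ⊤ le_top = m.appTop := Scheme.Hom.appLE_eq_app _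
  rw [e6]
  have e7 := congr($(Scheme.ΓSpecIso_inv_naturality (CommRingCat.ofHom (cmap (n := n) (zHom A) i))).hom (chartHom n i (X k)))
  refine e7.symm.trans ?_
  change (Scheme.ΓSpecIso (CommRingCat.of (Rc n A i))).inv.hom (cmap (zHom A) i (chartHom n i (X k))) = _
  rw [cmap_chartHom, MvPolynomial.map_X]

/-- Dehomogenisation on the chart. -/
theorem ev_chart (i : Fin (n + 1)) (f : P n A) :
    ev (chartι n i ≫ gP n A) (chartι n i ≫ qP n A) i f =
      resR le_top ((Scheme.ΓSpecIso (CommRingCat.of (Rc n A i))).inv.hom (chartHom n i f)) := by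
  have key : ev (chartι n i ≫ gP n A) (chartι n i ≫ qP n A) i =
      (resR (le_top : V (chartι n i ≫ gP n A) i ≤ ⊤)).comp
        ((Scheme.ΓSpecIso (CommRingCat.of (Rc n A i))).inv.hom.comp (chartHom n i)) := by
    apply MvPolynomial.ringHom_ext
    · intro a
      rw [ev_C, RingHom.comp_apply, RingHom.comp_apply, ← chart_coeff, QT8.resR_coeff]
    · intro k
      rw [ev_X, RingHom.comp_apply, RingHom.comp_apply, ← chart_y, resR_resR, resR_self]
  rw [key]
  rfl

theorem ev_zero_congr {Y : Scheme.{u}} {g g' : Y ⟶ PZ n} {q q' : Y ⟶ Spec (CommRingCat.of A)} (h : g = g')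
    (h' : q = q') (i : Fin (n + 1)) (f : P n A) : ev g q i f = 0 ↔ ev g' q' i f = 0 := by
  subst h h'
  rfl

theorem ev_comp_apply {Y Y' : Scheme.{u}} (h : Y ⟶ Y') (g : Y' ⟶ PZ n) (q : Y' ⟶ Spec (CommRingCat.of A))
    (i : Fin (n + 1)) (f : P n A) : ev (h ≫ g) (h ≫ q) i f = (h.app (V g i)).hom (ev g q i f) :=
  congr($(ev_comp n h g q i) f)

theorem V_gP (i : Fin (n + 1)) : V (gP n A) i = (chartι (A := A) n i).opensRange := by
  rw [CohqB.P1Charts.opensRange_chartι]
  have h : pmap (zHom A) n ⁻¹ᵁ (CurvesC.ProjSpaceBasic.Dp n (ULift.{u} ℤ) i) =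
      Proj.basicOpen (CohB1.polyGrading n A) (gmap (zHom A) n (MvPolynomial.X i)) :=
    Proj.map_preimage_basicOpen (gmap (zHom A) n) (irrelevant_le (zHom A) n) _
  rw [gmap_apply, MvPolynomial.map_X] at h
  exact h

/-- A polynomial vanishes on the chart of a closed subscheme iff its dehomogenisation is in the ideal. -/
theorem ev_eq_zero_iff (I : (ProjSpace n A).IdealSheafData) (i : Fin (n + 1)) (f : P n A) :
    ev (I.subschemeι ≫ gP n A) (I.subschemeι ≫ qP n A) i f = 0 ↔ chartHom n i f ∈ chI I i := by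
  have H := Picfga.IdealDescent.isPullback_comap (chartι (A := A) n i) I
  set m := Scheme.IdealSheafData.subschemeMap (I.comap (chartι (A := A) n i)) I (chartι n i)
    (I.le_map_comap (chartι n i)) with hm
  set ji := (I.comap (chartι (A := A) n i)).subschemeι with hji
  have hmo : IsOpenImmersion m := MorphismProperty.of_isPullback (P := @IsOpenImmersion) H.flip inferInstance
  have hr : m.opensRange = V (I.subschemeι ≫ gP n A) i := by
    have h1 : V (I.subschemeι ≫ gP n A) i = I.subschemeι ⁻¹ᵁ (V (gP n A) i) := rfl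
    rw [h1, V_gP]
    have h2 : H.isoPullback.hom ≫ pullback.fst I.subschemeι (chartι (A := A) n i) = m := H.isoPullback_hom_fst
    rw [← Scheme.Hom.opensRange_pullbackFst]
    apply TopologicalSpace.Opens.ext
    change Set.range m = Set.range (pullback.fst I.subschemeι (chartι (A := A) n i))
    ext y
    constructor
    · rintro ⟨z, rfl⟩
      exact ⟨H.isoPullback.hom z, by rw [← Scheme.Hom.comp_apply, h2]⟩
    · rintro ⟨z, rfl⟩
      exact ⟨H.isoPullback.inv z, by
        rw [← Scheme.Hom.comp_apply, H.isoPullback_inv_fst]⟩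
  have hinj : Function.Injective (m.app (V (I.subschemeι ≫ gP n A) i)).hom := by
    have : IsIso (m.app (V (I.subschemeι ≫ gP n A) i)) := m.isIso_app _ hr.ge
    exact (ConcreteCategory.bijective_of_isIso (m.app (V (I.subschemeι ≫ gP n A) i))).1
  have e1 := ev_comp_apply m (I.subschemeι ≫ gP n A) (I.subschemeι ≫ qP n A) i f
  have e2 : ev (I.subschemeι ≫ gP n A) (I.subschemeι ≫ qP n A) i f = 0 ↔
      ev (m ≫ I.subschemeι ≫ gP n A) (m ≫ I.subschemeι ≫ qP n A) i f = 0 := by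
    rw [e1]
    exact (map_eq_zero_iff _ hinj).symm
  have w1 : m ≫ I.subschemeι ≫ gP n A = ji ≫ chartι n i ≫ gP n A := by
    rw [← Category.assoc, H.w, Category.assoc]
  have w2 : m ≫ I.subschemeι ≫ qP n A = ji ≫ chartι n i ≫ qP n A := by
    rw [← Category.assoc, H.w, Category.assoc]
  rw [e2, ev_zero_congr w1 w2, ev_comp_apply ji, ev_chart]
  set z := chartHom n i f with hz
  have hV : (⊤ : (I.comap (chartι (A := A) n i)).subscheme.Opens) ≤ ji ⁻¹ᵁ (V (chartι n i ≫ gP n A) i) :=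
    le_V i ji
  have e3 : (ji.app (V (chartι n i ≫ gP n A) i)).hom
      (resR le_top ((Scheme.ΓSpecIso (CommRingCat.of (Rc n A i))).inv.hom z)) =
      resR (le_top : ji ⁻¹ᵁ (V (chartι n i ≫ gP n A) i) ≤ ⊤)
        (ji.appTop.hom ((Scheme.ΓSpecIso (CommRingCat.of (Rc n A i))).inv.hom z)) :=
    congr(($(ji.naturality (homOfLE (le_top : V (chartι n i ≫ gP n A) i ≤ ⊤)).op)).hom
      ((Scheme.ΓSpecIso (CommRingCat.of (Rc n A i))).inv.hom z))
  rw [e3]
  have e4 : resR (le_top : ji ⁻¹ᵁ (V (chartι n i ≫ gP n A) i) ≤ ⊤)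
        (ji.appTop.hom ((Scheme.ΓSpecIso (CommRingCat.of (Rc n A i))).inv.hom z)) = 0 ↔
      ji.appTop.hom ((Scheme.ΓSpecIso (CommRingCat.of (Rc n A i))).inv.hom z) = 0 := by
    constructor
    · intro h
      have h1 := congrArg (resR hV) h
      rwa [resR_resR, resR_self, map_zero] at h1
    · intro h
      rw [h, map_zero]
  refine e4.trans ?_
  obtain ⟨e, he⟩ := exists_iso_subscheme (I.comap (chartι (A := A) n i))
  have e5 : ji.appTop.hom ((Scheme.ΓSpecIso (CommRingCat.of (Rc n A i))).inv.hom z) =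
      e.hom.appTop.hom ((Scheme.ΓSpecIso (CommRingCat.of (Rc n A i ⧸ toI (I.comap (chartι n i))))).inv.hom
        (Ideal.Quotient.mk (toI (I.comap (chartι n i))) z)) := by
    rw [hji, ← he, Scheme.Hom.comp_appTop, CommRingCat.comp_apply]
    congr 1
    exact congr($(Scheme.ΓSpecIso_inv_naturality
      (CommRingCat.ofHom (Ideal.Quotient.mk (toI (I.comap (chartι (A := A) n i)))))).hom z).symm
  rw [e5]
  have h6 : Function.Injective e.hom.appTop.hom := by
    have : IsIso e.hom.appTop := inferInstanceAs (IsIso (e.hom.app ⊤))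
    exact (ConcreteCategory.bijective_of_isIso e.hom.appTop).1
  have h7 : Function.Injective
      (Scheme.ΓSpecIso (CommRingCat.of (Rc n A i ⧸ toI (I.comap (chartι n i))))).inv.hom :=
    (ConcreteCategory.bijective_of_isIso (Scheme.ΓSpecIso (CommRingCat.of
      (Rc n A i ⧸ toI (I.comap (chartι n i))))).inv).1
  rw [map_eq_zero_iff _ h6, map_eq_zero_iff _ h7, Ideal.Quotient.eq_zero_iff_mem]
  rfl

/-- The system of the structure module with one section `1`. -/
noncomputable def oneSys {Y : Scheme.{u}} (g : Y ⟶ PZ n) : GenSys g (Coh.structureModule Y) Unit 0 where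
  e i _ := (1 : Γ(Y, V g i))
  glue i k _ := by
    rw [pow_zero, one_smul]
    change resR (inf_le_left : V g i ⊓ V g k ≤ V g i) (1 : Γ(Y, V g i)) =
      resR (inf_le_right : V g i ⊓ V g k ≤ V g k) (1 : Γ(Y, V g k))
    rw [map_one, map_one]

theorem sg_oneSys {Y : Scheme.{u}} (g : Y ⟶ PZ n) (q : Y ⟶ Spec (CommRingCat.of A)) (i : Fin (n + 1))
    (w : W (Fin (n + 1)) Unit A) : sg g q (oneSys g) i w = (ev g q i (w ()) : Γ(Y, V g i)) := by
  rw [sg_apply, Fintype.sum_unique]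
  change (ev g q i (w ()) : Γ(Y, V g i)) * (1 : Γ(Y, V g i)) = _
  rw [mul_one]

theorem gen_oneSys {Y : Scheme.{u}} (g : Y ⟶ PZ n) : (oneSys g).Gen := by
  intro i
  rw [eq_top_iff]
  intro s _
  let u : Γ(Coh.structureModule Y, V g i) := (1 : Γ(Y, V g i))
  let s' : Γ(Y, V g i) := s
  have h : u ∈ Set.range ((oneSys g).e i) := ⟨(), rfl⟩
  have h1 : s' • u ∈ Submodule.span Γ(Y, V g i) (Set.range ((oneSys g).e i)) :=
    Submodule.smul_mem _ _ (Submodule.subset_span h)
  have h2 : s' • u = s := mul_one s'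
  rwa [h2] at h1

/-- The graded submodule of the closed subscheme is the homogeneous ideal. -/
theorem grSub_one (I : (ProjSpace n A).IdealSheafData) :
    grSub (I.subschemeι ≫ gP n A) (I.subschemeι ≫ qP n A) (oneSys _) ⊥ = toW (hI I) := by
  ext w
  rw [mem_grSub]
  have hh : QA0.IsHom (toW (hI I)) := isHom_toW.2 (isHom_hI I)
  have h1 : ∀ d, comp d w ∈ toW (hI I) ↔
      ∀ i, sg (I.subschemeι ≫ gP n A) (I.subschemeι ≫ qP n A) (oneSys _) i (comp d w) ∈
        secSub (⊥ : Subobject (Coh.structureModule I.subscheme)) (V (I.subschemeι ≫ gP n A) i) := by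
    intro d
    rw [mem_toW]
    have h2 : ((comp d w) ()).IsHomogeneous d := homogeneousComponent_isHomogeneous d _
    rw [hI, mem_glob_of_homogeneous h2]
    refine forall_congr' fun i => ?_
    rw [mem_secSub_bot, sg_oneSys]
    exact (ev_eq_zero_iff I i _).symm
  rw [hh.mem_iff]
  exact forall_congr' fun d => (h1 d).symm

section Field

variable {k : Type u} [Field k]

instance isClosedImmersion_toPA (I : (ProjSpace n k).IdealSheafData) :
    IsClosedImmersion (toPA (I.subschemeι ≫ gP n k) (I.subschemeι ≫ qP n k)) := by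
  have h : toPA (I.subschemeι ≫ gP n k) (I.subschemeι ≫ qP n k) = I.subschemeι ≫ (projSpaceOverIso n k).inv := by
    apply (isPullback_fstZ n (Spec (CommRingCat.of k))).hom_ext
    · rw [Category.assoc, QD1Hilb.projSpaceOverIso_inv_fstZ]
      exact pullback.lift_fst _ _ _
    · rw [Category.assoc, projSpaceOverIso_inv_toBase]
      exact pullback.lift_snd _ _ _
  rw [h]
  infer_instance

/-- **The Hilbert function of a homogeneous ideal is the Euler characteristic of the closed subscheme.** -/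
theorem exists_h_eq_euler (I : (ProjSpace n k).IdealSheafData) :
    ∃ D : ℕ, ∀ d : ℕ, D ≤ d → QA1.h (toW (hI I)) d =
      @Curv2.euler k _ I.subscheme ⟨I.subschemeι ≫ qP n k⟩ (K277.ChiHilb.twg (I.subschemeι ≫ gP n k)
        (Coh.structureModule I.subscheme) d) := by
  let _ : I.subscheme.Over (Spec (CommRingCat.of k)) := ⟨I.subschemeι ≫ qP n k⟩
  have hF : Coh.IsCoh (Coh.structureModule I.subscheme) := Fdesc.StructMod.isCoh_structureModule _
  have hc : IsClosedImmersion (toPA (I.subschemeι ≫ gP n k) (I.subscheme ↘ Spec (CommRingCat.of k))) :=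
    isClosedImmersion_toPA I
  obtain ⟨D₁, h1⟩ := K277.ChiHilb.chi_eq_hilb k (I.subschemeι ≫ gP n k) hF
  obtain ⟨m₀, hm₀⟩ := K277.ChiHilb.exists_vanish k (I.subschemeι ≫ gP n k) hF
  obtain ⟨Φ, -, -, h2⟩ := QA2.field_main (K := toW (hI I)) (isHom_toW.2 (isHom_hI I)) (isSat_toW.2 (isSat_hI I))
  refine ⟨max (max D₁ (QA1.bd (Fintype.card (Fin (n + 1))) Φ)) m₀.toNat, fun d hd => ?_⟩
  have h3 := (h2 d ((le_max_right _ _).trans ((le_max_left _ _).trans hd))).2.2
  have h4 : QA1.h (toW (hI I)) d = K277.ChiHilb.chi k (I.subschemeι ≫ gP n k) (Coh.structureModule I.subscheme) d := by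
    rw [h1 d ((le_max_left _ _).trans ((le_max_left _ _).trans hd))]
    rw [← grSub_one] at h3 ⊢
    exact (hilb_eq_of_H1 (oneSys _) hF.1 (gen_oneSys _) h3).symm
  rw [h4, K277.ChiHilb.chi, FGA.eulerCharLE, Curv2.euler]
  have h5 : ∀ i : ℕ, i ≠ 0 → (-1 : ℤ) ^ i * (Module.finrank k (Coh.HH I.subscheme
      (K277.ChiHilb.twg (I.subschemeι ≫ gP n k) (Coh.structureModule I.subscheme) (d : ℤ)) i) : ℤ) = 0 := by
    intro i hi
    have := hm₀ d (by have := (le_max_right _ _).trans hd; omega) i (by omega)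
    rw [Module.finrank_zero_of_subsingleton]
    simp
  rw [finsum_eq_single _ 0 h5, Finset.sum_eq_single 0 (fun i _ hi => h5 i hi) (fun h => by simp at h)]

/-- the twist of the structure module -/
noncomputable def twgIso {Y : Scheme.{u}} (g : Y ⟶ PZ n) (m : ℤ) :
    K277.ChiHilb.twg g (Coh.structureModule Y) m ≅
      (Scheme.Modules.pullback g).obj (Twist.twistProjSpace n (ULift.{u} ℤ) m) :=
  Fga.TensorList.unitTensor _

/-- The Euler characteristic of `O(m)` on a scheme over `P^n_ℤ` and over a field. -/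
noncomputable def chiO {Z : Scheme.{u}} (g : Z ⟶ PZ n) (q : Z ⟶ Spec (CommRingCat.of k)) (m : ℤ) : ℤ :=
  @Curv2.euler k _ Z ⟨q⟩ ((Scheme.Modules.pullback g).obj (Twist.twistProjSpace n (ULift.{u} ℤ) m))

theorem isQCoh_pullO {Z : Scheme.{u}} (g : Z ⟶ PZ n) (m : ℤ) :
    Coh.IsQCoh ((Scheme.Modules.pullback g).obj (Twist.twistProjSpace n (ULift.{u} ℤ) m)) :=
  Ega2.QCohLocal.isQCoh_of_isInvertible (Fdesc.LocGen.isInvertible_pullback _
    (FormalB.TwistGen.isInvertible_twistProjSpace n _ m))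

theorem chiO_iso {Z Z' : Scheme.{u}} (g : Z ⟶ PZ n) (q : Z ⟶ Spec (CommRingCat.of k)) (g' : Z' ⟶ PZ n)
    (q' : Z' ⟶ Spec (CommRingCat.of k)) [QuasiCompact q'] [QuasiSeparated q'] (e : Z ≅ Z') (h1 : e.hom ≫ g' = g)
    (h2 : e.hom ≫ q' = q) (m : ℤ) : chiO g q m = chiO g' q' m := by
  unfold chiO
  rw [← EulerPt.euler_iso q q' e.hom h2 _ (isQCoh_pullO g' m)]
  exact EulerPt.euler_congr' q ((Scheme.Modules.pullbackCongr h1.symm).app _ ≪≫
    ((Scheme.Modules.pullbackComp e.hom g').app _).symm)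

theorem exists_h_eq_chiO (I : (ProjSpace n k).IdealSheafData) :
    ∃ D : ℕ, ∀ d : ℕ, D ≤ d → QA1.h (toW (hI I)) d = chiO (I.subschemeι ≫ gP n k) (I.subschemeι ≫ qP n k) d := by
  obtain ⟨D, hD⟩ := exists_h_eq_euler I
  exact ⟨D, fun d hd => (hD d hd).trans (EulerPt.euler_congr' _ (twgIso _ _))⟩

open HilbAsm2 HilbAsm1 HilbClosed in
/-- **The Hilbert function of a point of the Hilbert functor of `W ⊆ P^n_S`** at a field point. -/
theorem exists_KX_eq_chiO {S W : Scheme.{u}} (i : W ⟶ ProjSpaceOver n S) [IsClosedImmersion i]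
    (s : Spec (CommRingCat.of k) ⟶ S) (x : FGA.HilbSet (fX i) (Over.mk s)) :
    ∃ D : ℕ, ∀ d : ℕ, D ≤ d → QA1.h (KX i s x) d =
      chiO (x.1.subschemeι ≫ pullback.fst (fX i) s ≫ i ≫ fstZ n S)
        (x.1.subschemeι ≫ PicF.XTproj (fX i) (Over.mk s)) d := by
  let c := cT i (ProjSpaceOver.toBase n S) (Over.mk s)
  let J := (idl _ x).map c
  let I := J.comap (xt n s).hom
  obtain ⟨D, hD⟩ := exists_h_eq_chiO I
  refine ⟨D, fun d hd => ?_⟩
  have h0 : QA1.h (KX i s x) d = QA1.h (toW (hI I)) d := rfl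
  rw [h0, hD d hd]
  obtain ⟨e₁, he₁⟩ : ∃ e : x.1.subscheme ≅ J.subscheme, e.hom ≫ J.subschemeι = x.1.subschemeι ≫ c :=
    exists_iso_map c x.1
  obtain ⟨m, H⟩ : ∃ m : I.subscheme ⟶ J.subscheme, IsPullback m I.subschemeι J.subschemeι (xt n s).hom :=
    ⟨_, Picfga.IdealDescent.isPullback_comap (xt n s).hom J⟩
  have hiso : IsIso m :=
    MorphismProperty.of_isPullback (P := MorphismProperty.isomorphisms Scheme.{u}) H.flip
      (inferInstanceAs (IsIso (xt n s).hom))
  let e : x.1.subscheme ≅ I.subscheme := e₁ ≪≫ (asIso m).symm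
  have he : e.hom ≫ I.subschemeι ≫ (xt n s).hom = x.1.subschemeι ≫ c := by
    rw [← H.w, ← he₁]
    simp only [e, Iso.trans_hom, Iso.symm_hom, asIso_inv, Category.assoc, IsIso.inv_hom_id_assoc]
  have hg : gP n k = (xt n s).hom ≫ pullback.fst (ProjSpaceOver.toBase n S) (Over.mk s).hom ≫ fstZ n S := by
    rw [← Category.assoc, xt_hom_fst, Category.assoc, overMap_fstZ]
    exact (QD1Hilb.projSpaceOverIso_inv_fstZ k).symm
  have hq : qP n k = (xt n s).hom ≫ PicF.XTproj (ProjSpaceOver.toBase n S) (Over.mk s) := (xt_hom_proj s).symm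
  refine (chiO_iso _ _ _ _ e ?_ ?_ d).symm
  · rw [hg]
    have h3 : c ≫ pullback.fst (ProjSpaceOver.toBase n S) (Over.mk s).hom = pullback.fst (fX i) (Over.mk s).hom ≫ i :=
      cT_fst i (ProjSpaceOver.toBase n S) (Over.mk s)
    calc e.hom ≫ I.subschemeι ≫ (xt n s).hom ≫ pullback.fst (ProjSpaceOver.toBase n S) (Over.mk s).hom ≫ fstZ n S
        = (e.hom ≫ I.subschemeι ≫ (xt n s).hom) ≫ pullback.fst (ProjSpaceOver.toBase n S) (Over.mk s).hom ≫ fstZ n S := by
          simp only [Category.assoc]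
      _ = x.1.subschemeι ≫ (c ≫ pullback.fst (ProjSpaceOver.toBase n S) (Over.mk s).hom) ≫ fstZ n S := by
          rw [he]
          simp only [Category.assoc]
      _ = _ := by
          rw [h3]
          simp only [Category.assoc]
          rfl
  · rw [hq]
    calc e.hom ≫ I.subschemeι ≫ (xt n s).hom ≫ PicF.XTproj (ProjSpaceOver.toBase n S) (Over.mk s)
        = (e.hom ≫ I.subschemeι ≫ (xt n s).hom) ≫ PicF.XTproj (ProjSpaceOver.toBase n S) (Over.mk s) := by
          simp only [Category.assoc]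
      _ = x.1.subschemeι ≫ (c ≫ PicF.XTproj (ProjSpaceOver.toBase n S) (Over.mk s)) := by
          rw [he, Category.assoc]
      _ = _ := by
          rw [cT_proj]

end Field

end K903.HilbLink
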