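import Mathlib.AlgebraicGeometry.Morphisms.QuasiFinite
import Mathlib.AlgebraicGeometry.Noetherian
import Mathlib.FieldTheory.IsAlgClosed.AlgebraicClosure
import Groth.Agent.Smoothlim.SmoothLocusBC

/-!
# Finiteness of closed subsets and of the nonsmooth locus under extension of the ground field
-/

set_option autoImplicit false

universe u

open CategoryTheory CategoryTheory.Limits AlgebraicGeometry

namespace K903.NonsmoothFin

/-- The pointwise form of the smooth locus. -/
theorem mem_smoothLocus_iff_exists {X Y : Scheme.{u}} (f : X ⟶ Y) [LocallyOfFinitePresentation f] (x : X) :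
    x ∈ f.smoothLocus ↔ ∃ U : X.Opens, x ∈ U ∧ Smooth (U.ι ≫ f) := by
  constructor
  · intro hx
    refine ⟨f.smoothLocus, hx, ?_⟩
    rw [← Scheme.Hom.smoothLocus_eq_top_iff, ← Scheme.Hom.preimage_smoothLocus_eq]
    exact Scheme.Opens.ι_preimage_self _
  · rintro ⟨U, hxU, hU⟩
    have h1 := Scheme.Hom.smoothLocus_eq_top (U.ι ≫ f)
    rw [← Scheme.Hom.preimage_smoothLocus_eq] at h1
    have h2 : (⟨x, hxU⟩ : U) ∈ U.ι ⁻¹ᵁ f.smoothLocus := by rw [h1]; trivial
    exact h2

/-- A finite closed subset of a scheme locally of finite type over a field has finite preimage after an extension of the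
ground field. -/
theorem finite_preimage_of_isPullback {k K : Type u} [Field k] [Field K] {X X' : Scheme.{u}}
    {p : X ⟶ Spec (CommRingCat.of k)} {q : X' ⟶ Spec (CommRingCat.of K)} {i : X' ⟶ X}
    {t : Spec (CommRingCat.of K) ⟶ Spec (CommRingCat.of k)} (hP : IsPullback i q p t) [LocallyOfFiniteType p]
    [QuasiCompact p] (Z : Set X) (hZ : IsClosed Z) (hfin : Z.Finite) : (i ⁻¹' Z).Finite := by
  let I := Scheme.IdealSheafData.vanishingIdeal (⟨Z, hZ⟩ : TopologicalSpace.Closeds X)
  have hI : (I.support : Set X) = Z := Scheme.IdealSheafData.coe_support_vanishingIdeal _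
  have hr : Set.range I.subschemeι = Z := by rw [Scheme.IdealSheafData.range_subschemeι, hI]
  have hsf : Finite I.subscheme := by
    have : Set.Finite (Set.range I.subschemeι) := by rw [hr]; exact hfin
    exact Set.finite_range_iff (f := I.subschemeι) (I.subschemeι.isEmbedding.injective) |>.1 this
  have hlf : LocallyQuasiFinite (I.subschemeι ≫ p) :=
    LocallyQuasiFinite.of_finite_preimage_singleton _ (fun x => Set.toFinite _)
  have hpb : IsPullback (pullback.fst I.subschemeι i) (pullback.snd I.subschemeι i ≫ q) (I.subschemeι ≫ p) t :=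
    (IsPullback.of_hasPullback I.subschemeι i).flip.paste_horiz hP.flip |>.flip
  have hlf' : LocallyQuasiFinite (pullback.snd I.subschemeι i ≫ q) :=
    MorphismProperty.of_isPullback hpb hlf
  have hqc' : QuasiCompact (pullback.snd I.subschemeι i ≫ q) :=
    MorphismProperty.of_isPullback hpb (inferInstanceAs (QuasiCompact (I.subschemeι ≫ p)))
  have hf : (Set.univ : Set ↥(pullback I.subschemeι i)).Finite := by
    have := Scheme.Hom.finite_preimage (pullback.snd I.subschemeι i ≫ q)
      (s := Set.univ) (Set.toFinite _)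
    simpa using this
  have h2 : Set.range (pullback.snd I.subschemeι i) = i ⁻¹' Z := by
    rw [Scheme.Pullback.range_snd, hr]
  rw [← h2, ← Set.image_univ]
  exact hf.image _

/-- The nonsmooth locus of a scheme of finite type over a field is finite iff it is so after an extension of the ground
field. -/
theorem finite_nonsmooth_iff {k K : Type u} [Field k] [Field K] {X X' : Scheme.{u}}
    {p : X ⟶ Spec (CommRingCat.of k)} {q : X' ⟶ Spec (CommRingCat.of K)} {i : X' ⟶ X}
    {t : Spec (CommRingCat.of K) ⟶ Spec (CommRingCat.of k)} (hP : IsPullback i q p t) [LocallyOfFiniteType p]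
    [QuasiCompact p] :
    Set.Finite {x : ↥X' | ¬ ∃ U : X'.Opens, x ∈ U ∧ Smooth (U.ι ≫ q)} ↔
      Set.Finite {x : ↥X | ¬ ∃ U : X.Opens, x ∈ U ∧ Smooth (U.ι ≫ p)} := by
  have : LocallyOfFinitePresentation p := LocallyOfFinitePresentation.iff_locallyOfFiniteType.2 inferInstance
  have : LocallyOfFinitePresentation q := MorphismProperty.of_isPullback hP this
  have hflat : Flat t := by
    have : Flat (Spec.map (Spec.preimage t)) := by
      rw [HasRingHomProperty.Spec_iff (P := @Flat)]
      let _ : Algebra k K := (Spec.preimage t).hom.toAlgebra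
      exact (inferInstanceAs (Module.Flat k K))
    rwa [Spec.map_preimage] at this
  have hsurj : Surjective i := MorphismProperty.of_isPullback hP.flip ⟨fun x => ⟨IsLocalRing.closedPoint K, Subsingleton.elim _ _⟩⟩
  have h1 : {x : ↥X' | ¬ ∃ U : X'.Opens, x ∈ U ∧ Smooth (U.ι ≫ q)} =
      i ⁻¹' {x : ↥X | ¬ ∃ U : X.Opens, x ∈ U ∧ Smooth (U.ι ≫ p)} := by
    ext x
    simp only [Set.mem_ofPred_eq, Set.mem_preimage]
    rw [← mem_smoothLocus_iff_exists, ← mem_smoothLocus_iff_exists,
      Groth.Agent.Smoothlim.SmoothLocusBC.mem_smoothLocus_iff_of_isPullback hP x (Or.inr hflat)]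
  have h2 : {x : ↥X | ¬ ∃ U : X.Opens, x ∈ U ∧ Smooth (U.ι ≫ p)} = (p.smoothLocus : Set X)ᶜ := by
    ext x
    simp only [Set.mem_ofPred_eq, Set.mem_compl_iff]
    rw [← mem_smoothLocus_iff_exists]; rfl
  rw [h1]
  constructor
  · intro h
    exact Set.Finite.of_preimage h hsurj.1
  · intro h
    refine finite_preimage_of_isPullback hP _ ?_ h
    rw [h2]
    exact p.smoothLocus.2.isClosed_compl

end K903.NonsmoothFin
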