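import Groth.Prelude.Def_StCurv2

/-!
# Geometric fibres of a scheme family, read through sheaves

`GeomFib P ((toSpFam S n).obj A)` only sees the cartesian squares of SCHEMES over geometric points: a cartesian square
of sheaves with scheme vertex over a scheme family is `h` of a cartesian square of schemes, and the marked points agree.
-/

set_option autoImplicit false

universe u

open CategoryTheory CategoryTheory.Limits AlgebraicGeometry Opposite

namespace K903.GeomFib

open CurvSt

variable {S : Scheme.{u}} {n : ℕ}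

/-- The morphism over `S` into the total space. -/
noncomputable abbrev totHom (A : PtFamObj S n) {T' X' : Scheme.{u}} {t : T' ⟶ A.base.left} {q : X' ⟶ T'} {i : X' ⟶ A.C}
    (w : i ≫ A.f = q ≫ t) : ((toSpFam S n).obj A).ptOver (q ≫ t) ⟶ A.totOver :=
  Over.homMk i (by
    dsimp only [PtFamObj.totOver, Over.mk_hom]
    rw [reassoc_of% w]
    exact (Category.assoc _ _ _).symm)

/-- The square over `S` underlying a square of schemes. -/
theorem isPullback_over (A : PtFamObj S n) {T' X' : Scheme.{u}} {t : T' ⟶ A.base.left} {q : X' ⟶ T'} {i : X' ⟶ A.C}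
    (hP : IsPullback i q A.f t) :
    IsPullback (totHom A hP.w)
      (((toSpFam S n).obj A).fibHom t q) A.fOver (((toSpFam S n).obj A).ptHom t) := by
  refine IsPullback.of_map (Over.forget S) (Over.OverMorphism.ext hP.w) hP

/-- A square of schemes gives a square of sheaves. -/
theorem isPullback_yon (A : PtFamObj S n) {T' X' : Scheme.{u}} {t : T' ⟶ A.base.left} {q : X' ⟶ T'} {i : X' ⟶ A.C}
    (hP : IsPullback i q A.f t) :
    IsPullback ((AlgSp.yon S).map (totHom A hP.w))
      ((AlgSp.yon S).map (((toSpFam S n).obj A).fibHom t q)) ((toSpFam S n).obj A).f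
      ((AlgSp.yon S).map (((toSpFam S n).obj A).ptHom t)) :=
  (isPullback_over A hP).map (AlgSp.yon S)

/-- A square of sheaves with scheme vertex gives a square of schemes over `S`. -/
theorem isPullback_over_of_yon (A : PtFamObj S n) {T' X' : Scheme.{u}} {t : T' ⟶ A.base.left} {q : X' ⟶ T'}
    {i : ((toSpFam S n).obj A).ptOver (q ≫ t) ⟶ A.totOver}
    (hP : IsPullback ((AlgSp.yon S).map i)
      ((AlgSp.yon S).map (((toSpFam S n).obj A).fibHom t q)) ((toSpFam S n).obj A).f
      ((AlgSp.yon S).map (((toSpFam S n).obj A).ptHom t))) :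
    IsPullback i (((toSpFam S n).obj A).fibHom t q) A.fOver (((toSpFam S n).obj A).ptHom t) := by
  refine IsPullback.of_map (AlgSp.yon S) ?_ hP
  apply (AlgSp.yon S).map_injective
  have h1 := hP.w
  exact ((AlgSp.yon S).map_comp _ _).trans (h1.trans ((AlgSp.yon S).map_comp _ _).symm)

/-- A square of sheaves with scheme vertex gives a square of schemes. -/
theorem isPullback_of_yon (A : PtFamObj S n) {T' X' : Scheme.{u}} {t : T' ⟶ A.base.left} {q : X' ⟶ T'}
    {i : ((toSpFam S n).obj A).ptOver (q ≫ t) ⟶ A.totOver}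
    (hP : IsPullback ((AlgSp.yon S).map i)
      ((AlgSp.yon S).map (((toSpFam S n).obj A).fibHom t q)) ((toSpFam S n).obj A).f
      ((AlgSp.yon S).map (((toSpFam S n).obj A).ptHom t))) :
    IsPullback i.left q A.f t :=
  (isPullback_over_of_yon A hP).map (Over.forget S)

/-- Characterisation of the marked point: any section of `q` over `S` compatible with the section of the family defines
it. -/
theorem spMarkedPt_eq_of (B : SpFamObj S n) {Ω : Type u} [Field Ω] {t : Spec (CommRingCat.of Ω) ⟶ B.base.left}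
    {X' : Scheme.{u}} {q : X' ⟶ Spec (CommRingCat.of Ω)}
    {i : (AlgSp.yon S).obj (B.ptOver (q ≫ t)) ⟶ B.X}
    (hP : IsPullback i ((AlgSp.yon S).map (B.fibHom t q)) B.f ((AlgSp.yon S).map (B.ptHom t))) (j : Fin n)
    (x : B.ptOver t ⟶ B.ptOver (q ≫ t)) (hx : x ≫ B.fibHom t q = 𝟙 _)
    (hx' : (AlgSp.yon S).map x ≫ i = (AlgSp.yon S).map (B.ptHom t) ≫ B.sect j) :
    B.spMarkedPt hP j = x.left.base (IsLocalRing.closedPoint Ω) := by
  unfold SpFamObj.spMarkedPt
  have key : (AlgSp.yon S).preimage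
      (hP.lift ((AlgSp.yon S).map (B.ptHom t) ≫ B.sect j) (𝟙 _)
        (by rw [Category.assoc, B.sect_f, Category.comp_id, Category.id_comp])) = x := by
    apply (AlgSp.yon S).map_injective
    rw [(AlgSp.yon S).map_preimage]
    apply hP.hom_ext
    · rw [hP.lift_fst, hx']
    · rw [hP.lift_snd, ← (AlgSp.yon S).map_comp, hx, (AlgSp.yon S).map_id]
  rw [key]

/-- The marked points agree. -/
theorem spMarkedPt_eq (A : PtFamObj S n) {Ω : Type u} [Field Ω] {t : Spec (CommRingCat.of Ω) ⟶ A.base.left}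
    {X' : Scheme.{u}} {q : X' ⟶ Spec (CommRingCat.of Ω)}
    {i : ((toSpFam S n).obj A).ptOver (q ≫ t) ⟶ A.totOver}
    (hP : IsPullback ((AlgSp.yon S).map i)
      ((AlgSp.yon S).map (((toSpFam S n).obj A).fibHom t q)) ((toSpFam S n).obj A).f
      ((AlgSp.yon S).map (((toSpFam S n).obj A).ptHom t))) (j : Fin n) :
    ((toSpFam S n).obj A).spMarkedPt hP j = markedPt A.sect A.sect_f (isPullback_of_yon A hP) j := by
  have hP' := isPullback_of_yon A hP
  have w : (t ≫ A.sect j) ≫ A.f = 𝟙 _ ≫ t := by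
    rw [Category.assoc, A.sect_f, Category.comp_id, Category.id_comp]
  let x : ((toSpFam S n).obj A).ptOver t ⟶ ((toSpFam S n).obj A).ptOver (q ≫ t) :=
    Over.homMk (hP'.lift (t ≫ A.sect j) (𝟙 _) w) (by
      change hP'.lift (t ≫ A.sect j) (𝟙 _) w ≫ (q ≫ t) ≫ A.base.hom = t ≫ A.base.hom
      rw [Category.assoc, hP'.lift_snd_assoc, Category.id_comp])
  refine spMarkedPt_eq_of ((toSpFam S n).obj A) hP j x ?_ ?_
  · apply Over.OverMorphism.ext
    exact hP'.lift_snd _ _ w
  · have h2 : x ≫ i = ((toSpFam S n).obj A).ptHom t ≫ A.sectOver j := by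
      apply Over.OverMorphism.ext
      exact hP'.lift_fst _ _ w
    exact ((AlgSp.yon S).map_comp _ _).symm.trans
      ((congrArg (AlgSp.yon S).map h2).trans ((AlgSp.yon S).map_comp _ _))

/-- The geometric fibre condition on a scheme family is the condition on the squares of schemes. -/
theorem geomFib_toSpFam_iff (P : ∀ (Ω : Type u) [Field Ω] [IsAlgClosed Ω] (X' : Scheme.{u}),
      (X' ⟶ Spec (CommRingCat.of Ω)) → (Fin n → ↥X') → Prop) (A : PtFamObj S n) :
    GeomFib P ((toSpFam S n).obj A) ↔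
      ∀ (Ω : Type u) [Field Ω] [IsAlgClosed Ω] (t : Spec (CommRingCat.of Ω) ⟶ A.base.left) (X' : Scheme.{u})
        (i : X' ⟶ A.C) (q : X' ⟶ Spec (CommRingCat.of Ω)) (hP : IsPullback i q A.f t),
        P Ω X' q (markedPt A.sect A.sect_f hP) := by
  constructor
  · intro h Ω _ _ t X' i q hP
    have h2 := h Ω t X' q _ (isPullback_yon A hP)
    have h3 : ((toSpFam S n).obj A).spMarkedPt (isPullback_yon A hP) = markedPt A.sect A.sect_f hP :=
      funext fun j => spMarkedPt_eq A (isPullback_yon A hP) j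
    rwa [h3] at h2
  · intro h Ω _ _ t X' q i hP
    obtain ⟨i, rfl⟩ := (AlgSp.yon S).map_surjective i
    have h3 : ((toSpFam S n).obj A).spMarkedPt hP = markedPt A.sect A.sect_f (isPullback_of_yon A hP) :=
      funext fun j => spMarkedPt_eq A hP j
    rw [h3]
    exact h Ω t X' i.left q (isPullback_of_yon A hP)

/-- Without marked points. -/
theorem geomFib_toSpFam_zero_iff (P : ∀ (Ω : Type u) [Field Ω] [IsAlgClosed Ω] (X' : Scheme.{u}),
      (X' ⟶ Spec (CommRingCat.of Ω)) → Prop) (A : PtFamObj S 0) :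
    GeomFib (fun Ω _ _ X' q _ => P Ω X' q) ((toSpFam S 0).obj A) ↔
      ∀ (Ω : Type u) [Field Ω] [IsAlgClosed Ω] (t : Spec (CommRingCat.of Ω) ⟶ A.base.left) (X' : Scheme.{u})
        (i : X' ⟶ A.C) (q : X' ⟶ Spec (CommRingCat.of Ω)) (_ : IsPullback i q A.f t), P Ω X' q :=
  geomFib_toSpFam_iff (fun Ω _ _ X' q _ => P Ω X' q) A

end K903.GeomFib
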