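import Groth.Agent.AlgSt.K745.DiagQcAux
import Groth.Agent.AlgSt.K738.SecRep3
import Groth.Agent.AlgSt.K740.RepBC
import Groth.Agent.AlgSt.K745.Affine
import Groth.Agent.AlgSt.K747.IsoPsh

/-!
# Quasi-compactness of the diagonal in terms of objects (helper903)

`QCI Z ξ η`: isomorphisms between the restrictions of the objects `ξ`, `η` over `Z` to field-valued points are
parametrised by a quasi-compact scheme over `Z`.
-/

set_option autoImplicit false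
set_option backward.isDefEq.respectTransparency false
set_option backward.isDefEq.respectTransparency.types false

universe v₂ u₂ v u

open CategoryTheory CategoryTheory.Limits AlgebraicGeometry Opposite K734.Fib

namespace K903.QCObj

open K738 K747.Sc

variable {S : Scheme.{u}} {𝒳 : BasedCategory.{v₂, u₂} (Over S)}

/-- Isomorphisms of the restrictions of `ξ` and `η` to field-valued points of `Z` come from a quasi-compact
scheme over `Z`. -/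
def QCI (Z : Over S) (ξ η : 𝒳.obj) : Prop :=
  ∃ (W : Over S) (w : W ⟶ Z) (ρ : 𝒳.obj) (a : ρ ⟶ ξ) (b : ρ ⟶ η), CompactSpace W.left ∧
    𝒳.p.IsHomLift w a ∧ 𝒳.p.IsHomLift w b ∧
    ∀ (K : Type u) [Field K] (s : Spec (CommRingCat.of K) ⟶ S) (l : Over.mk s ⟶ Z) (ρ' : 𝒳.obj)
      (a' : ρ' ⟶ ξ) (b' : ρ' ⟶ η), 𝒳.p.IsHomLift l a' → 𝒳.p.IsHomLift l b' →
      ∃ v : ρ' ⟶ ρ, v ≫ a = a' ∧ v ≫ b = b'

theorem continuous_ofPt {F : AlgSp.Sp S} {T : Over S} (g : (AlgSp.yon S).obj T ⟶ F) :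
    Continuous (fun t : ↥T.left => AlgSp.Points.ofPt g t) :=
  continuous_def.2 fun _ hW => AlgSp.Points.isOpen_iff.1 hW T g

theorem ye_map {F : AlgSp.Sp S} {T' T : Over S} (k : T' ⟶ T) (g : (AlgSp.yon S).obj T ⟶ F) :
    K740.RepBC.ye ((AlgSp.yon S).map k ≫ g) = F.obj.map k.op (K740.RepBC.ye g) :=
  (GrothendieckTopology.uliftYonedaEquiv_naturality.{u + 1} (J := AlgSp.J S) g k).symm

theorem map_map {C : Type*} [Category C] (P : Cᵒᵖ ⥤ Type*) {a b c : C} (f : a ⟶ b) (g : b ⟶ c)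
    (x : P.obj (op c)) : P.map f.op (P.map g.op x) = P.map (f ≫ g).op x := by
  rw [op_comp, Functor.map_comp_apply]

theorem mkIsoFp_comp {x : 𝒳.obj} (c : (FibCat.fp (FibCat.toSelf 𝒳) (FibCat.toSelf 𝒳)).obj)
    (α : c.obj.fst ≅ x) (β : c.obj.snd ≅ x) (hα : IsVert 𝒳 α.hom) (hβ : IsVert 𝒳 β.hom) :
    (FibCat.toSelf 𝒳).map α.hom ≫ ((FibCat.diag (FibCat.toSelf 𝒳)).obj x).obj.iso.hom =
      c.obj.iso.hom ≫ (FibCat.toSelf 𝒳).map β.hom := by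
  obtain ⟨h, e⟩ := self_iso_hom c
  obtain ⟨h', e'⟩ := self_iso_hom ((FibCat.diag (FibCat.toSelf 𝒳)).obj x)
  rw [e, e']
  change 𝒳.p.map α.hom ≫ _ = _ ≫ 𝒳.p.map β.hom
  rw [hα.map_eq, hβ.map_eq, eqToHom_trans, eqToHom_trans]

/-- The object of the base change of the diagonal defined by two arrows. -/
theorem exists_obj (h𝒳 : FibCat.IsFibGrpd 𝒳.p) {T W : Over S}
    (y : FibCat.overCat T ⥤ᵇ FibCat.fp (FibCat.toSelf 𝒳) (FibCat.toSelf 𝒳)) (w : W ⟶ T) {ρ : 𝒳.obj}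
    (a : ρ ⟶ (y1 y).obj (Over.mk (𝟙 T))) (b : ρ ⟶ (y2 y).obj (Over.mk (𝟙 T))) (ha : 𝒳.p.IsHomLift w a)
    (hb : 𝒳.p.IsHomLift w b) :
    ∃ i : y.obj (Over.mk w) ≅ (FibCat.diag (FibCat.toSelf 𝒳)).obj ρ,
      IsVert (FibCat.fp (FibCat.toSelf 𝒳) (FibCat.toSelf 𝒳)) i.hom ∧
      i.hom.hom.fst ≫ a = (y1 y).map (om w (𝟙 T) w (Category.comp_id w)) ∧
      i.hom.hom.snd ≫ b = (y2 y).map (om w (𝟙 T) w (Category.comp_id w)) := by
  obtain ⟨α, hα, hα'⟩ := exists_iso_of_lift h𝒳 (om_lift (y1 y) w (𝟙 T) w (Category.comp_id w)) ha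
  obtain ⟨β, hβ, hβ'⟩ := exists_iso_of_lift h𝒳 (om_lift (y2 y) w (𝟙 T) w (Category.comp_id w)) hb
  refine ⟨mkIsoFp α β (mkIsoFp_comp _ α β hα hβ), ?_, hα', hβ'⟩
  rw [vert_fp_iff_fst]
  exact hα

theorem vert_comp_lift {a b c : 𝒳.obj} {T T' : Over S} {f : T' ⟶ T} {φ : a ⟶ b} {ψ : b ⟶ c}
    (h : IsVert 𝒳 φ) (h' : 𝒳.p.IsHomLift f ψ) : 𝒳.p.IsHomLift f (φ ≫ ψ) := by
  have h1 : 𝒳.p.IsHomLift (𝟙 T') φ := h.lift' (IsHomLift.domain_eq 𝒳.p f ψ)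
  have := IsHomLift.comp 𝒳.p (𝟙 T') f φ ψ
  rwa [Category.id_comp] at this

theorem lift_comp_vert {a b c : 𝒳.obj} {T T' : Over S} {f : T' ⟶ T} {φ : a ⟶ b} {ψ : b ⟶ c}
    (h : 𝒳.p.IsHomLift f φ) (h' : IsVert 𝒳 ψ) : 𝒳.p.IsHomLift f (φ ≫ ψ) := by
  have h1 : 𝒳.p.IsHomLift (𝟙 T) ψ := h'.lift (IsHomLift.codomain_eq 𝒳.p f φ)
  have := IsHomLift.comp 𝒳.p f (𝟙 T) φ ψ
  rwa [Category.comp_id] at this

/-- A morphism of the base change of the diagonal. -/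
theorem exists_hom (h𝒳 : FibCat.IsFibGrpd 𝒳.p) {T W : Over S}
    (y : FibCat.overCat T ⥤ᵇ FibCat.fp (FibCat.toSelf 𝒳) (FibCat.toSelf 𝒳)) (w : W ⟶ T) {ρ : 𝒳.obj}
    {a : ρ ⟶ (y1 y).obj (Over.mk (𝟙 T))} {b : ρ ⟶ (y2 y).obj (Over.mk (𝟙 T))} (ha : 𝒳.p.IsHomLift w a)
    (hb : 𝒳.p.IsHomLift w b) {i : y.obj (Over.mk w) ≅ (FibCat.diag (FibCat.toSelf 𝒳)).obj ρ}
    (hi : IsVert (FibCat.fp (FibCat.toSelf 𝒳) (FibCat.toSelf 𝒳)) i.hom)
    (hia : i.hom.hom.fst ≫ a = (y1 y).map (om w (𝟙 T) w (Category.comp_id w)))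
    (hib : i.hom.hom.snd ≫ b = (y2 y).map (om w (𝟙 T) w (Category.comp_id w)))
    {W' : Over S} (w' : W' ⟶ T) {ρ' : 𝒳.obj} {i' : y.obj (Over.mk w') ≅ (FibCat.diag (FibCat.toSelf 𝒳)).obj ρ'}
    (hi' : IsVert (FibCat.fp (FibCat.toSelf 𝒳) (FibCat.toSelf 𝒳)) i'.hom)
    (v : ρ' ⟶ ρ) (hva : v ≫ a = i'.inv.hom.fst ≫ (y1 y).map (om w' (𝟙 T) w' (Category.comp_id w')))
    (hvb : v ≫ b = i'.inv.hom.snd ≫ (y2 y).map (om w' (𝟙 T) w' (Category.comp_id w'))) :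
    Nonempty ((mkObj (Over.mk w') ρ' i' hi' : (FibCat.fp y (FibCat.diag (FibCat.toSelf 𝒳))).obj) ⟶
      mkObj (Over.mk w) ρ i hi) := by
  have hi1 : IsVert 𝒳 i.hom.hom.fst := hi.map (FibCat.fpFst _ _)
  have hi2 : IsVert 𝒳 i.hom.hom.snd := hi.map (FibCat.fpSnd _ _)
  have hi1' : IsVert 𝒳 i'.hom.hom.fst := hi'.map (FibCat.fpFst _ _)
  have hi2' : IsVert 𝒳 i'.hom.hom.snd := hi'.map (FibCat.fpSnd _ _)
  have hj1' : IsVert 𝒳 i'.inv.hom.fst := hi'.inv.map (FibCat.fpFst _ _)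
  have c1 : i'.hom.hom.fst ≫ i'.inv.hom.fst = 𝟙 _ :=
    congrArg (fun k => k.hom.fst) i'.hom_inv_id
  have c2 : i'.hom.hom.snd ≫ i'.inv.hom.snd = 𝟙 _ :=
    congrArg (fun k => k.hom.snd) i'.hom_inv_id
  -- the base of `v`
  have hρ' : 𝒳.p.obj ρ' = W' := by
    have h1 : 𝒳.p.obj ((y1 y).obj (Over.mk w')) = W' := (y1 y).w_obj _
    exact hi1'.obj_eq.symm.trans h1
  have hρ : 𝒳.p.obj ρ = W := IsHomLift.domain_eq 𝒳.p w a
  obtain ⟨r, hr⟩ : ∃ r : W' ⟶ W, 𝒳.p.IsHomLift r v := by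
    subst hρ' hρ
    exact ⟨𝒳.p.map v, inferInstance⟩
  have hrw : r ≫ w = w' := by
    have h1 : 𝒳.p.IsHomLift (r ≫ w) (v ≫ a) := IsHomLift.comp 𝒳.p r w v a
    have h2 : 𝒳.p.IsHomLift w' (v ≫ a) := by
      rw [hva]
      exact vert_comp_lift hj1' (om_lift (y1 y) w' (𝟙 T) w' (Category.comp_id w'))
    have h3 := IsHomLift.fac 𝒳.p (r ≫ w) (v ≫ a)
    have h4 := IsHomLift.fac 𝒳.p w' (v ≫ a)
    exact h3.trans h4.symm
  have e1 : om r w w' hrw ≫ om w (𝟙 T) w (Category.comp_id w) =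
      om w' (𝟙 T) w' (Category.comp_id w') := Over.OverMorphism.ext hrw
  refine ⟨mkHomFp (om r w w' hrw) v ?_⟩
  refine homFp_ext ?_ ?_
  · change (y1 y).map (om r w w' hrw) ≫ i.hom.hom.fst = i'.hom.hom.fst ≫ v
    refine fac_unique' h𝒳 (g := r) a (lift_comp_vert (om_lift (y1 y) r w w' hrw) hi1)
      (vert_comp_lift hi1' hr) ?_
    rw [Category.assoc, hia, Category.assoc, hva, reassoc_of% c1, ← (y1 y).map_comp]
    exact congrArg (fun k => (y1 y).map k) e1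
  · change (y2 y).map (om r w w' hrw) ≫ i.hom.hom.snd = i'.hom.hom.snd ≫ v
    refine fac_unique' h𝒳 (g := r) b (lift_comp_vert (om_lift (y2 y) r w w' hrw) hi2)
      (vert_comp_lift hi2' hr) ?_
    rw [Category.assoc, hib, Category.assoc, hvb, reassoc_of% c2, ← (y2 y).map_comp]
    exact congrArg (fun k => (y2 y).map k) e1

/-- **Compactness of the space of isomorphisms.** -/
theorem compactSpace_of_qci (h𝒳 : FibCat.IsFibGrpd 𝒳.p) {T : Over S}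
    (y : FibCat.overCat T ⥤ᵇ FibCat.fp (FibCat.toSelf 𝒳) (FibCat.toSelf 𝒳)) {F : AlgSp.Sp S}
    (e : AlgSt.ofSp F ⥤ᵇ FibCat.fp y (FibCat.diag (FibCat.toSelf 𝒳))) (he : FibCat.IsEquivOver e)
    (H : QCI T ((y1 y).obj (Over.mk (𝟙 T))) ((y2 y).obj (Over.mk (𝟙 T)))) :
    CompactSpace (AlgSp.Points F) := by
  obtain ⟨R⟩ := SecRep.nonempty_of_equiv (FibCat.fpFst y (FibCat.diag (FibCat.toSelf 𝒳))) e he
  obtain ⟨W, w, ρ, a, b, hW, ha, hb, hu⟩ := H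
  obtain ⟨i, hi, hia, hib⟩ := exists_obj h𝒳 y w a b ha hb
  let z : (FibCat.fp y (FibCat.diag (FibCat.toSelf 𝒳))).obj := mkObj (Over.mk w) ρ i hi
  let σ : (AlgSp.yon S).obj W ⟶ F := K740.RepBC.ye.symm (R.sec z)
  suffices hs : Function.Surjective (fun t : ↥W.left => AlgSp.Points.ofPt σ t) by
    refine ⟨?_⟩
    rw [← Set.range_eq_univ.2 hs]
    exact isCompact_range (continuous_ofPt σ)
  intro p
  obtain ⟨K, _, s, g, hg⟩ := K609.Points.exists_field_ofPt p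
  obtain ⟨z', h, hz'⟩ := R.surj (K740.RepBC.ye g)
  let i' : y.obj (Over.mk z'.obj.fst.hom) ≅ (FibCat.diag (FibCat.toSelf 𝒳)).obj z'.obj.snd := z'.obj.iso
  have hi' : IsVert (FibCat.fp (FibCat.toSelf 𝒳) (FibCat.toSelf 𝒳)) i'.hom := iso_vert z'
  let w' : z'.obj.fst.left ⟶ T := z'.obj.fst.hom
  let a' : z'.obj.snd ⟶ (y1 y).obj (Over.mk (𝟙 T)) :=
    i'.inv.hom.fst ≫ (y1 y).map (om w' (𝟙 T) w' (Category.comp_id w'))
  let b' : z'.obj.snd ⟶ (y2 y).obj (Over.mk (𝟙 T)) :=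
    i'.inv.hom.snd ≫ (y2 y).map (om w' (𝟙 T) w' (Category.comp_id w'))
  have ha' : 𝒳.p.IsHomLift w' a' := vert_comp_lift (hi'.inv.map (FibCat.fpFst _ _))
    (om_lift (y1 y) w' (𝟙 T) w' (Category.comp_id w'))
  have hb' : 𝒳.p.IsHomLift w' b' := vert_comp_lift (hi'.inv.map (FibCat.fpSnd _ _))
    (om_lift (y2 y) w' (𝟙 T) w' (Category.comp_id w'))
  have h' : Over.mk s = z'.obj.fst.left := h
  obtain ⟨v, hva, hvb⟩ := hu K s (eqToHom h' ≫ w') z'.obj.snd a' b' inferInstance inferInstance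
  obtain ⟨m⟩ := exists_hom h𝒳 y w ha hb hi hia hib w' hi' v hva hvb
  have hm : F.obj.map ((FibCat.fp y (FibCat.diag (FibCat.toSelf 𝒳))).p.map m).op (R.sec z) = R.sec z' := R.map m
  have hk : g = (AlgSp.yon S).map (eqToHom h ≫ (FibCat.fp y (FibCat.diag (FibCat.toSelf 𝒳))).p.map m) ≫ σ := by
    apply K740.RepBC.ye.injective
    have hσ : K740.RepBC.ye σ = R.sec z := Equiv.apply_symm_apply _ _
    rw [← hz', ← hm]
    refine Eq.trans ?_ (ye_map _ σ).symm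
    exact (map_map F.obj _ _ _).trans (congrArg _ hσ.symm)
  refine ⟨(eqToHom h ≫ (FibCat.fp y (FibCat.diag (FibCat.toSelf 𝒳))).p.map m).left (IsLocalRing.closedPoint K), ?_⟩
  rw [← hg (IsLocalRing.closedPoint K), hk, K609.Points.ofPt_yon_map_comp]

/-- Quasi-compactness over the base, tested on affine schemes. -/
theorem isQuasiCompactMor_of_qci (h𝒳 : FibCat.IsFibGrpd 𝒳.p) {T : Over S}
    (y : FibCat.overCat T ⥤ᵇ FibCat.fp (FibCat.toSelf 𝒳) (FibCat.toSelf 𝒳)) {F : AlgSp.Sp S}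
    (hF : AlgSp.IsAlgSpace F)
    (e : AlgSt.ofSp F ⥤ᵇ FibCat.fp y (FibCat.diag (FibCat.toSelf 𝒳))) (he : FibCat.IsEquivOver e)
    (H : ∀ (Z : Over S) (z : Z ⟶ T), IsAffine Z.left →
      QCI Z ((y1 y).obj (Over.mk z)) ((y2 y).obj (Over.mk z))) :
    AlgSp.IsQuasiCompactMor (K745.Lift.q e) := by
  refine K596.QC.isQuasiCompactMor_of_affine hF (AlgSp.IsAlgSpace.yon_obj T) fun Z hZ g P fst snd sq => ?_
  obtain ⟨z, rfl⟩ := (AlgSp.yon S).map_surjective g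
  obtain ⟨k, hk, -, -⟩ := K745.Lift.exists_rep_overMap e he z sq
  refine compactSpace_of_qci h𝒳 (BasedFunctor.comp (AlgSt.overMap z) y) k hk ?_
  have h1 := H Z (𝟙 Z ≫ z) hZ
  exact h1

/-- **Criterion for quasi-compactness of the diagonal over the base.** -/
theorem repByAlgSpWith_diag (h𝒳 : FibCat.IsFibGrpd 𝒳.p) {Q : MorphismProperty (AlgSp.Sp S)}
    (hd : AlgSt.RepByAlgSpWith Q (FibCat.diag (FibCat.toSelf 𝒳)))
    (H : ∀ (T : Over S) (ξ η : 𝒳.obj), 𝒳.p.obj ξ = T → 𝒳.p.obj η = T → ∀ t : T.left,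
      ∃ (V : Over S) (g : V ⟶ T) (v : V.left), Etale g.left ∧ g.left v = t ∧
        ∀ (Z : Over S) (z : Z ⟶ V), IsAffine Z.left → ∀ (ξ' η' : 𝒳.obj) (a : ξ' ⟶ ξ) (b : η' ⟶ η),
          𝒳.p.IsHomLift (z ≫ g) a → 𝒳.p.IsHomLift (z ≫ g) b → QCI Z ξ' η') :
    AlgSt.RepByAlgSpWith (AlgSp.IsQuasiCompactMor ⊓ Q) (FibCat.diag (FibCat.toSelf 𝒳)) := by
  intro T y
  obtain ⟨F, e, he, hQ⟩ := hd T y
  refine ⟨F, e, he, ?_, hQ⟩
  choose V g v h1 h2 h3 using H T ((y1 y).obj (Over.mk (𝟙 T))) ((y2 y).obj (Over.mk (𝟙 T)))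
    ((y1 y).w_obj _) ((y2 y).w_obj _)
  have hcov := K745.Refine.isFpqcCover_yon V g (fun i => (inferInstance : Flat (g i).left))
    (fun i => (inferInstance : LocallyOfFinitePresentation (g i).left)) (fun t => ⟨t, v t, h2 t⟩)
  have sq : ∀ t, IsPullback (pullback.fst (K745.Lift.q e) ((AlgSp.yon S).map (g t)))
      (pullback.snd (K745.Lift.q e) ((AlgSp.yon S).map (g t))) (K745.Lift.q e) ((AlgSp.yon S).map (g t)) :=
    fun t => IsPullback.of_hasPullback _ _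
  have hA : ∀ t, AlgSp.IsAlgSpace (pullback (K745.Lift.q e) ((AlgSp.yon S).map (g t))) :=
    fun t => K613.Chart.isAlgSpace_pullback F.property (AlgSp.IsAlgSpace.yon_obj _) (AlgSp.IsAlgSpace.yon_obj _) _ _
  refine (Groth.Agent.S10519.result S _ _ (AlgSp.IsAlgSpace.yon_obj T) (fun t => AlgSp.IsAlgSpace.yon_obj _) hcov
    (K745.Lift.q e) F.property _ _ _ hA sq).2 fun t => ?_
  obtain ⟨k, hk, hq, -⟩ := K745.Lift.exists_rep_overMap e he (g t) (sq t)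
  rw [← hq]
  refine isQuasiCompactMor_of_qci h𝒳 (BasedFunctor.comp (AlgSt.overMap (g t)) y) (hA t) k hk fun Z z hZ => ?_
  refine h3 t Z z hZ _ _ ((y1 y).map (om (z ≫ g t) (𝟙 T) (z ≫ g t) (Category.comp_id _)))
    ((y2 y).map (om (z ≫ g t) (𝟙 T) (z ≫ g t) (Category.comp_id _))) ?_ ?_
  · exact om_lift (y1 y) (z ≫ g t) (𝟙 T) (z ≫ g t) (Category.comp_id _)
  · exact om_lift (y2 y) (z ≫ g t) (𝟙 T) (z ≫ g t) (Category.comp_id _)

end K903.QCObj
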