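import Groth.Agent.CurvSt.K903.IsomSch
import Groth.Agent.CurvSt.K903.QCObj
import Groth.Agent.CurvSt.K740.CurvAlg

/-!
# The diagonal of the stack of curves is quasi-compact (helper903)
-/

set_option autoImplicit false
set_option linter.unusedVariables false
set_option backward.isDefEq.respectTransparency false
set_option backward.isDefEq.respectTransparency.types false

universe w v u

open CategoryTheory CategoryTheory.Limits Opposite AlgebraicGeometry K734.Fib CurvSt AlgSp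

namespace K903.IsomQC

open K903.QCObj K903.PtModel K903.IsomSch

variable {S : Scheme.{u}} {n : ℕ}

section

variable {𝒳 : BasedCategory.{v, w} (Over S)}

theorem QCI.congr {Z : Over S} {ξ η ξ' η' : 𝒳.obj} (h : QCI Z ξ η) {i : ξ ≅ ξ'} (hi : IsVert 𝒳 i.hom) {j : η ≅ η'}
    (hj : IsVert 𝒳 j.hom) : QCI Z ξ' η' := by
  obtain ⟨W, w, ρ, a, b, hW, ha, hb, hu⟩ := h
  refine ⟨W, w, ρ, a ≫ i.hom, b ≫ j.hom, hW, lift_comp_vert ha hi, lift_comp_vert hb hj, ?_⟩
  intro K _ s l ρ' a' b' ha' hb'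
  obtain ⟨v, h1, h2⟩ := hu K s l ρ' (a' ≫ i.inv) (b' ≫ j.inv) (lift_comp_vert ha' hi.inv) (lift_comp_vert hb' hj.inv)
  exact ⟨v, by rw [reassoc_of% h1, i.inv_hom_id, Category.comp_id],
    by rw [reassoc_of% h2, j.inv_hom_id, Category.comp_id]⟩

end

/-- The morphism of families of schemes defined by a cartesian square. -/
def ptHomMk {A B : PtFamObj S n} (b : A.base ⟶ B.base) (t : A.C ⟶ B.C) (h : IsPullback t A.f B.f b.left)
    (hs : ∀ i, A.sect i ≫ t = b.left ≫ B.sect i) : A ⟶ B :=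
  { base := b, top := t, cart := h, w_sect := hs }

/-- A pointed family over `Z`. -/
abbrev fam (Z : Over S) {X : Scheme.{u}} (f : X ⟶ Z.left) (σ : Fin n → (Z.left ⟶ X)) (hσ : ∀ i, σ i ≫ f = 𝟙 _) :
    PtFamObj S n := ⟨Z, X, f, σ, hσ⟩

/-- The object of the stack of curves of a family of schemes. -/
noncomputable abbrev obj' (A : PtFamObj S n) (hA : IsCurveFam ((toSpFam S n).obj A)) : (Curves S n).obj :=
  ⟨(toSpFam S n).obj A, hA⟩

/-- The morphism of the stack of curves of a morphism of families of schemes. -/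
noncomputable abbrev hom' {A B : PtFamObj S n} (φ : A ⟶ B) (hA : IsCurveFam ((toSpFam S n).obj A))
    (hB : IsCurveFam ((toSpFam S n).obj B)) : obj' A hA ⟶ obj' B hB :=
  ObjectProperty.homMk ((toSpFam S n).map φ)

theorem isHomLift_hom' {A B : PtFamObj S n} (φ : A ⟶ B) (hA : IsCurveFam ((toSpFam S n).obj A))
    (hB : IsCurveFam ((toSpFam S n).obj B)) : (Curves S n).p.IsHomLift φ.base (hom' φ hA hB) :=
  (K734.Fib.isHomLift_iff_map_eq (𝒳 := Curves S n) (a := obj' A hA) (b := obj' B hB) φ.base (hom' φ hA hB)).2 rfl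

/-- An object over a field-valued point with a morphism to a family of schemes. -/
theorem exists_sch_obj {Z : Over S} {X : Scheme.{u}} {f : X ⟶ Z.left} {σ : Fin n → (Z.left ⟶ X)}
    {hσ : ∀ i, σ i ≫ f = 𝟙 _} (hA : IsCurveFam ((toSpFam S n).obj (fam Z f σ hσ))) {T : Over S} (l : T ⟶ Z)
    (ρ' : (Curves S n).obj) (a' : ρ' ⟶ obj' (fam Z f σ hσ) hA) (ha' : (Curves S n).p.IsHomLift l a') :
    ∃ (ζ : PtFamObj S n) (e : (toSpFam S n).obj ζ ≅ ρ'.obj) (k : ζ.base ≅ T) (α : ζ ⟶ fam Z f σ hσ),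
      (toSpFam S n).map α = e.hom ≫ a'.hom ∧ α.base = k.hom ≫ l ∧
      ∃ h : ρ'.obj.base = T, e.hom.base ≫ eqToHom h = k.hom := by
  obtain ⟨ζ, ⟨e⟩⟩ := K740.CurvAlg.exists_iso_of_hom a'.hom
  obtain ⟨α, hα⟩ := (toSpFam S n).map_surjective (e.hom ≫ a'.hom)
  have hd : ρ'.obj.base = T := IsHomLift.domain_eq (Curves S n).p l a'
  have hb : a'.hom.base = eqToHom hd ≫ l := by
    have h1 := IsHomLift.fac' (Curves S n).p l a'
    have h2 : (Curves S n).p.map a' = a'.hom.base := rfl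
    rw [← h2, h1]
    simp
  have ki : IsIso e.hom.base := by
    refine ⟨⟨e.inv.base, ?_, ?_⟩⟩
    · exact congrArg SpFamObj.Hom.base e.hom_inv_id
    · exact congrArg SpFamObj.Hom.base e.inv_hom_id
  refine ⟨ζ, e, asIso e.hom.base ≪≫ eqToIso hd, α, hα, ?_, hd, rfl⟩
  have h3 : α.base = (e.hom ≫ a'.hom).base := congrArg SpFamObj.Hom.base hα
  rw [h3]
  change e.hom.base ≫ a'.hom.base = (e.hom.base ≫ eqToHom hd) ≫ l
  rw [hb, Category.assoc]

theorem isPullback_of_iso_base {X Z C D T : Scheme.{u}} {g : X ⟶ Z} {f : C ⟶ D} {t : C ⟶ X} {b : D ⟶ Z}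
    (sq : IsPullback t f g b) (k : D ≅ T) (l : T ⟶ Z) (hb : b = k.hom ≫ l) : IsPullback t (f ≫ k.hom) g l := by
  have h1 : IsPullback (𝟙 C) (f ≫ k.hom) f k.inv :=
    IsPullback.of_horiz_isIso ⟨by rw [Category.id_comp, Category.assoc, k.hom_inv_id, Category.comp_id]⟩
  have h2 := h1.paste_horiz sq
  rwa [Category.id_comp, hb, k.inv_hom_id_assoc] at h2

theorem qci_of_hasQI {Z : Over S} {X Y : Scheme.{u}} {gX : X ⟶ Z.left} {gY : Y ⟶ Z.left}
    {σ : Fin n → (Z.left ⟶ X)} {τ : Fin n → (Z.left ⟶ Y)} (hσ : ∀ i, σ i ≫ gX = 𝟙 _) (hτ : ∀ i, τ i ≫ gY = 𝟙 _)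
    (hA : IsCurveFam ((toSpFam S n).obj (fam Z gX σ hσ))) (hB : IsCurveFam ((toSpFam S n).obj (fam Z gY τ hτ)))
    (H : HasQI gX gY σ τ) : QCI Z (obj' (fam Z gX σ hσ) hA) (obj' (fam Z gY τ hτ) hB) := by
  obtain ⟨W, V, r, p, a, t, s, hW, sX, sY, hs1, hs2, hs3, hu⟩ := H
  let W' : Over S := Over.mk (r ≫ Z.hom)
  let r' : W' ⟶ Z := Over.homMk r rfl
  let A := fam Z gX σ hσ
  let B := fam Z gY τ hτ
  let ρ : PtFamObj S n := fam W' p s hs1
  let a₀ : ρ ⟶ A := ptHomMk r' a sX hs2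
  let t₀ : ρ ⟶ B := ptHomMk r' t sY hs3
  have hρ : IsCurveFam ((toSpFam S n).obj ρ) := K898.MbarEq.isCurveFam_of_hom ((toSpFam S n).map a₀) hA
  refine ⟨W', r', obj' ρ hρ, hom' a₀ hρ hA, hom' t₀ hρ hB, hW, isHomLift_hom' a₀ hρ hA, isHomLift_hom' t₀ hρ hB, ?_⟩
  intro K _ s₁ l ρ' a' b' ha' hb'
  obtain ⟨ζ, e, k, α, hα, hαb, hd, hk⟩ := exists_sch_obj hA l ρ' a' ha'
  obtain ⟨β, hβ⟩ := (toSpFam S n).map_surjective (e.hom ≫ b'.hom)
  have hβb : β.base = k.hom ≫ l := by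
    have hb : b'.hom.base = eqToHom hd ≫ l := by
      have h1 := IsHomLift.fac' (Curves S n).p l b'
      have h2 : (Curves S n).p.map b' = b'.hom.base := rfl
      rw [← h2, h1]
      simp
    have h3 : β.base = (e.hom ≫ b'.hom).base := congrArg SpFamObj.Hom.base hβ
    rw [h3]
    change e.hom.base ≫ b'.hom.base = _
    rw [hb, ← hk, Category.assoc]
  -- the square over the field
  let kl : ζ.base.left ≅ Spec (CommRingCat.of K) := (Over.forget S).mapIso k
  have hkl : kl.hom = k.hom.left := rfl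
  have e1 : α.base.left = kl.hom ≫ l.left := congrArg CommaMorphism.left hαb
  have e2 : β.base.left = kl.hom ≫ l.left := congrArg CommaMorphism.left hβb
  have q₁ := isPullback_of_iso_base α.cart kl l.left e1
  have q₂ := isPullback_of_iso_base β.cart kl l.left e2
  obtain ⟨g, v, k1, k2, k3, k4, k5⟩ := hu K l.left ζ.C (ζ.f ≫ kl.hom) α.top β.top (fun i => kl.inv ≫ ζ.sect i) q₁ q₂
    (fun i => by rw [Category.assoc, reassoc_of% (ζ.sect_f i), kl.inv_hom_id])
    (fun i => by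
      have := α.w_sect i
      rw [Category.assoc, this, e1, Category.assoc, kl.inv_hom_id_assoc])
    (fun i => by
      have := β.w_sect i
      rw [Category.assoc, this, e2, Category.assoc, kl.inv_hom_id_assoc])
  have k1' : (kl.hom ≫ g) ≫ r = α.base.left := by rw [Category.assoc, k1, e1]
  let c : ζ ⟶ ρ := ptHomMk (Over.homMk (kl.hom ≫ g) (by
      change (kl.hom ≫ g) ≫ r ≫ Z.hom = ζ.base.hom
      rw [← Category.assoc, k1']
      exact Over.w α.base)) v (by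
        change IsPullback v ζ.f p (kl.hom ≫ g)
        refine IsPullback.of_right ?_ (by rw [k2, Category.assoc]) sX
        rw [k3, k1']
        exact α.cart) (fun i => by
        change ζ.sect i ≫ v = (kl.hom ≫ g) ≫ s i
        rw [Category.assoc, ← k5 i, ← Category.assoc, kl.hom_inv_id_assoc])
  have c1 : c ≫ a₀ = α := PtFamObj.hom_ext (Over.OverMorphism.ext k1') k3
  have c2 : c ≫ t₀ = β := by
    refine PtFamObj.hom_ext (Over.OverMorphism.ext ?_) k4
    exact k1'.trans (e1.trans e2.symm)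
  refine ⟨ObjectProperty.homMk (e.inv ≫ (toSpFam S n).map c), ?_, ?_⟩
  · apply ObjectProperty.hom_ext
    change (e.inv ≫ (toSpFam S n).map c) ≫ (toSpFam S n).map a₀ = a'.hom
    rw [Category.assoc, ← Functor.map_comp, c1, hα, e.inv_hom_id_assoc]
  · apply ObjectProperty.hom_ext
    change (e.inv ≫ (toSpFam S n).map c) ≫ (toSpFam S n).map t₀ = b'.hom
    rw [Category.assoc, ← Functor.map_comp, c2, hβ, e.inv_hom_id_assoc]

/-- Base change of a pointed family. -/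
noncomputable abbrev bcFam (A : PtFamObj S n) {T' : Over S} (σ : T' ⟶ A.base) : PtFamObj S n :=
  { base := T'
    C := pullback A.f σ.left
    f := pullback.snd _ _
    sect := fun k => (IsPullback.of_hasPullback A.f σ.left).lift (σ.left ≫ A.sect k) (𝟙 _)
      (by rw [Category.assoc, A.sect_f, Category.comp_id, Category.id_comp])
    sect_f := fun k => (IsPullback.of_hasPullback A.f σ.left).lift_snd _ _ _ }

/-- The projection of the base change. -/
noncomputable abbrev bcHom (A : PtFamObj S n) {T' : Over S} (σ : T' ⟶ A.base) : bcFam A σ ⟶ A :=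
  ptHomMk σ (pullback.fst _ _) (IsPullback.of_hasPullback A.f σ.left) (fun k => (IsPullback.of_hasPullback _ _).lift_fst _ _ _)

theorem exists_iso_bc {A : SpFamObj S n} (hA : IsCurveFam A) {A₁ : PtFamObj S n} (m : (toSpFam S n).obj A₁ ⟶ A)
    {Z : Over S} (z : Z ⟶ A₁.base) (hZ : IsCurveFam ((toSpFam S n).obj (bcFam A₁ z))) (ξ' : (Curves S n).obj)
    (a : ξ' ⟶ (⟨A, hA⟩ : (Curves S n).obj)) {g : Z ⟶ A.base} (hg : z ≫ m.base = g)
    (ha : (Curves S n).p.IsHomLift g a) :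
    ∃ i : obj' (bcFam A₁ z) hZ ≅ ξ', IsVert (Curves S n) i.hom := by
  let b : obj' (bcFam A₁ z) hZ ⟶ (⟨A, hA⟩ : (Curves S n).obj) :=
    ObjectProperty.homMk ((toSpFam S n).map (bcHom A₁ z) ≫ m)
  have hb : (Curves S n).p.IsHomLift g b := by
    refine (K734.Fib.isHomLift_iff_map_eq (𝒳 := Curves S n) (a := obj' (bcFam A₁ z) hZ)
      (b := (⟨A, hA⟩ : (Curves S n).obj)) g b).2 ?_
    exact hg
  obtain ⟨e, he, -⟩ := exists_iso_of_lift (K740.CurvAlg.isPrestack S n).1 hb ha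
  exact ⟨e, he⟩

/-- **The diagonal of the stack of curves is quasi-compact**, given that families of curves are étale locally
H-projective schemes. -/
theorem main_of (H2 : K902.EtSchRed.ProjEtLoc.{u})
    (hE : ∀ A : SpFamObj S n, IsCurveFam A → K901.EtSch.EtLocSch A) {Q : MorphismProperty (AlgSp.Sp S)}
    (hd : AlgSt.RepByAlgSpWith Q (FibCat.diag (FibCat.toSelf (Curves S n)))) :
    AlgSt.RepByAlgSpWith (AlgSp.IsQuasiCompactMor ⊓ Q) (FibCat.diag (FibCat.toSelf (Curves S n))) := by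
  refine repByAlgSpWith_diag (K740.CurvAlg.isPrestack S n).1 hd ?_
  rintro T ⟨⟨bA, X, f, σ, hσ⟩, hA⟩ ⟨⟨bB, Y, g, τ, hτ⟩, hB⟩ h1 h2 t
  change bA = T at h1
  change bB = T at h2
  subst h1 h2
  let A : SpFamObj S n := ⟨bB, X, f, σ, hσ⟩
  let B : SpFamObj S n := ⟨bB, Y, g, τ, hτ⟩
  obtain ⟨A₀, m₁, v₁, M₁, r₁, a1, a2, a3, a4, -⟩ := K740.CurvAlg.exists_local H2 hA (hE _ hA) t
  obtain ⟨B₀, m₂, v₂, M₂, r₂, b1, b2, b3, b4, -⟩ := K740.CurvAlg.exists_local H2 hB (hE _ hB) t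
  -- the common refinement
  let p₁ : A₀.base.left ⟶ bB.left := m₁.base.left
  let p₂ : B₀.base.left ⟶ bB.left := m₂.base.left
  have hp₁ : Etale p₁ := a2
  have hp₂ : Etale p₂ := b2
  obtain ⟨v, hv1, hv2⟩ := Scheme.Pullback.exists_preimage_pullback (f := p₁) (g := p₂) v₁ v₂ (a3.trans b3.symm)
  let V : Over S := Over.mk (pullback.fst p₁ p₂ ≫ A₀.base.hom)
  have w₁ : p₁ ≫ bB.hom = A₀.base.hom := Over.w m₁.base
  have w₂ : p₂ ≫ bB.hom = B₀.base.hom := Over.w m₂.base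
  let π₁ : V ⟶ A₀.base := Over.homMk (pullback.fst p₁ p₂) rfl
  let π₂ : V ⟶ B₀.base := Over.homMk (pullback.snd p₁ p₂) (by
    change pullback.snd p₁ p₂ ≫ B₀.base.hom = pullback.fst p₁ p₂ ≫ A₀.base.hom
    rw [← w₁, ← w₂, pullback.condition_assoc])
  let G : V ⟶ bB := π₁ ≫ m₁.base
  have hG : π₂ ≫ m₂.base = G := Over.OverMorphism.ext pullback.condition.symm
  let AV := bcFam A₀ π₁
  let BV := bcFam B₀ π₂
  obtain ⟨U, hU, hgood⟩ := (exists_mdl (a4.bc (IsPullback.of_hasPullback A₀.f π₁.left))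
    (b4.bc (IsPullback.of_hasPullback B₀.f π₂.left)) n AV.sect BV.sect AV.sect_f BV.sect_f).exists_good v
  let V' : Over S := Over.mk (U.ι ≫ V.hom)
  let j : V' ⟶ V := Over.homMk U.ι rfl
  refine ⟨V', j ≫ G, ⟨v, hU⟩, ?_, ?_, ?_⟩
  · change Etale (U.ι ≫ pullback.fst p₁ p₂ ≫ p₁)
    infer_instance
  · change p₁ (pullback.fst p₁ p₂ v) = t
    rw [hv1]
    exact a3
  · intro Z z hZ ξ' η' a b ha hb
    have hr : Set.range (z ≫ j).left ⊆ (U : Set ↥V.left) := by
      rintro _ ⟨x, rfl⟩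
      exact (z.left x).2
    let AZ := bcFam AV (z ≫ j)
    let BZ := bcFam BV (z ≫ j)
    have hgd : Good AZ.f BZ.f AZ.sect BZ.sect :=
      hgood Z.left AZ.C BZ.C (z ≫ j).left AZ.f BZ.f (pullback.fst _ _) (pullback.fst _ _) AZ.sect BZ.sect hr
        (IsPullback.of_hasPullback _ _) (IsPullback.of_hasPullback _ _) AZ.sect_f BZ.sect_f
        (bcHom AV (z ≫ j)).w_sect (bcHom BV (z ≫ j)).w_sect
    have hqi : HasQI AZ.f BZ.f AZ.sect BZ.sect := hasQI_of_good hgd AZ.sect_f BZ.sect_f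
    have cAV : IsCurveFam ((toSpFam S n).obj AV) :=
      K898.MbarEq.isCurveFam_of_hom ((toSpFam S n).map (bcHom A₀ π₁) ≫ m₁) hA
    have cBV : IsCurveFam ((toSpFam S n).obj BV) :=
      K898.MbarEq.isCurveFam_of_hom ((toSpFam S n).map (bcHom B₀ π₂) ≫ m₂) hB
    have cAZ : IsCurveFam ((toSpFam S n).obj AZ) :=
      K898.MbarEq.isCurveFam_of_hom ((toSpFam S n).map (bcHom AV (z ≫ j))) cAV
    have cBZ : IsCurveFam ((toSpFam S n).obj BZ) :=
      K898.MbarEq.isCurveFam_of_hom ((toSpFam S n).map (bcHom BV (z ≫ j))) cBV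
    obtain ⟨i, hi⟩ := exists_iso_bc hA (A₁ := AV) ((toSpFam S n).map (bcHom A₀ π₁) ≫ m₁) (z ≫ j) cAZ ξ' a
      (g := z ≫ j ≫ G) (Category.assoc _ _ _) ha
    obtain ⟨k, hk⟩ := exists_iso_bc hB (A₁ := BV) ((toSpFam S n).map (bcHom B₀ π₂) ≫ m₂) (z ≫ j) cBZ η' b
      (g := z ≫ j ≫ G) (by
        rw [← hG]
        exact Category.assoc _ _ _) hb
    exact QCI.congr (qci_of_hasQI AZ.sect_f BZ.sect_f cAZ cBZ hqi) hi hk

end K903.IsomQC
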