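import Groth.Prelude.Def_CurvBase
import Groth.Agent.CalgB.PowField
import Groth.Agent.Ega4dB.CIFieldExt
import Groth.Agent.Ega4dB.CITransport
import Groth.Agent.Ega4dB.FiberStalk
import Groth.Agent.S0548
import Groth.Agent.Sga67.FiberPre
import Groth.Agent.CurvesB.NodeSch2
import Groth.Agent.S1561
import Groth.Agent.CurvSt.K903.NonsmoothFin

/-!
# A proper at-worst-nodal curve over an algebraically closed field is a local complete intersection
-/

set_option autoImplicit false
universe u

open CategoryTheory CategoryTheory.Limits AlgebraicGeometry TopologicalSpace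

namespace K903.CINodal

open Groth.Agent

theorem isClosed_of_chain {X : Type u} [TopologicalSpace X] [T0Space X] (hdim : topologicalKrullDim X ≤ 1) {q y : X}
    (h : q ⤳ y) (hne : q ≠ y) : IsClosed ({y} : Set X) := by
  have key : closure ({y} : Set X) ⊆ {y} := by
    intro w hw
    by_contra hwy
    have hyw : y ⤳ w := specializes_iff_mem_closure.mpr hw
    let I : X → IrreducibleCloseds X := fun x => ⟨closure {x}, isIrreducible_singleton.closure, isClosed_closure⟩
    have hlt : ∀ x x' : X, x ⤳ x' → x ≠ x' → I x' < I x := by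
      intro x x' hx hxne
      refine lt_of_le_of_ne (specializes_iff_closure_subset.mp hx) fun he => hxne ?_
      have h1 : closure ({x'} : Set X) = closure {x} := congrArg IrreducibleCloseds.carrier he
      exact (inseparable_iff_closure_eq.mpr h1.symm).eq
    let s : LTSeries (IrreducibleCloseds X) :=
      { length := 2
        toFun := ![I w, I y, I q]
        step := by
          intro i
          fin_cases i
          · exact hlt y w hyw fun h => hwy h.symm
          · exact hlt q y h hne }
    have h2 : ((2 : ℕ) : WithBot ℕ∞) ≤ topologicalKrullDim X := Order.LTSeries.length_le_krullDim s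
    have h3 : ((2 : ℕ) : WithBot ℕ∞) ≤ ((1 : ℕ) : WithBot ℕ∞) := h2.trans hdim
    exact absurd (by exact_mod_cast h3 : (2 : ℕ) ≤ 1) (by decide)
  have : closure ({y} : Set X) = {y} := le_antisymm key subset_closure
  rw [← this]
  exact isClosed_closure

/-- A regular local ring is a complete intersection. -/
theorem isCI_of_regular (A : Type u) [CommRing A] [IsRegularLocalRing A] : Pi1.IsCompleteIntersection A := by
  have h1 : IsRegularLocalRing (AdicCompletion (IsLocalRing.maximalIdeal A) A) := (S0548.result A).1 inferInstance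
  refine ⟨AdicCompletion (IsLocalRing.maximalIdeal A) A, inferInstance, h1, [], by simp, ?_, ⟨?_⟩⟩
  · exact RingTheory.Sequence.IsRegular.nil _ _
  · exact (RingEquiv.quotientBot _).symm.trans (Ideal.quotEquivOfEq (by simp))

/-- An ordinary double point is a complete intersection. -/
theorem isCI_of_isOrdDoublePt (K : Type u) [Field K] (A : Type u) [CommRing A] [Algebra K A] [IsLocalRing A]
    (h : Curv2.IsOrdDoublePt K A) : Pi1.IsCompleteIntersection A := by
  obtain ⟨e, -⟩ := h
  let B := MvPowerSeries (Fin 2) K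
  let r : B := MvPowerSeries.X 0 * MvPowerSeries.X 1
  have : IsRegularLocalRing B := CalgB.PowField.isRegularLocalRing K 2
  have hX : ∀ i : Fin 2, (MvPowerSeries.X i : B) ≠ 0 := fun i h => by
    have := congrArg (MvPowerSeries.coeff (Finsupp.single i 1)) h
    simp at this
  have hr0 : r ≠ 0 := mul_ne_zero (hX 0) (hX 1)
  have hrm : r ∈ IsLocalRing.maximalIdeal B := by
    rw [IsLocalRing.mem_maximalIdeal, mem_nonunits_iff]
    intro hu
    have h1 : IsUnit (MvPowerSeries.constantCoeff (σ := Fin 2) (R := K)
      (MvPowerSeries.X 0 * MvPowerSeries.X 1)) := hu.map (MvPowerSeries.constantCoeff (σ := Fin 2) (R := K))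
    rw [map_mul, MvPowerSeries.constantCoeff_X, zero_mul] at h1
    exact not_isUnit_zero h1
  have hw : RingTheory.Sequence.IsWeaklyRegular B [r] := by
    rw [RingTheory.Sequence.isWeaklyRegular_singleton_iff]
    intro a b hab
    exact mul_left_cancel₀ hr0 hab
  refine ⟨B, inferInstance, this, [r], ?_, ?_, ⟨e.trans (Ideal.quotEquivOfEq ?_)⟩⟩
  · intro s hs
    rw [List.mem_singleton] at hs
    rw [hs]
    exact hrm
  · refine RingTheory.Sequence.IsRegular.of_isWeaklyRegular_of_mem_maximalIdeal _ ?_ hw
    intro s hs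
    rw [List.mem_singleton] at hs
    rw [hs]
    exact hrm
  · congr 1
    ext s
    simp [r]

section

variable {k : Type u} [Field k] {X : Scheme.{u}} (f : X ⟶ Spec (CommRingCat.of k))

theorem fibIdeal_eq_bot (x : X) : Ega4dB.FiberStalk.fibIdeal f x = ⊥ := by
  have h : IsLocalRing.maximalIdeal ((Spec (CommRingCat.of k)).presheaf.stalk (f x)) = ⊥ := by
    rw [← IsLocalRing.isField_iff_maximalIdeal_eq]
    have hs : Subsingleton ↥(Spec (CommRingCat.of k)) := inferInstanceAs (Subsingleton (PrimeSpectrum k))
    exact Sga67.FiberPre.isField_stalk _ fun t _ => hs.elim t (f x)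
  rw [Ega4dB.FiberStalk.fibIdeal, h, Ideal.map_bot]

theorem isCI_fiberStalk_iff (x : X) :
    Pi1.IsCompleteIntersection (CInt.fiberStalk f x) ↔ Pi1.IsCompleteIntersection (X.presheaf.stalk x) :=
  Ega4dB.CITransport.isCompleteIntersection_iff_of_ringEquiv
    ((Ega4dB.FiberStalk.fiberStalkEquiv f x).symm.trans
      ((Ideal.quotEquivOfEq (fibIdeal_eq_bot f x)).trans (RingEquiv.quotientBot _)))

end

section

variable (k : Type u) [Field k] (X : Scheme.{u}) [X.Over (Spec (CommRingCat.of k))]

theorem isCI_of_isNode [LocallyOfFiniteType (X ↘ Spec (CommRingCat.of k))] (x : X) (h : Curv2.IsNode k X x) :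
    Pi1.IsCompleteIntersection (X.presheaf.stalk x) := by
  obtain ⟨-, xb, rfl, hxb⟩ := h
  let _ : (Curv2.bc k X (AlgebraicClosure k)).Over (Spec (CommRingCat.of (AlgebraicClosure k))) :=
      ⟨Curv2.bcSnd k X (AlgebraicClosure k)⟩
  let _ := Curv2.stalkAlgebra (AlgebraicClosure k) (Curv2.bc k X (AlgebraicClosure k)) xb
  exact (Ega4dB.CIFieldExt.isCI_iff X (X ↘ Spec (CommRingCat.of k)) xb).2 (isCI_of_isOrdDoublePt _ _ hxb)

end

section

variable (k : Type u) [Field k] [IsAlgClosed k] (X : Scheme.{u}) [X.Over (Spec (CommRingCat.of k))]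
  [LocallyOfFiniteType (X ↘ Spec (CommRingCat.of k))] [LocallyOfFinitePresentation (X ↘ Spec (CommRingCat.of k))]

/-- A non-smooth point of a reduced scheme has a proper generization. -/
theorem exists_gen [IsReduced X] (x : X) (hx : x ∉ (X ↘ Spec (CommRingCat.of k)).smoothLocus) :
    ∃ y : X, y ⤳ x ∧ y ≠ x := by
  by_contra hcon
  push Not at hcon
  have h1 : IsField (X.presheaf.stalk x) := Sga67.FiberPre.isField_stalk x hcon
  have h2 : IsRegularLocalRing (X.presheaf.stalk x) := by
    have := h1.isDomain
    have := h1.isPrincipalIdealRing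
    infer_instance
  exact hx (((S1561.result k X).1 x).2 h2)

theorem isClosed_of_nonsmooth [IsReduced X] (hdim : topologicalKrullDim X ≤ 1) (x : X)
    (hx : x ∉ (X ↘ Spec (CommRingCat.of k)).smoothLocus) : IsClosed ({x} : Set X) := by
  obtain ⟨y, hy, hne⟩ := exists_gen k X x hx
  exact isClosed_of_chain hdim hy hne

theorem isCI_stalk [IsReduced X] (hdim : topologicalKrullDim X ≤ 1) (hX : Curv2.AtWorstNodal k X) (x : X) :
    Pi1.IsCompleteIntersection (X.presheaf.stalk x) := by
  by_cases hx : x ∈ (X ↘ Spec (CommRingCat.of k)).smoothLocus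
  · have := ((S1561.result k X).1 x).1 hx
    exact isCI_of_regular _
  · rcases hX x (isClosed_of_nonsmooth k X hdim x hx) with h | h
    · exact absurd ((NonsmoothFin.mem_smoothLocus_iff_exists _ x).2 h) hx
    · exact isCI_of_isNode k X x h

theorem isCIMorphism [IsReduced X] (hdim : topologicalKrullDim X ≤ 1) (hX : Curv2.AtWorstNodal k X) :
    CInt.IsCIMorphism (X ↘ Spec (CommRingCat.of k)) :=
  ⟨inferInstance, inferInstance, fun x => (isCI_fiberStalk_iff _ x).2 (isCI_stalk k X hdim hX x)⟩

end

end K903.CINodal
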