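import Groth.Agent.CurvSt.K740.Hilb

/-!
# Noetherian models of pairs of pointed embedded families of curves (helper903)
-/

set_option autoImplicit false
set_option backward.isDefEq.respectTransparency false
set_option backward.isDefEq.respectTransparency.types false

universe u

open CategoryTheory CategoryTheory.Limits AlgebraicGeometry

namespace K903.PtModel

open K740.Emb

/-- A model of a pair of pointed embedded families over a locally Noetherian scheme. -/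
def Mdl {n : ℕ} {Z X Y : Scheme.{u}} (gX : X ⟶ Z) (gY : Y ⟶ Z) (σ : Fin n → (Z ⟶ X)) (τ : Fin n → (Z ⟶ Y)) : Prop :=
  ∃ (N M : ℕ) (T₀ X₀ Y₀ : Scheme.{u}) (g₀ : X₀ ⟶ T₀) (h₀ : Y₀ ⟶ T₀) (jX : X₀ ⟶ PZ N) (jY : Y₀ ⟶ PZ M)
    (b : Z ⟶ T₀) (a : X ⟶ X₀) (c : Y ⟶ Y₀) (σ₀ : Fin n → (T₀ ⟶ X₀)) (τ₀ : Fin n → (T₀ ⟶ Y₀)),
    IsLocallyNoetherian T₀ ∧ IsEmb N g₀ jX ∧ IsEmb M h₀ jY ∧ IsPullback a gX g₀ b ∧ IsPullback c gY h₀ b ∧
    (∀ i, σ₀ i ≫ g₀ = 𝟙 _) ∧ (∀ i, τ₀ i ≫ h₀ = 𝟙 _) ∧ (∀ i, σ i ≫ a = b ≫ σ₀ i) ∧ (∀ i, τ i ≫ c = b ≫ τ₀ i)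

theorem mdl_zero {N M : ℕ} {Z X Y : Scheme.{u}} {gX : X ⟶ Z} {gY : Y ⟶ Z} {jX : X ⟶ PZ N} {jY : Y ⟶ PZ M}
    (hX : IsEmb N gX jX) (hY : IsEmb M gY jY) (σ : Fin 0 → (Z ⟶ X)) (τ : Fin 0 → (Z ⟶ Y)) : Mdl gX gY σ τ := by
  obtain ⟨H₁, U₁, q₁, j₁, hH₁, hU₁, hu₁⟩ := K740.Hilb.exists_hilb N (𝟙 (PZ N))
  obtain ⟨H₂, U₂, q₂, j₂, hH₂, hU₂, hu₂⟩ := K740.Hilb.exists_hilb M (𝟙 (PZ M))
  rw [Category.comp_id] at hU₁ hU₂
  obtain ⟨g₁, ⟨i₁, sq₁, -⟩, -⟩ := hu₁ gX jX (by rwa [Category.comp_id])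
  obtain ⟨g₂, ⟨i₂, sq₂, -⟩, -⟩ := hu₂ gY jY (by rwa [Category.comp_id])
  let p := specULiftZIsTerminal.from H₁
  let q := specULiftZIsTerminal.from H₂
  let b : Z ⟶ pullback p q := pullback.lift g₁ g₂ (specULiftZIsTerminal.hom_ext _ _)
  have hb₁ : b ≫ pullback.fst p q = g₁ := pullback.lift_fst _ _ _
  have hb₂ : b ≫ pullback.snd p q = g₂ := pullback.lift_snd _ _ _
  have s₁ := IsPullback.of_hasPullback q₁ (pullback.fst p q)
  have s₂ := IsPullback.of_hasPullback q₂ (pullback.snd p q)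
  have hN1 : IsLocallyNoetherian H₁ := LocallyOfFiniteType.isLocallyNoetherian p
  have hN : IsLocallyNoetherian (pullback p q) := LocallyOfFiniteType.isLocallyNoetherian (pullback.fst p q)
  refine ⟨N, M, pullback p q, _, _, pullback.snd q₁ (pullback.fst p q), pullback.snd q₂ (pullback.snd p q),
    pullback.fst q₁ (pullback.fst p q) ≫ j₁, pullback.fst q₂ (pullback.snd p q) ≫ j₂, b,
    s₁.lift i₁ (gX ≫ b) (by rw [sq₁.w, Category.assoc, hb₁]), s₂.lift i₂ (gY ≫ b) (by rw [sq₂.w, Category.assoc, hb₂]),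
    fun i => i.elim0, fun i => i.elim0, hN, hU₁.bc s₁, hU₂.bc s₂, ?_, ?_, fun i => i.elim0, fun i => i.elim0,
    fun i => i.elim0, fun i => i.elim0⟩
  · refine IsPullback.of_right (h₁₂ := pullback.fst q₁ (pullback.fst p q)) (v₁₃ := q₁) (h₂₂ := pullback.fst p q) ?_
      (s₁.lift_snd _ _ _) s₁
    rw [s₁.lift_fst, hb₁]
    exact sq₁
  · refine IsPullback.of_right (h₁₂ := pullback.fst q₂ (pullback.snd p q)) (v₁₃ := q₂) (h₂₂ := pullback.snd p q) ?_
      (s₂.lift_snd _ _ _) s₂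
    rw [s₂.lift_fst, hb₂]
    exact sq₂

theorem exists_mdl {N M : ℕ} {Z X Y : Scheme.{u}} {gX : X ⟶ Z} {gY : Y ⟶ Z} {jX : X ⟶ PZ N} {jY : Y ⟶ PZ M}
    (hX : IsEmb N gX jX) (hY : IsEmb M gY jY) : ∀ (n : ℕ) (σ : Fin n → (Z ⟶ X)) (τ : Fin n → (Z ⟶ Y)),
    (∀ i, σ i ≫ gX = 𝟙 _) → (∀ i, τ i ≫ gY = 𝟙 _) → Mdl gX gY σ τ
  | 0, σ, τ, _, _ => mdl_zero hX hY σ τ
  | n + 1, σ, τ, hσ, hτ => by
    obtain ⟨N, M, T₀, X₀, Y₀, g₀, h₀, jX, jY, b, a, c, σ₀, τ₀, hN, e₁, e₂, s₁, s₂, h₁, h₂, h₃, h₄⟩ :=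
      exists_mdl hX hY n (fun i => σ i.castSucc) (fun i => τ i.castSucc) (fun i => hσ _) (fun i => hτ _)
    have l₁ := e₁.lfp
    have l₂ := e₂.lfp
    -- the new base
    let sq := IsPullback.of_hasPullback g₀ h₀
    let d : pullback g₀ h₀ ⟶ T₀ := pullback.fst g₀ h₀ ≫ g₀
    have hd : d = pullback.snd g₀ h₀ ≫ h₀ := sq.w
    have hN1 : IsLocallyNoetherian (pullback g₀ h₀) := LocallyOfFiniteType.isLocallyNoetherian d
    let b' : Z ⟶ pullback g₀ h₀ := pullback.lift (σ (Fin.last n) ≫ a) (τ (Fin.last n) ≫ c) (by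
      rw [Category.assoc, Category.assoc, s₁.w, s₂.w, reassoc_of% (hσ (Fin.last n)), reassoc_of% (hτ (Fin.last n))])
    have hb' : b' ≫ d = b := by
      rw [pullback.lift_fst_assoc, Category.assoc, s₁.w, reassoc_of% (hσ (Fin.last n))]
    have hb1 : b' ≫ pullback.fst g₀ h₀ = σ (Fin.last n) ≫ a := pullback.lift_fst _ _ _
    have hb2 : b' ≫ pullback.snd g₀ h₀ = τ (Fin.last n) ≫ c := pullback.lift_snd _ _ _
    have t₁ := IsPullback.of_hasPullback g₀ d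
    have t₂ := IsPullback.of_hasPullback h₀ d
    let a' : X ⟶ pullback g₀ d := t₁.lift a (gX ≫ b') (by rw [s₁.w, Category.assoc, hb'])
    let c' : Y ⟶ pullback h₀ d := t₂.lift c (gY ≫ b') (by rw [s₂.w, Category.assoc, hb'])
    have ha1 : a' ≫ pullback.fst g₀ d = a := t₁.lift_fst _ _ _
    have ha2 : a' ≫ pullback.snd g₀ d = gX ≫ b' := t₁.lift_snd _ _ _
    have hc1 : c' ≫ pullback.fst h₀ d = c := t₂.lift_fst _ _ _
    have hc2 : c' ≫ pullback.snd h₀ d = gY ≫ b' := t₂.lift_snd _ _ _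
    let σ' : Fin (n + 1) → (pullback g₀ h₀ ⟶ pullback g₀ d) := Fin.lastCases
      (t₁.lift (pullback.fst g₀ h₀) (𝟙 _) (by rw [Category.id_comp]))
      (fun i => t₁.lift (d ≫ σ₀ i) (𝟙 _) (by rw [Category.assoc, h₁, Category.comp_id, Category.id_comp]))
    let τ' : Fin (n + 1) → (pullback g₀ h₀ ⟶ pullback h₀ d) := Fin.lastCases
      (t₂.lift (pullback.snd g₀ h₀) (𝟙 _) (by rw [Category.id_comp, hd]))
      (fun i => t₂.lift (d ≫ τ₀ i) (𝟙 _) (by rw [Category.assoc, h₂, Category.comp_id, Category.id_comp]))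
    refine ⟨N, M, pullback g₀ h₀, _, _, pullback.snd g₀ d, pullback.snd h₀ d, pullback.fst g₀ d ≫ jX,
      pullback.fst h₀ d ≫ jY, b', a', c', σ', τ', hN1, e₁.bc t₁, e₂.bc t₂, ?_, ?_, ?_, ?_, ?_, ?_⟩
    · refine IsPullback.of_right (h₁₂ := pullback.fst g₀ d) (v₁₃ := g₀) (h₂₂ := d) ?_ ha2 t₁
      rw [ha1, hb']
      exact s₁
    · refine IsPullback.of_right (h₁₂ := pullback.fst h₀ d) (v₁₃ := h₀) (h₂₂ := d) ?_ hc2 t₂
      rw [hc1, hb']
      exact s₂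
    · intro i
      refine Fin.lastCases ?_ (fun i => ?_) i
      · simp only [σ', Fin.lastCases_last]
        exact t₁.lift_snd _ _ _
      · simp only [σ', Fin.lastCases_castSucc]
        exact t₁.lift_snd _ _ _
    · intro i
      refine Fin.lastCases ?_ (fun i => ?_) i
      · simp only [τ', Fin.lastCases_last]
        exact t₂.lift_snd _ _ _
      · simp only [τ', Fin.lastCases_castSucc]
        exact t₂.lift_snd _ _ _
    · intro i
      refine Fin.lastCases ?_ (fun i => ?_) i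
      · simp only [σ', Fin.lastCases_last]
        refine t₁.hom_ext ?_ ?_
        · rw [Category.assoc, ha1, Category.assoc, t₁.lift_fst, hb1]
        · rw [Category.assoc, ha2, Category.assoc, t₁.lift_snd, reassoc_of% (hσ (Fin.last n)), Category.comp_id]
      · simp only [σ', Fin.lastCases_castSucc]
        refine t₁.hom_ext ?_ ?_
        · rw [Category.assoc, ha1, Category.assoc, t₁.lift_fst, h₃, reassoc_of% hb']
        · rw [Category.assoc, ha2, Category.assoc, t₁.lift_snd, reassoc_of% (hσ i.castSucc), Category.comp_id]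
    · intro i
      refine Fin.lastCases ?_ (fun i => ?_) i
      · simp only [τ', Fin.lastCases_last]
        refine t₂.hom_ext ?_ ?_
        · rw [Category.assoc, hc1, Category.assoc, t₂.lift_fst, hb2]
        · rw [Category.assoc, hc2, Category.assoc, t₂.lift_snd, reassoc_of% (hτ (Fin.last n)), Category.comp_id]
      · simp only [τ', Fin.lastCases_castSucc]
        refine t₂.hom_ext ?_ ?_
        · rw [Category.assoc, hc1, Category.assoc, t₂.lift_fst, h₄, reassoc_of% hb']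
        · rw [Category.assoc, hc2, Category.assoc, t₂.lift_snd, reassoc_of% (hτ i.castSucc), Category.comp_id]

end K903.PtModel
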