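import Groth.Prelude.Def_StCurv2

/-!
# Finiteness of automorphism groups of pointed curves with unique limits: the statement on schemes

* `K903.AutStmt.Lim q σ`: automorphisms of the generic fibre of a constant family over a discrete valuation ring with
  algebraically closed residue field which keep the sections extend.
* `K903.AutStmt.Fin q σ`: there are only finitely many automorphisms keeping the sections.
* `K903.AutStmt.Stmt`: the first implies the second, for reduced connected proper curves with `3 ≤ 2 g + n`.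
-/

set_option autoImplicit false

universe u

open CategoryTheory CategoryTheory.Limits AlgebraicGeometry

namespace K903.AutStmt

/-- Automorphisms over the fraction field of a discrete valuation ring with algebraically closed residue field which keep
the sections extend. -/
def Lim {Ω : Type u} [Field Ω] {X : Scheme.{u}} (q : X ⟶ Spec (CommRingCat.of Ω)) {n : ℕ}
    (σ : Fin n → (Spec (CommRingCat.of Ω) ⟶ X)) : Prop :=
  ∀ (R : Type u) [CommRing R] [IsDomain R] [IsDiscreteValuationRing R],
    IsAlgClosed (IsLocalRing.ResidueField R) →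
    ∀ (L : Type u) [Field L] [Algebra R L] [IsFractionRing R L]
      (a : Spec (CommRingCat.of R) ⟶ Spec (CommRingCat.of Ω))
      (XR XL : Scheme.{u}) (jR : XR ⟶ X) (qR : XR ⟶ Spec (CommRingCat.of R)) (_ : IsPullback jR qR q a)
      (jL : XL ⟶ XR) (qL : XL ⟶ Spec (CommRingCat.of L))
      (_ : IsPullback jL qL qR (Spec.map (CommRingCat.ofHom (algebraMap R L))))
      (τ : Fin n → (Spec (CommRingCat.of L) ⟶ XL)), (∀ i, τ i ≫ qL = 𝟙 _) →
      (∀ i, τ i ≫ jL ≫ jR = Spec.map (CommRingCat.ofHom (algebraMap R L)) ≫ a ≫ σ i) →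
      ∀ e : XL ≅ XL, e.hom ≫ qL = qL → (∀ i, τ i ≫ e.hom = τ i) →
        ∃ E : XR ≅ XR, E.hom ≫ qR = qR ∧ jL ≫ E.hom = e.hom ≫ jL

/-- Only finitely many automorphisms keep the sections. -/
def FinAut {Ω : Type u} [Field Ω] {X : Scheme.{u}} (q : X ⟶ Spec (CommRingCat.of Ω)) {n : ℕ}
    (σ : Fin n → (Spec (CommRingCat.of Ω) ⟶ X)) : Prop :=
  Set.Finite {e : X ≅ X | e.hom ≫ q = q ∧ ∀ i, σ i ≫ e.hom = σ i}

/-- The scheme form of the finiteness of automorphism groups. -/
def Stmt : Prop :=
  ∀ (Ω : Type u) [Field Ω] [IsAlgClosed Ω] (X : Scheme.{u}) (q : X ⟶ Spec (CommRingCat.of Ω)) [IsProper q]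
    [IsReduced X] [ConnectedSpace X] (_ : topologicalKrullDim X = 1) (n : ℕ)
    (σ : Fin n → (Spec (CommRingCat.of Ω) ⟶ X)) (_ : ∀ i, σ i ≫ q = 𝟙 _)
    (_ : 3 ≤ 2 * (letI : X.Over (Spec (CommRingCat.of Ω)) := ⟨q⟩; Curv2.genus Ω X) + n),
    Lim q σ → FinAut q σ

end K903.AutStmt
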