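import Groth.Agent.CurvSt.K903.AutUniv
import Groth.Agent.CurvSt.K903.AutStmt
import Groth.Agent.AlgSt.K738.Sep1
import Groth.Agent.S4450

/-!
# Closed families of automorphisms of a curve with unique limits are proper
-/

set_option autoImplicit false
set_option backward.isDefEq.respectTransparency false
set_option backward.isDefEq.respectTransparency.types false

universe u

open CategoryTheory CategoryTheory.Limits AlgebraicGeometry

namespace K903.AutUniv

variable {Ω : Type u} [Field Ω] {X : Scheme.{u}} {q : X ⟶ Spec (CommRingCat.of Ω)} (U : UnivAut q) {n : ℕ}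
  (σ : Fin n → (Spec (CommRingCat.of Ω) ⟶ X))

/-- The family classified by `g` fixes the sections. -/
def Fixes {T : Scheme.{u}} (g : T ⟶ U.B) : Prop :=
  ∀ (i : Fin n) (k : T ⟶ U.V), k ≫ U.p = g → k ≫ U.a = g ≫ U.j ≫ U.rH ≫ σ i → k ≫ U.t = g ≫ U.j ≫ U.rH ≫ σ i

variable {U σ}

theorem Fixes.comp (hσ : ∀ i, σ i ≫ q = 𝟙 _) {T T' : Scheme.{u}} {g : T ⟶ U.B} (h : Fixes U σ g) (f : T' ⟶ T) :
    Fixes U σ (f ≫ g) := by
  intro i k h1 h2
  let k' : T ⟶ U.V := U.sa.lift (g ≫ U.j ≫ U.rH ≫ σ i) g (by simp [hσ])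
  have e1 : k' ≫ U.a = g ≫ U.j ≫ U.rH ≫ σ i := U.sa.lift_fst _ _ _
  have e2 : k' ≫ U.p = g := U.sa.lift_snd _ _ _
  have e3 : k = f ≫ k' := by
    apply U.sa.hom_ext
    · rw [h2, Category.assoc, Category.assoc, e1]
    · rw [h1, Category.assoc, e2]
  rw [e3, Category.assoc, h i k' e2 e1, Category.assoc]

/-- Limits of automorphisms over discrete valuation rings. -/
theorem exists_lift [IsProper q] (hσ : ∀ i, σ i ≫ q = 𝟙 _) (hlim : AutStmt.Lim q σ) (R : Type u) [CommRing R] [IsDomain R]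
    [IsDiscreteValuationRing R] (hR : IsAlgClosed (IsLocalRing.ResidueField R)) (L : Type u) [Field L] [Algebra R L]
    [IsFractionRing R L] (h : Spec (CommRingCat.of R) ⟶ U.H) (gB : Spec (CommRingCat.of L) ⟶ U.B)
    (hg : gB ≫ U.j = Spec.map (CommRingCat.ofHom (algebraMap R L)) ≫ h) (hfix : Fixes U σ gB) :
    ∃ gR : Spec (CommRingCat.of R) ⟶ U.B, gR ≫ U.j = h := by
  have i3 := U.proper
  let m : Spec (CommRingCat.of L) ⟶ Spec (CommRingCat.of R) := Spec.map (CommRingCat.ofHom (algebraMap R L))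
  change gB ≫ U.j = m ≫ h at hg
  let a₀ : Spec (CommRingCat.of R) ⟶ Spec (CommRingCat.of Ω) := h ≫ U.rH
  have sR : IsPullback (pullback.fst q a₀) (pullback.snd q a₀) q a₀ := IsPullback.of_hasPullback _ _
  have sL : IsPullback (pullback.fst (pullback.snd q a₀) m) (pullback.snd (pullback.snd q a₀) m)
    (pullback.snd q a₀) m := IsPullback.of_hasPullback _ _
  -- the base changed family of automorphisms over `L`
  have sV : IsPullback (pullback.fst U.p gB) (pullback.snd U.p gB) U.p gB := IsPullback.of_hasPullback _ _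
  have hb : gB ≫ U.j ≫ U.rH = m ≫ a₀ := by rw [reassoc_of% hg]
  have sVa : IsPullback (pullback.fst U.p gB ≫ U.a) (pullback.snd U.p gB) q (m ≫ a₀) := by
    rw [← hb]
    exact sV.paste_horiz U.sa
  have sVt : IsPullback (pullback.fst U.p gB ≫ U.t) (pullback.snd U.p gB) q (m ≫ a₀) := by
    rw [← hb]
    exact sV.paste_horiz U.st
  have sLR := sL.paste_horiz sR
  let w : pullback (pullback.snd q a₀) m ≅ pullback U.p gB := sLR.isoIsPullback _ _ sVa
  have w1 : w.hom ≫ pullback.fst U.p gB ≫ U.a = pullback.fst (pullback.snd q a₀) m ≫ pullback.fst q a₀ :=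
    sLR.isoIsPullback_hom_fst _ _ _
  have w2 : w.hom ≫ pullback.snd U.p gB = pullback.snd (pullback.snd q a₀) m := sLR.isoIsPullback_hom_snd _ _ _
  let t₁ : pullback (pullback.snd q a₀) m ⟶ X := w.hom ≫ pullback.fst U.p gB ≫ U.t
  have st₁ : IsPullback t₁ (pullback.snd (pullback.snd q a₀) m) q (m ≫ a₀) := by
    refine sVt.of_iso w.symm (Iso.refl _) (Iso.refl _) (Iso.refl _) ?_ ?_ ?_ ?_
    · simp [t₁]
    · change _ ≫ 𝟙 _ = w.inv ≫ _
      rw [Category.comp_id, ← w2, w.inv_hom_id_assoc]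
    · simp
    · simp
  let e : pullback (pullback.snd q a₀) m ≅ pullback (pullback.snd q a₀) m := st₁.isoIsPullback _ _ sLR
  have e1 : e.hom ≫ pullback.fst (pullback.snd q a₀) m ≫ pullback.fst q a₀ = t₁ := st₁.isoIsPullback_hom_fst _ _ _
  have e2 : e.hom ≫ pullback.snd (pullback.snd q a₀) m = pullback.snd (pullback.snd q a₀) m :=
    st₁.isoIsPullback_hom_snd _ _ _
  let τ : Fin n → (Spec (CommRingCat.of L) ⟶ pullback (pullback.snd q a₀) m) := fun i =>
    sLR.lift (m ≫ a₀ ≫ σ i) (𝟙 _) (by simp [hσ])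
  have τ1 (i) : τ i ≫ pullback.fst (pullback.snd q a₀) m ≫ pullback.fst q a₀ = m ≫ a₀ ≫ σ i := sLR.lift_fst _ _ _
  have τ2 (i) : τ i ≫ pullback.snd (pullback.snd q a₀) m = 𝟙 _ := sLR.lift_snd _ _ _
  have τe (i) : τ i ≫ e.hom = τ i := by
    apply sLR.hom_ext
    · rw [Category.assoc, e1, τ1]
      have k1 : (τ i ≫ w.hom ≫ pullback.fst U.p gB) ≫ U.p = gB := by
        rw [Category.assoc, Category.assoc, sV.w, reassoc_of% w2, reassoc_of% (τ2 i)]
      have k2 : (τ i ≫ w.hom ≫ pullback.fst U.p gB) ≫ U.a = gB ≫ U.j ≫ U.rH ≫ σ i := by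
        rw [Category.assoc, Category.assoc, w1, τ1, reassoc_of% hb]
      have k3 := hfix i _ k1 k2
      rw [reassoc_of% hb, Category.assoc, Category.assoc] at k3
      exact k3
    · rw [Category.assoc, e2]
  obtain ⟨E, E1, E2⟩ := hlim R hR L a₀ _ _ _ _ sR _ _ sL τ τ2 τ1 e e2 τe
  have sE : IsPullback (E.hom ≫ pullback.fst q a₀) (pullback.snd q a₀) q a₀ := by
    refine sR.of_iso E.symm (Iso.refl _) (Iso.refl _) (Iso.refl _) ?_ ?_ ?_ ?_
    · simp
    · change _ ≫ 𝟙 _ = E.inv ≫ _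
      rw [Category.comp_id, Iso.eq_inv_comp, E1]
    · simp
    · simp
  obtain ⟨gR, vR, k1, k2, k3, k4⟩ := U.ex _ a₀ _ _ _ _ sR sE
  have huniq : m ≫ gR = gB := by
    refine U.uniq _ (m ≫ a₀) _ _ _ _ sLR st₁ (m ≫ gR) gB (pullback.fst (pullback.snd q a₀) m ≫ vR)
      (w.hom ≫ pullback.fst U.p gB) ?_ hb ?_ ?_ ?_ ?_ ?_ ?_
    · rw [Category.assoc, k1]
    · rw [Category.assoc, k2, sL.w_assoc]
    · rw [Category.assoc, sV.w, reassoc_of% w2]
    · rw [Category.assoc, k3]
    · rw [Category.assoc, w1]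
    · rw [Category.assoc, k4, reassoc_of% E2, e1]
    · rw [Category.assoc]
  refine ⟨gR, ?_⟩
  have hinj : Function.Injective (algebraMap R L) := IsFractionRing.injective R L
  have hdom : IsDominant m :=
    ⟨(PrimeSpectrum.denseRange_comap_iff_ker_le_nilRadical (algebraMap R L)).2
      (by rw [(RingHom.injective_iff_ker_eq_bot _).1 hinj]; exact bot_le)⟩
  refine ext_of_isDominant_of_isSeparated U.rH ?_ m ?_
  · rw [Category.assoc, k1]
  · rw [reassoc_of% huniq, hg]

/-- The closedness of an integral closed family. -/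
theorem isClosed_range [IsProper q] (hσ : ∀ i, σ i ≫ q = 𝟙 _) (hlim : AutStmt.Lim q σ) {Z : Scheme.{u}} [IsIntegral Z]
    (ζ : Z ⟶ U.B) [IsClosedImmersion ζ] (hfix : Fixes U σ ζ) : IsClosed (Set.range (ζ ≫ U.j)) := by
  have i1 := U.openImm
  have i2 := U.noeth
  have i3 := U.proper
  let x := genericPoint Z
  rw [← closure_subset_iff_isClosed]
  intro y' hy'
  have hsp : (ζ ≫ U.j) x ⤳ y' := by
    have h1 : Set.range (ζ ≫ U.j) ⊆ closure {(ζ ≫ U.j) x} := by
      rintro _ ⟨z, rfl⟩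
      exact (specializes_iff_mem_closure.1 ((genericPoint_specializes z).map (ζ ≫ U.j).continuous))
    exact specializes_iff_mem_closure.2 (closure_minimal h1 isClosed_closure hy')
  by_cases hne : y' = (ζ ≫ U.j) x
  · exact ⟨x, hne.symm⟩
  have i4 : LocallyOfFiniteType (ζ ≫ U.j) := inferInstance
  obtain ⟨A, h, hA, hc, hAx⟩ := Groth.Agent.S4450.result (ζ ≫ U.j) x y' hsp hne
  have i5 : IsFractionRing A (Z.residueField x) := inferInstance
  obtain ⟨R, L, _, _, _, _, _, _, φ, ψ, hφ, hR, hφψ⟩ := K738.Sep.exists_ext A (Z.residueField x)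
  let gL : Spec (CommRingCat.of L) ⟶ Z := Spec.map (CommRingCat.ofHom ψ) ≫ Z.fromSpecResidueField x
  have hsq : Spec.map (CommRingCat.ofHom (algebraMap R L)) ≫ Spec.map (CommRingCat.ofHom φ) =
      Spec.map (CommRingCat.ofHom ψ) ≫ Spec.map (CommRingCat.ofHom (algebraMap A (Z.residueField x))) := by
    rw [← Spec.map_comp, ← Spec.map_comp, ← CommRingCat.ofHom_comp, ← CommRingCat.ofHom_comp, hφψ]
  obtain ⟨gR, hgR⟩ := exists_lift (U := U) hσ hlim R hR L (Spec.map (CommRingCat.ofHom φ) ≫ h) (gL ≫ ζ) (by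
    rw [reassoc_of% hsq, Category.assoc, Category.assoc]
    exact congrArg (Spec.map (CommRingCat.ofHom ψ) ≫ ·) hAx.symm) (hfix.comp hσ gL)
  let b : U.B := gR (IsLocalRing.closedPoint R)
  have hb : U.j b = y' := by
    rw [← hc]
    change U.j (gR (IsLocalRing.closedPoint R)) = _
    rw [← Scheme.Hom.comp_apply, hgR, Scheme.Hom.comp_apply]
    congr 1
    exact IsLocalRing.comap_closedPoint φ
  have hbx : b ∈ closure {ζ x} := by
    rw [← specializes_iff_mem_closure, ← U.j.isOpenEmbedding.isInducing.specializes_iff, hb]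
    exact hsp
  have hcl : IsClosed (Set.range ζ) := ζ.isClosedEmbedding.isClosed_range
  have hsub : closure {ζ x} ⊆ Set.range ζ := closure_minimal (Set.singleton_subset_iff.2 (Set.mem_range_self x)) hcl
  obtain ⟨z, hz⟩ := hsub hbx
  exact ⟨z, by rw [Scheme.Hom.comp_apply, hz, hb]⟩

/-- Integral closed families are proper. -/
theorem isProper_of_fixes [IsProper q] (hσ : ∀ i, σ i ≫ q = 𝟙 _) (hlim : AutStmt.Lim q σ) {Z : Scheme.{u}} [IsIntegral Z]
    (ζ : Z ⟶ U.B) [IsClosedImmersion ζ] (hfix : Fixes U σ ζ) : IsProper (ζ ≫ U.j ≫ U.rH) := by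
  have i1 := U.openImm
  have i3 := U.proper
  have h1 := IsClosedImmersion.of_isPreimmersion (ζ ≫ U.j) (isClosed_range hσ hlim ζ hfix)
  rw [← Category.assoc]
  infer_instance

end K903.AutUniv
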