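import Groth.Agent.CurvSt.K903.AutRigid
import Groth.Agent.CurvSt.K902.NodalLci

/-!
# Finiteness of automorphism groups of pointed curves with unique limits

* `finAut_marked` : with at least one marked point;
* `finAut_nonsmooth` : with a non-smooth point.
-/

set_option autoImplicit false
set_option backward.isDefEq.respectTransparency false
set_option backward.isDefEq.respectTransparency.types false

universe u

open CategoryTheory CategoryTheory.Limits AlgebraicGeometry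

namespace K903.AutFin

open K903.AutUniv K903.AutStmt

variable {Ω : Type u} [Field Ω] [IsAlgClosed Ω] {X : Scheme.{u}} (q : X ⟶ Spec (CommRingCat.of Ω)) [IsProper q]
  [IsReduced X] [ConnectedSpace X] {n : ℕ} (σ : Fin n → (Spec (CommRingCat.of Ω) ⟶ X))

/-- Finiteness from a contracted point. -/
theorem finAut_of_contracted (U : UnivAut q) (hσ : ∀ i, σ i ≫ q = 𝟙 _) (hlim : Lim q σ)
    (x₀ : Spec (CommRingCat.of Ω) ⟶ X) (hx₀ : x₀ ≫ q = 𝟙 _)
    (hc : ∀ (Z : Scheme.{u}) (ζ : Z ⟶ U.B) [IsIntegral Z], Fixes U σ ζ →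
      ∃ y₀ : Spec (CommRingCat.of Ω) ⟶ X, ∀ v : Spec (CommRingCat.of Ω) ⟶ pullback U.p ζ,
        v ≫ pullback.fst U.p ζ ≫ U.a = x₀ → v ≫ pullback.fst U.p ζ ≫ U.t = y₀) : FinAut q σ := by
  by_contra hinf
  obtain ⟨Z, ζ, hZ, hζ, hfix, e₁, e₂, hne, he⟩ := exists_family U σ hσ hinf
  obtain ⟨y₀, hy₀⟩ := hc Z ζ hfix
  have hp : IsProper (ζ ≫ U.j ≫ U.rH) := isProper_of_fixes hσ hlim ζ hfix
  have sZ : IsPullback (pullback.fst U.p ζ) (pullback.snd U.p ζ) U.p ζ := IsPullback.of_hasPullback _ _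
  have sa := sZ.paste_horiz U.sa
  have hb : (pullback.fst U.p ζ ≫ U.t) ≫ q = (pullback.fst U.p ζ ≫ U.a) ≫ q := by
    rw [Category.assoc, Category.assoc, U.st.w, U.sa.w]
  obtain ⟨z₁, v₁, k1, k2, k3, k4⟩ := he e₁ (Or.inl rfl)
  obtain ⟨z₂, v₂, l1, l2, l3, l4⟩ := he e₂ (Or.inr rfl)
  have h := K903.AutRigid.eq_of_contracted q q (ζ ≫ U.j ≫ U.rH) _ _ sa (pullback.fst U.p ζ ≫ U.t) hb x₀ hx₀ y₀ hy₀
    (pullback.lift v₁ (q ≫ z₁) (by rw [k2, Category.assoc])) (pullback.lift v₂ (q ≫ z₂) (by rw [l2, Category.assoc]))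
    (by rw [pullback.lift_fst_assoc, k3]) (by rw [pullback.lift_fst_assoc, l3]) z₁ z₂ k1 l1
    (pullback.lift_snd _ _ _) (pullback.lift_snd _ _ _)
  rw [pullback.lift_fst_assoc, pullback.lift_fst_assoc, k4, l4] at h
  exact hne (Iso.ext h)

/-- **Finiteness with a marked point.** -/
theorem finAut_marked (hdim : topologicalKrullDim X = 1) (hσ : ∀ i, σ i ≫ q = 𝟙 _) (hlim : Lim q σ) (i₀ : Fin n) :
    FinAut q σ := by
  obtain ⟨U⟩ := exists_univAut q hdim
  refine finAut_of_contracted q σ U hσ hlim (σ i₀) (hσ i₀) fun Z ζ _ hfix => ⟨σ i₀, fun v hv => ?_⟩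
  have hw : (v ≫ pullback.snd U.p ζ ≫ ζ) ≫ U.j ≫ U.rH = 𝟙 _ := by
    rw [← pullback.condition, Category.assoc, Category.assoc, ← U.sa.w, reassoc_of% hv, hσ]
  have h1 := (hfix.comp hσ (v ≫ pullback.snd U.p ζ)) i₀ (v ≫ pullback.fst U.p ζ)
    (by rw [Category.assoc, pullback.condition, Category.assoc]) (by
      rw [Category.assoc, hv]
      have := congrArg (· ≫ σ i₀) hw
      simp only [Category.assoc, Category.id_comp] at this
      simp only [Category.assoc]
      exact this.symm)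
  rw [Category.assoc] at h1
  rw [h1]
  have := congrArg (· ≫ σ i₀) hw
  simp only [Category.assoc, Category.id_comp] at this
  simp only [Category.assoc]
  exact this

/-- **Finiteness with a non-smooth point.** -/
theorem finAut_nonsmooth (hdim : topologicalKrullDim X = 1) (hσ : ∀ i, σ i ≫ q = 𝟙 _) (hlim : Lim q σ)
    (hns : ¬ Smooth q) : FinAut q σ := by
  obtain ⟨U⟩ := exists_univAut q hdim
  have hlfp : LocallyOfFinitePresentation q := LocallyOfFinitePresentation.iff_locallyOfFiniteType.2 inferInstance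
  let i1 : X.Over (Spec (CommRingCat.of Ω)) := ⟨q⟩
  have i2 : LocallyOfFiniteType (X ↘ Spec (CommRingCat.of Ω)) := inferInstanceAs (LocallyOfFiniteType q)
  have i3 : LocallyOfFinitePresentation (X ↘ Spec (CommRingCat.of Ω)) := hlfp
  have i4 : IsLocallyNoetherian X := LocallyOfFiniteType.isLocallyNoetherian q
  have i5 : CompactSpace X := QuasiCompact.compactSpace_of_compactSpace q
  have i6 : IsNoetherian X := ⟨⟩
  have hcl : ∀ x : X, x ∉ q.smoothLocus → IsClosed ({x} : Set X) := fun x hx =>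
    K903.CINodal.isClosed_of_nonsmooth Ω X hdim.le x hx
  have hfin : Set.Finite ((q.smoothLocus : Set X))ᶜ :=
    K902.NodalLci.finite_of_forall_isClosed q.smoothLocus.isOpen.isClosed_compl fun z hz => hcl z hz
  obtain ⟨x, hx⟩ : ∃ x : X, x ∉ q.smoothLocus := by
    by_contra hcon
    push Not at hcon
    exact hns (Scheme.Hom.smoothLocus_eq_top_iff.1 (by ext x; simp [hcon x]))
  let x₀ : Spec (CommRingCat.of Ω) ⟶ X := pointOfClosedPoint q x (hcl x hx)
  have hx₀ : x₀ ≫ q = 𝟙 _ := pointOfClosedPoint_comp _ _ _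
  refine finAut_of_contracted q σ U hσ hlim x₀ hx₀ fun Z ζ _ _ => ?_
  have sZ : IsPullback (pullback.fst U.p ζ) (pullback.snd U.p ζ) U.p ζ := IsPullback.of_hasPullback _ _
  have sa := sZ.paste_horiz U.sa
  have st := sZ.paste_horiz U.st
  have hsl : (pullback.fst U.p ζ ≫ U.a) ⁻¹ᵁ q.smoothLocus = (pullback.fst U.p ζ ≫ U.t) ⁻¹ᵁ q.smoothLocus := by
    have h1 : LocallyOfFinitePresentation (pullback.snd U.p ζ) := MorphismProperty.of_isPullback sa hlfp
    rw [← Groth.Agent.S2155.result _ _ _ _ sa (Or.inl inferInstance),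
      ← Groth.Agent.S2155.result _ _ _ _ st (Or.inl inferInstance)]
  let τ : Z ⟶ pullback U.p ζ := sa.lift ((ζ ≫ U.j ≫ U.rH) ≫ x₀) (𝟙 Z) (by
    rw [Category.assoc, hx₀, Category.comp_id, Category.id_comp])
  have τ1 : τ ≫ pullback.fst U.p ζ ≫ U.a = (ζ ≫ U.j ≫ U.rH) ≫ x₀ := sa.lift_fst _ _ _
  have τ2 : τ ≫ pullback.snd U.p ζ = 𝟙 Z := sa.lift_snd _ _ _
  let y : Z ⟶ X := τ ≫ pullback.fst U.p ζ ≫ U.t
  have hy : Set.range y ⊆ ((q.smoothLocus : Set X))ᶜ := by
    rintro _ ⟨z, rfl⟩ hz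
    have h1 : τ z ∈ (pullback.fst U.p ζ ≫ U.t) ⁻¹ᵁ q.smoothLocus := by
      have : y z = (pullback.fst U.p ζ ≫ U.t) (τ z) := Scheme.Hom.comp_apply _ _ _
      rw [this] at hz
      exact hz
    rw [← hsl] at h1
    have h2 : (pullback.fst U.p ζ ≫ U.a) (τ z) ∈ q.smoothLocus := h1
    rw [← Scheme.Hom.comp_apply, τ1, Scheme.Hom.comp_apply] at h2
    refine hx ?_
    rwa [pointOfClosedPoint_apply] at h2
  obtain ⟨y₁, hy₁⟩ : ∃ y₁ : X, y₁ ∉ q.smoothLocus ∧ ∀ z, y z = y₁ := by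
    have h1 : IsIrreducible (Set.range y) := by
      rw [← Set.image_univ]
      exact (IrreducibleSpace.isIrreducible_univ Z).image _ y.continuous.continuousOn
    obtain ⟨D, hD, h2⟩ := isIrreducible_iff_sUnion_isClosed.1 h1
      ((hfin.toFinset).image fun x => ({x} : Set X)) (fun D hD => by
        obtain ⟨x, hx, rfl⟩ := Finset.mem_image.1 hD
        exact hcl x ((Set.Finite.mem_toFinset hfin).1 hx)) (fun w hw => by
        refine ⟨{w}, ?_, rfl⟩
        rw [Finset.mem_coe, Finset.mem_image]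
        exact ⟨w, (Set.Finite.mem_toFinset hfin).2 (hy hw), rfl⟩)
    obtain ⟨y₁, h3, rfl⟩ := Finset.mem_image.1 hD
    exact ⟨y₁, (Set.Finite.mem_toFinset hfin).1 h3, fun z => h2 ⟨z, rfl⟩⟩
  refine ⟨pointOfClosedPoint q y₁ (hcl y₁ hy₁.1), fun v hv => ?_⟩
  have hw : (v ≫ pullback.snd U.p ζ) ≫ ζ ≫ U.j ≫ U.rH = 𝟙 _ := by
    rw [Category.assoc, ← sa.w, ← Category.assoc, hv, hx₀]
  have hvτ : v = (v ≫ pullback.snd U.p ζ) ≫ τ := by
    apply sa.hom_ext
    · rw [hv, Category.assoc, τ1]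
      have := congrArg (· ≫ x₀) hw
      simp only [Category.assoc, Category.id_comp] at this
      simp only [Category.assoc]
      exact this.symm
    · rw [Category.assoc, Category.assoc, τ2, Category.comp_id]
  refine ext_of_apply_closedPoint_eq q ?_ (pointOfClosedPoint_comp _ _ _) ?_
  · rw [Category.assoc, st.w, ← Category.assoc, hw]
  · rw [pointOfClosedPoint_apply]
    have : v ≫ pullback.fst U.p ζ ≫ U.t = (v ≫ pullback.snd U.p ζ) ≫ y := by
      conv_lhs => rw [hvτ]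
      simp only [Category.assoc, y]
    rw [this, Scheme.Hom.comp_apply]
    exact hy₁.2 _

/-- **Finiteness of the automorphism group**, given the case of smooth curves of genus at least two. -/
theorem finAut (hdim : topologicalKrullDim X = 1) (hσ : ∀ i, σ i ≫ q = 𝟙 _) (hlim : Lim q σ)
    (hg : 3 ≤ 2 * (letI : X.Over (Spec (CommRingCat.of Ω)) := ⟨q⟩; Curv2.genus Ω X) + n)
    (hsm : Smooth q → 2 ≤ (letI : X.Over (Spec (CommRingCat.of Ω)) := ⟨q⟩; Curv2.genus Ω X) → FinAut q σ) :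
    FinAut q σ := by
  rcases Nat.eq_zero_or_pos n with rfl | hn
  · by_cases hs : Smooth q
    · exact hsm hs (by omega)
    · exact finAut_nonsmooth q σ hdim hσ hlim hs
  · exact finAut_marked q σ hdim hσ hlim ⟨0, hn⟩

end K903.AutFin
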