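import Groth.Agent.CurvSt.K903.AutT
import Groth.Agent.CurvSt.K898.DMness
import Groth.Agent.Grpsch.AbUnram
import Groth.Agent.Ega1.GenPts
import Groth.Agent.Sga4B.SmoothNormal
import Mathlib.AlgebraicGeometry.Morphisms.FlatMono

/-!
# Finiteness of automorphism groups of curves without derivations

The universal automorphism scheme of a curve without derivations is unramified at its rational points; the automorphism
group is finite.
-/

set_option autoImplicit false
set_option backward.isDefEq.respectTransparency false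
set_option backward.isDefEq.respectTransparency.types false

universe u

open CategoryTheory CategoryTheory.Limits AlgebraicGeometry MonoidalCategory CartesianMonoidalCategory

namespace K903.AutSmooth

open K903.AutUniv K903.AutStmt Groth.Agent.Grpsch.AbTangent Groth.Agent.Grpsch.AbStalk Groth.Agent.Grpsch.AbUnram

section point

variable {K : Type u} [Field K]

/-- A rational point without tangent vectors is open. -/
theorem isOpen_of_tangent (B : Over (Spec (CommRingCat.of K))) [LocallyOfFiniteType B.hom]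
    (x : 𝟙_ (Over (Spec (CommRingCat.of K))) ⟶ B)
    (h : ∀ τ : specT (K := K) K ⟶ B, specT0 K ≫ τ = x → τ = toUnit _ ≫ x) :
    IsOpen ({x.left (IsLocalRing.closedPoint K)} : Set B.left) := by
  have h1 : LocallyOfFiniteType (toUnit B).left := by
    rw [Over.toUnit_left]; infer_instance
  have h2 := formallyUnramified_stalkMap (toUnit B) x (fun τ hτ _ => h τ hτ)
  have h3 : (B.hom.stalkMap (pt x)).hom.FormallyUnramified := h2
  have h4 := isField_stalk _ h3
  have hc : x.left ≫ B.hom = 𝟙 _ := Over.w x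
  have hm : Mono x.left := by
    have : IsSplitMono x.left := ⟨⟨⟨B.hom, hc⟩⟩⟩
    infer_instance
  have hn : IsLocallyNoetherian B.left :=
    LocallyOfFiniteType.isLocallyNoetherian B.hom
  have hft : LocallyOfFiniteType x.left := by
    have : LocallyOfFiniteType (x.left ≫ B.hom) := by rw [hc]; infer_instance
    exact locallyOfFiniteType_of_comp x.left B.hom
  have hfp : LocallyOfFinitePresentation x.left :=
    (LocallyOfFinitePresentation.iff_locallyOfFiniteType).2 hft
  have hfl : Flat x.left := by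
    refine Flat.of_stalkMap _ (fun y => ?_)
    have hy : y = IsLocalRing.closedPoint K := @Subsingleton.elim (PrimeSpectrum K) inferInstance _ _
    subst hy
    let := h4.toField
    algebraize [(x.left.stalkMap (IsLocalRing.closedPoint K)).hom]
    exact Module.Flat.of_free
  have ho : IsOpenImmersion x.left := IsOpenImmersion.of_flat_of_mono _
  have hr : Set.range x.left = {x.left (IsLocalRing.closedPoint K)} := by
    ext y
    constructor
    · rintro ⟨z, rfl⟩
      rw [@Subsingleton.elim (PrimeSpectrum K) inferInstance z (IsLocalRing.closedPoint K)]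
      rfl
    · rintro rfl
      exact ⟨_, rfl⟩
  rw [← hr]
  exact x.left.isOpenEmbedding.isOpen_range

end point

section def_

variable {Ω : Type u} [Field Ω] {X : Scheme.{u}} {q : X ⟶ Spec (CommRingCat.of Ω)} (U : UnivAut q)

/-- First order deformations of automorphisms of a scheme without derivations are trivial. -/
theorem eq_of_noDer [IsProper q] (hno : K680.AutGeo.NoDer (k := Ω) q) (e : X ≅ X) (he : e.hom ≫ q = q)
    {g : Spec (CommRingCat.of Ω) ⟶ U.B} {v : X ⟶ U.V} (h1 : g ≫ U.j ≫ U.rH = 𝟙 _) (h2 : v ≫ U.p = q ≫ g)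
    (h3 : v ≫ U.a = 𝟙 X) (h4 : v ≫ U.t = e.hom) (τ : Spec (CommRingCat.of (DualNumber Ω)) ⟶ U.B)
    (l : Spec (CommRingCat.of (DualNumber Ω)) ⟶ Spec (CommRingCat.of Ω)) (hl : τ ≫ U.j ≫ U.rH = l)
    (hil : K750.Unram.incl Ω ≫ l = 𝟙 _) (hτ : K750.Unram.incl Ω ≫ τ = g) : τ = l ≫ g := by
  subst hl
  have sV : IsPullback (pullback.fst U.p τ) (pullback.snd U.p τ) U.p τ := IsPullback.of_hasPullback _ _
  have sa := sV.paste_horiz U.sa
  have st := sV.paste_horiz U.st
  let C := pullback U.p τ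
  have hf : Flat (pullback.snd U.p τ) := MorphismProperty.of_isPullback sa (P := @Flat) inferInstance
  -- the closed fibre
  let i : X ⟶ C := pullback.lift v (q ≫ K750.Unram.incl Ω) (by rw [h2, Category.assoc, hτ])
  have i1 : i ≫ pullback.fst U.p τ = v := pullback.lift_fst _ _ _
  have i2 : i ≫ pullback.snd U.p τ = q ≫ K750.Unram.incl Ω := pullback.lift_snd _ _ _
  have sq : IsPullback i q (pullback.snd U.p τ) (K750.Unram.incl Ω) := by
    refine IsPullback.of_right (h₁₂ := pullback.fst U.p τ ≫ U.a) (v₁₃ := q) (h₂₂ := τ ≫ U.j ≫ U.rH) ?_ i2 sa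
    have e1 : i ≫ pullback.fst U.p τ ≫ U.a = 𝟙 X := by rw [reassoc_of% i1, h3]
    rw [e1, hil]
    exact IsPullback.of_horiz_isIso ⟨by simp⟩
  -- the automorphism
  have st' : IsPullback ((pullback.fst U.p τ ≫ U.t) ≫ e.inv) (pullback.snd U.p τ) q (τ ≫ U.j ≫ U.rH) := by
    have hei : e.inv ≫ q = q := by rw [Iso.inv_comp_eq, he]
    have s1 : IsPullback e.inv q q (𝟙 _) := IsPullback.of_horiz_isIso ⟨by rw [hei, Category.comp_id]⟩
    have s2 := st.paste_horiz s1
    rwa [Category.comp_id] at s2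
  let θ : C ≅ C := st'.isoIsPullback _ _ sa
  have θ1 : θ.hom ≫ pullback.fst U.p τ ≫ U.a = (pullback.fst U.p τ ≫ U.t) ≫ e.inv := st'.isoIsPullback_hom_fst _ _ _
  have θ2 : θ.hom ≫ pullback.snd U.p τ = pullback.snd U.p τ := st'.isoIsPullback_hom_snd _ _ _
  have hi : i ≫ θ.hom = i := by
    apply sa.hom_ext
    · rw [Category.assoc, θ1, ← Category.assoc, ← Category.assoc, i1, h4, e.hom_inv_id, ← Category.assoc, i1, h3]
    · rw [Category.assoc, θ2]
  have hid := K898.Unr.hom_eq_id_of_noDer _ sq hno θ θ2 hi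
  rw [hid, Category.id_comp] at θ1
  have key : pullback.fst U.p τ ≫ U.t = (pullback.fst U.p τ ≫ U.a) ≫ e.hom := by
    rw [θ1, Category.assoc, e.inv_hom_id, Category.comp_id]
  have hn : IsLocallyNoetherian (Spec (CommRingCat.of (DualNumber Ω))) := by
    have : IsNoetherianRing (DualNumber Ω) := inferInstance
    infer_instance
  refine U.uniq _ (τ ≫ U.j ≫ U.rH) C (pullback.snd U.p τ) _ _ sa st τ _ (pullback.fst U.p τ)
    ((pullback.fst U.p τ ≫ U.a) ≫ v) rfl ?_ sV.w ?_ rfl ?_ rfl ?_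
  · rw [Category.assoc, h1, Category.comp_id]
  · rw [Category.assoc, h2, ← Category.assoc (pullback.fst U.p τ ≫ U.a), sa.w, Category.assoc]
  · rw [Category.assoc, h3, Category.comp_id]
  · rw [Category.assoc, h4, key]

variable {n : ℕ} (σ : Fin n → (Spec (CommRingCat.of Ω) ⟶ X))

/-- **Finiteness for curves without derivations.** -/
theorem finAut_of_noDer [IsAlgClosed Ω] [IsProper q] (hdim : topologicalKrullDim X = 1)
    (hσ : ∀ i, σ i ≫ q = 𝟙 _) (hno : K680.AutGeo.NoDer (k := Ω) q) : FinAut q σ := by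
  obtain ⟨U⟩ := exists_univAut q hdim
  by_contra hinf
  have i1 := U.openImm
  have i2 := U.noeth
  have i3 := U.proper
  obtain ⟨Z, ζ, hZ, hζ, -, e₁, e₂, hne, he⟩ := exists_family U σ hσ hinf
  have hlft : LocallyOfFiniteType (Over.mk (U.j ≫ U.rH)).hom :=
    inferInstanceAs (LocallyOfFiniteType (U.j ≫ U.rH))
  have hopen : ∀ (e : X ≅ X) (z : Spec (CommRingCat.of Ω) ⟶ Z) (v : X ⟶ U.V), z ≫ ζ ≫ U.j ≫ U.rH = 𝟙 _ →
      v ≫ U.p = q ≫ z ≫ ζ → v ≫ U.a = 𝟙 X → v ≫ U.t = e.hom →
      IsOpen (ζ ⁻¹' {ζ (z (IsLocalRing.closedPoint Ω))}) := by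
    intro e z v k1 k2 k3 k4
    have heq : e.hom ≫ q = q := by
      rw [← k4, Category.assoc, U.st.w, reassoc_of% k2, k1, Category.comp_id]
    have hx : (z ≫ ζ) ≫ U.j ≫ U.rH = 𝟙 _ := by rw [Category.assoc, k1]
    let x : 𝟙_ (Over (Spec (CommRingCat.of Ω))) ⟶ Over.mk (U.j ≫ U.rH) := Over.homMk (z ≫ ζ) hx
    have h1 := isOpen_of_tangent (Over.mk (U.j ≫ U.rH)) x fun τ hτ => by
      ext1
      exact eq_of_noDer U hno e heq hx k2 k3 k4 τ.left (specT (K := Ω) Ω).hom (Over.w τ) (Over.w (specT0 Ω))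
        (congrArg CommaMorphism.left hτ)
    have h2 : x.left (IsLocalRing.closedPoint Ω) = ζ (z (IsLocalRing.closedPoint Ω)) := Scheme.Hom.comp_apply _ _ _
    rw [h2] at h1
    exact h1.preimage ζ.continuous
  obtain ⟨z₁, v₁, k1, k2, k3, k4⟩ := he e₁ (Or.inl rfl)
  obtain ⟨z₂, v₂, l1, l2, l3, l4⟩ := he e₂ (Or.inr rfl)
  have o1 := hopen e₁ z₁ v₁ k1 k2 k3 k4
  have o2 := hopen e₂ z₂ v₂ l1 l2 l3 l4
  obtain ⟨w, hw1, hw2⟩ := nonempty_preirreducible_inter o1 o2 ⟨_, rfl⟩ ⟨_, rfl⟩
  have hinj := ζ.isClosedEmbedding.injective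
  have e1 : w = z₁ (IsLocalRing.closedPoint Ω) := hinj hw1
  have e2 : w = z₂ (IsLocalRing.closedPoint Ω) := hinj hw2
  have hz : z₁ = z₂ := ext_of_apply_closedPoint_eq (ζ ≫ U.j ≫ U.rH) k1 l1 (e1.symm.trans e2)
  subst hz
  have hv : v₁ = v₂ := by
    apply U.sa.hom_ext
    · rw [k3, l3]
    · rw [k2, l2]
  exact hne (Iso.ext (by rw [← k4, ← l4, hv]))

/-- **Finiteness for smooth curves of genus at least two.** -/
theorem finAut_smooth [IsAlgClosed Ω] [IsProper q] [ConnectedSpace X] (hdim : topologicalKrullDim X = 1)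
    (hσ : ∀ i, σ i ≫ q = 𝟙 _) (hs : Smooth q)
    (hg : 2 ≤ (letI : X.Over (Spec (CommRingCat.of Ω)) := ⟨q⟩; Curv2.genus Ω X)) : FinAut q σ := by
  have hint : IsIntegral X := by
    have hl : IsLocallyNoetherian X := LocallyOfFiniteType.isLocallyNoetherian q
    rw [Groth.Agent.Ega1.GenPts.isIntegral_iff]
    exact ⟨inferInstance, fun x => (Groth.Agent.Sga4B.SmoothNormal.isNormalScheme_of_smooth q x).1⟩
  exact finAut_of_noDer σ hdim hσ (K898.DMness.noDer_smooth q ⟨inferInstance, hs, hint, hdim⟩ hg)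

end def_

end K903.AutSmooth
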