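import Groth.Agent.CurvSt.K903.AutFin
import Groth.Agent.CurvSt.K903.AutSmooth

/-!
# Reduced connected pointed curves with `3 ≤ 2 g + n` and unique limits have finitely many automorphisms
-/

set_option autoImplicit false

universe u

open CategoryTheory CategoryTheory.Limits AlgebraicGeometry

namespace K903.AutMain

/-- **The finiteness theorem.** -/
theorem stmt : K903.AutStmt.Stmt.{u} := by
  intro Ω _ _ X q _ _ _ hdim n σ hσ hg hlim
  exact K903.AutFin.finAut q σ hdim hσ hlim hg fun hs h2 => K903.AutSmooth.finAut_smooth σ hdim hσ hs h2

end K903.AutMain
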