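import Groth.Agent.CurvSt.K903.AutT
import Groth.Agent.PicF.K245.GeomCR
import Groth.Agent.Sga3B.RedIdComp
import Groth.Agent.Fdesc.GeomAlgClosed
import Groth.Agent.AutSch.K936.Rigid

/-!
# Rigidity: families of morphisms parametrised by a complete variety with a contracted point are constant
-/

set_option autoImplicit false

universe u

open CategoryTheory CategoryTheory.Limits AlgebraicGeometry

namespace K903.AutRigid

variable {Ω : Type u} [Field Ω] [IsAlgClosed Ω]

/-- A locally closed subset of a scheme locally of finite type over an algebraically closed field without rational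
points is empty. -/
theorem eq_empty_of_isLocallyClosed {V : Scheme.{u}} (p : V ⟶ Spec (CommRingCat.of Ω)) [LocallyOfFiniteType p] {S : Set V}
    (hS : IsLocallyClosed S) (h : ∀ v : Spec (CommRingCat.of Ω) ⟶ V, v ≫ p = 𝟙 _ →
      v (IsLocalRing.closedPoint Ω) ∉ S) : S = ∅ := by
  by_contra hne
  have : JacobsonSpace ↥V := LocallyOfFiniteType.jacobsonSpace p
  have h1 := JacobsonSpace.closure_inter_closedPoints_eq_closure hS
  have h2 : (S ∩ closedPoints V).Nonempty := by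
    rw [← closure_nonempty_iff, h1, closure_nonempty_iff]
    exact Set.nonempty_iff_ne_empty.2 hne
  obtain ⟨v₀, h3, h4⟩ := h2
  exact h (pointOfClosedPoint p v₀ h4) (pointOfClosedPoint_comp _ _ _) (by
    rw [pointOfClosedPoint_apply]
    exact h3)

theorem isClosed_point {V : Scheme.{u}} (p : V ⟶ Spec (CommRingCat.of Ω)) [LocallyOfFiniteType p]
    {v : Spec (CommRingCat.of Ω) ⟶ V} (hv : v ≫ p = 𝟙 _) : IsClosed ({v (IsLocalRing.closedPoint Ω)} : Set V) :=
  (pointEquivClosedPoint p ⟨v, hv⟩).2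

theorem eq_of_contracted {X Y Z V : Scheme.{u}}
    (q : X ⟶ Spec (CommRingCat.of Ω)) [LocallyOfFiniteType q] [IsReduced X] [ConnectedSpace X]
    (r : Y ⟶ Spec (CommRingCat.of Ω)) [IsSeparated r] [LocallyOfFiniteType r]
    (s : Z ⟶ Spec (CommRingCat.of Ω)) [IsProper s] [IsIntegral Z]
    (p₁ : V ⟶ X) (p₂ : V ⟶ Z) (hV : IsPullback p₁ p₂ q s) (b : V ⟶ Y) (hb : b ≫ r = p₁ ≫ q)
    (x₀ : Spec (CommRingCat.of Ω) ⟶ X) (hx₀ : x₀ ≫ q = 𝟙 _) (y₀ : Spec (CommRingCat.of Ω) ⟶ Y)
    (hc : ∀ v : Spec (CommRingCat.of Ω) ⟶ V, v ≫ p₁ = x₀ → v ≫ b = y₀)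
    (j j' : X ⟶ V) (hj : j ≫ p₁ = 𝟙 X) (hj' : j' ≫ p₁ = 𝟙 X)
    (z z' : Spec (CommRingCat.of Ω) ⟶ Z) (hz : z ≫ s = 𝟙 _) (hz' : z' ≫ s = 𝟙 _)
    (hjz : j ≫ p₂ = q ≫ z) (hjz' : j' ≫ p₂ = q ≫ z') : j ≫ b = j' ≫ b := by
  have i1 : IsProper p₁ := MorphismProperty.of_isPullback hV.flip inferInstance
  have i2 : GeometricallyReduced s := Groth.Agent.Sga3B.RedIdComp.geometricallyReduced_of_isReduced s
  have i3 : GeometricallyConnected s := Groth.Agent.Fdesc.GeomAlgClosed.geometricallyConnected_of_connectedSpace s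
  have i4 : LocallyOfFinitePresentation s := LocallyOfFinitePresentation.iff_locallyOfFiniteType.2 inferInstance
  have i5 : GeometricallyReduced p₁ := MorphismProperty.of_isPullback hV.flip i2
  have i6 : GeometricallyConnected p₁ := MorphismProperty.of_isPullback hV.flip i3
  have i7 : LocallyOfFinitePresentation p₁ := MorphismProperty.of_isPullback hV.flip i4
  have i8 : Flat p₁ := MorphismProperty.of_isPullback hV.flip (P := @Flat) inferInstance
  have i9 : Surjective p₁ := ⟨fun x => ⟨j x, by rw [← Scheme.Hom.comp_apply, hj]; rfl⟩⟩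
  have i10 : LocallyOfFiniteType (p₁ ≫ q) := inferInstance
  -- the sections
  let J : (w : Spec (CommRingCat.of Ω) ⟶ Z) → w ≫ s = 𝟙 _ → (X ⟶ V) := fun w hw =>
    hV.lift (𝟙 X) (q ≫ w) (by rw [Category.assoc, hw, Category.comp_id, Category.id_comp])
  have J1 (w hw) : J w hw ≫ p₁ = 𝟙 X := hV.lift_fst _ _ _
  have J2 (w hw) : J w hw ≫ p₂ = q ≫ w := hV.lift_snd _ _ _
  have Jj : j = J z hz := hV.hom_ext (by rw [hj, J1 z hz]) (by rw [hjz, J2 z hz])
  have Jj' : j' = J z' hz' := hV.hom_ext (by rw [hj', J1 z' hz']) (by rw [hjz', J2 z' hz'])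
  -- contracted points
  let O : Set X := {x | ∀ a b' : V, p₁ a = x → p₁ b' = x → b a = b b'}
  have hO : IsOpen O := K936.Rigid.isOpen_contracted p₁ p₁.isClosedMap (fun W => K245.GeomCR.isIso_app p₁ W) b
  -- criterion for rational points
  have crit : ∀ (x : Spec (CommRingCat.of Ω) ⟶ X), x ≫ q = 𝟙 _ → ∀ y : Spec (CommRingCat.of Ω) ⟶ Y, y ≫ r = 𝟙 _ →
      (∀ v : Spec (CommRingCat.of Ω) ⟶ V, v ≫ p₁ = x → v ≫ b = y) → x (IsLocalRing.closedPoint Ω) ∈ O := by
    intro x hx y hy hv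
    have h1 : ({a : V | p₁ a = x (IsLocalRing.closedPoint Ω)} ∩ {a | b a = y (IsLocalRing.closedPoint Ω)}ᶜ) = ∅ := by
      refine eq_empty_of_isLocallyClosed (p₁ ≫ q) ?_ ?_
      · have k1 : IsClosed {a : V | p₁ a = x (IsLocalRing.closedPoint Ω)} :=
          (isClosed_point q hx).preimage p₁.continuous
        have k2 : IsClosed {a : V | b a = y (IsLocalRing.closedPoint Ω)} :=
          (isClosed_point r hy).preimage b.continuous
        exact k1.isLocallyClosed.inter k2.isOpen_compl.isLocallyClosed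
      · rintro v hv1 ⟨h2, h3⟩
        have h4 : v ≫ p₁ = x := by
          refine ext_of_apply_closedPoint_eq q (by rw [Category.assoc, hv1]) hx ?_
          rw [Scheme.Hom.comp_apply]
          exact h2
        refine h3 ?_
        change b (v _) = _
        rw [← Scheme.Hom.comp_apply, hv v h4]
    intro a a' ha ha'
    have h5 : ∀ a : V, p₁ a = x (IsLocalRing.closedPoint Ω) → b a = y (IsLocalRing.closedPoint Ω) := by
      intro a ha
      by_contra hne
      have : a ∈ ({a : V | p₁ a = x (IsLocalRing.closedPoint Ω)} ∩ {a | b a = y (IsLocalRing.closedPoint Ω)}ᶜ) :=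
        ⟨ha, hne⟩
      rw [h1] at this
      exact this
    rw [h5 a ha, h5 a' ha']
  have hy₀ : y₀ ≫ r = 𝟙 _ := by
    have h1 := hc (x₀ ≫ j) (by rw [Category.assoc, hj, Category.comp_id])
    rw [← h1, Category.assoc, Category.assoc, hb, reassoc_of% hj, hx₀]
  have hx₀O : x₀ (IsLocalRing.closedPoint Ω) ∈ O := crit x₀ hx₀ y₀ hy₀ hc
  -- the closed set
  have hagree : ∀ w w' : {w : Spec (CommRingCat.of Ω) ⟶ Z // w ≫ s = 𝟙 _}, ∃ K : Set X, IsClosed K ∧
      (∀ x ∈ K, (J w.1 w.2 ≫ b) x = (J w'.1 w'.2 ≫ b) x) ∧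
      ∀ x : Spec (CommRingCat.of Ω) ⟶ X, x ≫ J w.1 w.2 ≫ b = x ≫ J w'.1 w'.2 ≫ b → x (IsLocalRing.closedPoint Ω) ∈ K := by
    intro w w'
    obtain ⟨W, ι, h1, h2, h3⟩ := K903.AutUniv.exists_agree' r 1 (fun _ => J w.1 w.2 ≫ b) (fun _ => J w'.1 w'.2 ≫ b)
      (fun _ => by rw [Category.assoc, Category.assoc, hb, reassoc_of% (J1 w.1 w.2), reassoc_of% (J1 w'.1 w'.2)])
    refine ⟨Set.range ι, ι.isClosedEmbedding.isClosed_range, ?_, fun x hx => ?_⟩
    · rintro _ ⟨y, rfl⟩
      rw [← Scheme.Hom.comp_apply, h2 0, Scheme.Hom.comp_apply]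
    · obtain ⟨x', hx'⟩ := h3 x (fun _ => hx)
      rw [← hx', Scheme.Hom.comp_apply]
      exact ⟨_, rfl⟩
  choose K hK hK1 hK2 using hagree
  let C : Set X := ⋂ (w) (w'), K w w'
  have hC : IsClosed C := isClosed_iInter fun w => isClosed_iInter fun w' => hK w w'
  have hOC : O = C := by
    have e1 : O ∩ Cᶜ = ∅ := by
      refine eq_empty_of_isLocallyClosed q (hO.isLocallyClosed.inter hC.isOpen_compl.isLocallyClosed) ?_
      rintro x hx ⟨h1, h2⟩
      refine h2 (Set.mem_iInter.2 fun w => Set.mem_iInter.2 fun w' => hK2 w w' x ?_)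
      refine ext_of_apply_closedPoint_eq r ?_ ?_ ?_
      · rw [Category.assoc, Category.assoc, hb, reassoc_of% (J1 w.1 w.2), hx]
      · rw [Category.assoc, Category.assoc, hb, reassoc_of% (J1 w'.1 w'.2), hx]
      · simp only [Scheme.Hom.comp_apply]
        refine h1 _ _ ?_ ?_
        · rw [← Scheme.Hom.comp_apply, J1 w.1 w.2]; rfl
        · rw [← Scheme.Hom.comp_apply, J1 w'.1 w'.2]; rfl
    have e2 : C ∩ Oᶜ = ∅ := by
      refine eq_empty_of_isLocallyClosed q (hC.isLocallyClosed.inter hO.isClosed_compl.isLocallyClosed) ?_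
      rintro x hx ⟨h1, h2⟩
      refine h2 (crit x hx (x ≫ J z hz ≫ b) ?_ fun v hv => ?_)
      · rw [Category.assoc, Category.assoc, hb, reassoc_of% (J1 z hz), hx]
      · have hw : (v ≫ p₂) ≫ s = 𝟙 _ := by rw [Category.assoc, ← hV.w, reassoc_of% hv, hx]
        have hv' : v = x ≫ J (v ≫ p₂) hw := by
          refine hV.hom_ext ?_ ?_
          · rw [Category.assoc, J1 _ hw, Category.comp_id, hv]
          · rw [Category.assoc, J2 _ hw, reassoc_of% hx]
        have h3 := hK1 ⟨v ≫ p₂, hw⟩ ⟨z, hz⟩ _ (Set.mem_iInter.1 (Set.mem_iInter.1 h1 ⟨v ≫ p₂, hw⟩) ⟨z, hz⟩)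
        refine ext_of_apply_closedPoint_eq r ?_ ?_ ?_
        · rw [Category.assoc, hb, reassoc_of% hv, hx]
        · rw [Category.assoc, Category.assoc, hb, reassoc_of% (J1 z hz), hx]
        · rw [hv', Category.assoc, Scheme.Hom.comp_apply, Scheme.Hom.comp_apply]
          exact h3
    apply Set.Subset.antisymm
    · intro x hx
      by_contra h
      have : x ∈ O ∩ Cᶜ := ⟨hx, h⟩
      rw [e1] at this
      exact this
    · intro x hx
      by_contra h
      have : x ∈ C ∩ Oᶜ := ⟨hx, h⟩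
      rw [e2] at this
      exact this
  have hOu : O = Set.univ := by
    have h1 : IsClopen O := ⟨by rw [hOC]; exact hC, hO⟩
    exact h1.eq_univ ⟨_, hx₀O⟩
  have hjr : (j ≫ b) ≫ r = q := by rw [Category.assoc, hb, reassoc_of% hj]
  have i11 : LocallyOfFiniteType ((j ≫ b) ≫ r) := by rw [hjr]; infer_instance
  refine ext_of_apply_eq r Set.univ isClosed_univ.isLocallyClosed dense_univ (fun x _ _ => ?_) ?_
  · have h1 : x ∈ O := by rw [hOu]; trivial
    rw [Scheme.Hom.comp_apply, Scheme.Hom.comp_apply]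
    refine h1 _ _ ?_ ?_
    · rw [← Scheme.Hom.comp_apply, hj]; rfl
    · rw [← Scheme.Hom.comp_apply, hj']; rfl
  · rw [Category.assoc, Category.assoc, hb, reassoc_of% hj, reassoc_of% hj']

end K903.AutRigid
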