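import Groth.Agent.CurvSt.K903.AutClosed
import Groth.Agent.CurvSt.K903.CINodal
import Groth.Agent.Ega1.ReducedSub
import Groth.Agent.S2155
import Mathlib.AlgebraicGeometry.AlgClosed.Basic

/-!
# Finiteness of automorphism groups of curves with unique limits and a contracted point
-/

set_option autoImplicit false
set_option backward.isDefEq.respectTransparency false
set_option backward.isDefEq.respectTransparency.types false

universe u

open CategoryTheory CategoryTheory.Limits AlgebraicGeometry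

namespace K903.AutUniv

/-- The closed subscheme where finitely many pairs of morphisms agree. -/
theorem exists_agree' {B Y T : Scheme.{u}} (h : Y ⟶ T) [IsSeparated h] : ∀ (n : ℕ)
    (x y : Fin n → (B ⟶ Y)), (∀ i, x i ≫ h = y i ≫ h) → ∃ (W : Scheme.{u}) (ι : W ⟶ B), IsClosedImmersion ι ∧
      (∀ i, ι ≫ x i = ι ≫ y i) ∧
      ∀ {Q : Scheme.{u}} (q : Q ⟶ B), (∀ i, q ≫ x i = q ≫ y i) → ∃ q' : Q ⟶ W, q' ≫ ι = q
  | 0, x, y, _ => ⟨B, 𝟙 B, inferInstance, fun i => i.elim0, fun q _ => ⟨q, Category.comp_id q⟩⟩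
  | n + 1, x, y, hxy => by
    obtain ⟨W, ι, h1, h2, h3⟩ := exists_agree' h n (fun i => x i.castSucc) (fun i => y i.castSucc) (fun i => hxy _)
    let d : W ⟶ pullback h h := pullback.lift (ι ≫ x (Fin.last n)) (ι ≫ y (Fin.last n)) (by
      rw [Category.assoc, Category.assoc, hxy])
    let κ : pullback (pullback.diagonal h) d ⟶ W := pullback.snd (pullback.diagonal h) d
    have hκ : pullback.fst (pullback.diagonal h) d ≫ pullback.diagonal h = κ ≫ d := pullback.condition
    have k1 : κ ≫ ι ≫ x (Fin.last n) = pullback.fst (pullback.diagonal h) d := by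
      have := congrArg (· ≫ pullback.fst h h) hκ
      simp only [Category.assoc, pullback.diagonal_fst, Category.comp_id] at this
      rw [this]
      simp [d]
    have k2 : κ ≫ ι ≫ y (Fin.last n) = pullback.fst (pullback.diagonal h) d := by
      have := congrArg (· ≫ pullback.snd h h) hκ
      simp only [Category.assoc, pullback.diagonal_snd, Category.comp_id] at this
      rw [this]
      simp [d]
    refine ⟨_, κ ≫ ι, inferInstance, fun i => ?_, fun q hq => ?_⟩
    · refine Fin.lastCases ?_ (fun i => ?_) i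
      · rw [Category.assoc, Category.assoc, k1, k2]
      · rw [Category.assoc, Category.assoc, h2]
    · obtain ⟨q', hq'⟩ := h3 q (fun i => hq i.castSucc)
      refine ⟨pullback.lift (q ≫ x (Fin.last n)) q' ?_, ?_⟩
      · apply pullback.hom_ext
        · rw [Category.assoc, pullback.diagonal_fst, Category.comp_id, Category.assoc, pullback.lift_fst,
            reassoc_of% hq']
        · rw [Category.assoc, pullback.diagonal_snd, Category.comp_id, Category.assoc, pullback.lift_snd,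
            reassoc_of% hq', hq]
      · rw [pullback.lift_snd_assoc, hq']

/-- Irreducible closed subsets are integral closed subschemes. -/
theorem exists_integral {X : Scheme.{u}} {D : Set X} (hD : IsClosed D) (h : IsIrreducible D) :
    ∃ (Z : Scheme.{u}) (ι : Z ⟶ X), IsIntegral Z ∧ IsClosedImmersion ι ∧ Set.range ι = D := by
  let C : TopologicalSpace.Closeds X := ⟨D, hD⟩
  let I := Scheme.IdealSheafData.vanishingIdeal C
  have h1 : IsReduced I.subscheme := Groth.Agent.Ega1.ReducedSub.isReduced_subscheme_vanishingIdeal C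
  have hr : Set.range I.subschemeι = D := by
    rw [Scheme.IdealSheafData.range_subschemeι]
    exact Scheme.IdealSheafData.coe_support_vanishingIdeal _
  have h2 : IrreducibleSpace I.subscheme := by
    have h1 : IsIrreducible (Set.range I.subschemeι) := by rw [hr]; exact h
    have h2 := Subtype.irreducibleSpace h1
    let e := I.subschemeι.isEmbedding.toHomeomorph
    have : Nonempty I.subscheme := ⟨e.symm ⟨_, h1.nonempty.some_mem⟩⟩
    exact e.isOpenEmbedding.irreducibleSpace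
  exact ⟨_, I.subschemeι, isIntegral_of_irreducibleSpace_of_isReduced _, inferInstance, hr⟩

section

variable {Ω : Type u} [Field Ω] [IsAlgClosed Ω] {X : Scheme.{u}} {q : X ⟶ Spec (CommRingCat.of Ω)} (U : UnivAut q) {n : ℕ}
  (σ : Fin n → (Spec (CommRingCat.of Ω) ⟶ X))

/-- The automorphisms keeping the sections. -/
abbrev autSet (q : X ⟶ Spec (CommRingCat.of Ω)) : Set (X ≅ X) := {e | e.hom ≫ q = q ∧ ∀ i, σ i ≫ e.hom = σ i}

omit [IsAlgClosed Ω] in
/-- The classifying point of an automorphism. -/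
theorem exists_point (e : X ≅ X) (he : e.hom ≫ q = q) : ∃ (g : Spec (CommRingCat.of Ω) ⟶ U.B) (v : X ⟶ U.V),
    g ≫ U.j ≫ U.rH = 𝟙 _ ∧ v ≫ U.p = q ≫ g ∧ v ≫ U.a = 𝟙 X ∧ v ≫ U.t = e.hom := by
  refine U.ex _ (𝟙 _) X q (𝟙 X) e.hom (IsPullback.of_horiz_isIso ⟨by simp⟩) (IsPullback.of_horiz_isIso ⟨?_⟩)
  rw [he, Category.comp_id]

omit [IsAlgClosed Ω] in
theorem fixes_point {e : X ≅ X} (he : ∀ i, σ i ≫ e.hom = σ i) {g : Spec (CommRingCat.of Ω) ⟶ U.B} {v : X ⟶ U.V}
    (hσ : ∀ i, σ i ≫ q = 𝟙 _)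
    (h1 : g ≫ U.j ≫ U.rH = 𝟙 _) (h2 : v ≫ U.p = q ≫ g) (h3 : v ≫ U.a = 𝟙 X) (h4 : v ≫ U.t = e.hom) :
    Fixes U σ g := by
  intro i k k1 k2
  have k3 : k = σ i ≫ v := by
    apply U.sa.hom_ext
    · rw [k2, reassoc_of% h1, Category.assoc, h3, Category.comp_id]
    · rw [k1, Category.assoc, h2, reassoc_of% (hσ i)]
  rw [k3, Category.assoc, h4, he, reassoc_of% h1]

/-- Data of two automorphisms in one integral closed family. -/
theorem exists_family (hσ : ∀ i, σ i ≫ q = 𝟙 _) [IsProper q] (hinf : (autSet σ q).Infinite) :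
    ∃ (Z : Scheme.{u}) (ζ : Z ⟶ U.B), IsIntegral Z ∧ IsClosedImmersion ζ ∧ Fixes U σ ζ ∧
      ∃ e₁ e₂ : X ≅ X, e₁ ≠ e₂ ∧ ∀ e : X ≅ X, e = e₁ ∨ e = e₂ →
        ∃ (z : Spec (CommRingCat.of Ω) ⟶ Z) (v : X ⟶ U.V), z ≫ ζ ≫ U.j ≫ U.rH = 𝟙 _ ∧
          v ≫ U.p = q ≫ z ≫ ζ ∧ v ≫ U.a = 𝟙 X ∧ v ≫ U.t = e.hom := by
  have i1 := U.openImm
  have i2 := U.noeth
  have i3 := U.proper
  let r : U.B ⟶ Spec (CommRingCat.of Ω) := U.j ≫ U.rH
  let s : Fin n → (U.B ⟶ U.V) := fun i => U.sa.lift (r ≫ σ i) (𝟙 _) (by simp [hσ, r])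
  have sa (i) : s i ≫ U.a = r ≫ σ i := U.sa.lift_fst _ _ _
  have sp (i) : s i ≫ U.p = 𝟙 _ := U.sa.lift_snd _ _ _
  obtain ⟨W, ι, hι, w1, w2⟩ := exists_agree' q n (fun i => s i ≫ U.t) (fun i => r ≫ σ i) (fun i => by
    rw [Category.assoc, U.st.w, reassoc_of% (sp i), Category.assoc, hσ, Category.comp_id])
  have hW : Fixes U σ ι := by
    intro i k h1 h2
    have h3 : k = ι ≫ s i := by
      apply U.sa.hom_ext
      · rw [h2, Category.assoc, sa]
        simp [r]
      · rw [h1, Category.assoc, sp, Category.comp_id]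
    rw [h3, Category.assoc, w1 i]
    simp [r]
  have hns : TopologicalSpace.NoetherianSpace W := by
    have h1 : Topology.IsInducing (ι ≫ U.j) := by
      rw [Scheme.Hom.comp_base]
      exact U.j.isOpenEmbedding.isInducing.comp ι.isClosedEmbedding.isInducing
    exact h1.noetherianSpace
  -- the classifying points
  have key : ∀ e : autSet σ q, ∃ (g : Spec (CommRingCat.of Ω) ⟶ W) (v : X ⟶ U.V), g ≫ ι ≫ U.j ≫ U.rH = 𝟙 _ ∧
      v ≫ U.p = q ≫ g ≫ ι ∧ v ≫ U.a = 𝟙 X ∧ v ≫ U.t = e.1.hom := by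
    rintro ⟨e, he1, he2⟩
    obtain ⟨g, v, k1, k2, k3, k4⟩ := exists_point U e he1
    have hg := fixes_point U σ he2 hσ k1 k2 k3 k4
    obtain ⟨g', hg'⟩ := w2 g (fun i => by
      have h5 := hg i (g ≫ s i) (by rw [Category.assoc, sp, Category.comp_id]) (by
        rw [Category.assoc, sa]
        simp [r])
      rw [Category.assoc] at h5
      rw [h5]
      simp [r])
    exact ⟨g', v, by rw [reassoc_of% hg', k1], by rw [k2, hg'], k3, k4⟩
  choose g v g1 g2 g3 g4 using key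
  obtain ⟨F, hF, F1, F2, F3⟩ := TopologicalSpace.NoetherianSpace.exists_finite_set_isClosed_irreducible
    (isClosed_univ (X := W))
  have hD : ∀ e : autSet σ q, ∃ D : F, g e (IsLocalRing.closedPoint Ω) ∈ D.1 := by
    intro e
    have h1 : g e (IsLocalRing.closedPoint Ω) ∈ ⋃₀ F := by rw [← F3]; trivial
    obtain ⟨D, h2, h3⟩ := h1
    exact ⟨⟨D, h2⟩, h3⟩
  choose D hD using hD
  have hFf : Finite F := hF.to_subtype
  have hSi : Infinite (autSet σ q) := hinf.to_subtype
  obtain ⟨e₁, e₂, hne, heq⟩ := Finite.exists_ne_map_eq_of_infinite D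
  obtain ⟨Z, κ, hZ, hκ, hκr⟩ := exists_integral (F1 _ (D e₁).2) (F2 _ (D e₁).2)
  refine ⟨Z, κ ≫ ι, hZ, inferInstance, hW.comp hσ κ, e₁.1, e₂.1, fun h => hne (Subtype.ext h), fun e' he' => ?_⟩
  obtain ⟨e, he, rfl⟩ : ∃ e : autSet σ q, (e = e₁ ∨ e = e₂) ∧ e' = e.1 := by
    rcases he' with h | h
    · exact ⟨e₁, Or.inl rfl, h⟩
    · exact ⟨e₂, Or.inr rfl, h⟩
  have heD : g e (IsLocalRing.closedPoint Ω) ∈ Set.range κ := by
    rw [hκr]
    rcases he with rfl | rfl
    · exact hD _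
    · rw [heq]
      exact hD _
  obtain ⟨z₀, hz₀⟩ := heD
  have hcl : IsClosed ({z₀} : Set Z) := by
    have h1 : IsClosed ({g e (IsLocalRing.closedPoint Ω)} : Set W) := by
      have h2 := (pointEquivClosedPoint (ι ≫ U.j ≫ U.rH) ⟨g e, g1 e⟩).2
      exact h2
    have h3 := h1.preimage κ.continuous
    have h4 : κ ⁻¹' {g e (IsLocalRing.closedPoint Ω)} = {z₀} := by
      rw [← hz₀]
      ext z
      exact ⟨fun h => κ.isClosedEmbedding.injective h, fun h => by rw [h]; rfl⟩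
    rwa [h4] at h3
  let z : Spec (CommRingCat.of Ω) ⟶ Z := pointOfClosedPoint (κ ≫ ι ≫ U.j ≫ U.rH) z₀ hcl
  have hz1 : z ≫ κ ≫ ι ≫ U.j ≫ U.rH = 𝟙 _ := pointOfClosedPoint_comp _ _ _
  have hz2 : z ≫ κ = g e := by
    refine ext_of_apply_closedPoint_eq (ι ≫ U.j ≫ U.rH) ?_ (g1 e) ?_
    · rw [Category.assoc, hz1]
    · rw [Scheme.Hom.comp_apply, ← hz₀]
      congr 1
      exact pointOfClosedPoint_apply _ _ _ _
  refine ⟨z, v e, ?_, ?_, g3 e, g4 e⟩
  · simpa using hz1
  · rw [g2 e, reassoc_of% hz2]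

end

end K903.AutUniv
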