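import Groth.Agent.CurvSt.K903.AutMain
import Groth.Agent.CurvSt.K903.IsomQC
import Groth.Agent.CurvSt.K740.CurvAlgMain
import Groth.Agent.CurvSt.K902.EtSchFin

/-!
# Finite automorphism groups in full subcategories of the stack of curves with unique limits
-/

set_option autoImplicit false
set_option backward.isDefEq.respectTransparency false
set_option backward.isDefEq.respectTransparency.types false

universe u

open CategoryTheory CategoryTheory.Limits Opposite AlgebraicGeometry CurvSt AlgSp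

namespace K903.AutTr

open K903.IsomQC

variable {S : Scheme.{u}} {n : ℕ}

section Mem

variable {Q1 : (Curves S n).obj → Prop} {Q2 : (AlgSt.fullSub (Curves S n) Q1).obj → Prop}

variable (Q1 Q2) in
/-- The full subcategory. -/
abbrev MM := AlgSt.fullSub (AlgSt.fullSub (Curves S n) Q1) Q2

variable (Q1 Q2) in
/-- A family of schemes belongs to the full subcategory. -/
def Mem (B : PtFamObj S n) : Prop :=
  ∃ (hB : IsCurveFam ((toSpFam S n).obj B)) (q1 : Q1 ⟨(toSpFam S n).obj B, hB⟩), Q2 ⟨⟨(toSpFam S n).obj B, hB⟩, q1⟩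

/-- The object. -/
noncomputable abbrev toM {B : PtFamObj S n} (h : Mem Q1 Q2 B) : (MM Q1 Q2).obj := ⟨⟨⟨(toSpFam S n).obj B, h.fst⟩, h.snd.fst⟩, h.snd.snd⟩

/-- The morphism. -/
noncomputable abbrev homM {B B' : PtFamObj S n} (h : Mem Q1 Q2 B) (h' : Mem Q1 Q2 B') (φ : B ⟶ B') : toM h ⟶ toM h' :=
  ObjectProperty.homMk (ObjectProperty.homMk (ObjectProperty.homMk ((toSpFam S n).map φ)))

theorem mem_of_hom (s1 : ∀ {x y : (Curves S n).obj}, (y ⟶ x) → Q1 x → Q1 y)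
    (s2 : ∀ {x y : (AlgSt.fullSub (Curves S n) Q1).obj}, (y ⟶ x) → Q2 x → Q2 y) {B : PtFamObj S n} (D : (MM Q1 Q2).obj)
    (φ : (toSpFam S n).obj B ⟶ D.obj.obj.obj) : Mem Q1 Q2 B := by
  have hB : IsCurveFam ((toSpFam S n).obj B) := K898.MbarEq.isCurveFam_of_hom φ D.obj.obj.property
  have q1 : Q1 ⟨(toSpFam S n).obj B, hB⟩ :=
    s1 (x := D.obj.obj) (y := ⟨(toSpFam S n).obj B, hB⟩) (ObjectProperty.homMk φ) D.obj.property
  exact ⟨hB, q1, s2 (x := D.obj) (y := ⟨⟨(toSpFam S n).obj B, hB⟩, q1⟩)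
    (ObjectProperty.homMk (ObjectProperty.homMk φ)) D.property⟩

/-- The hypothesis on limits. -/
def UniqL (Q1 : (Curves S n).obj → Prop) (Q2 : (AlgSt.fullSub (Curves S n) Q1).obj → Prop) : Prop :=
  ∀ (R : Type u) [CommRing R] [IsDomain R] [IsDiscreteValuationRing R],
      IsAlgClosed (IsLocalRing.ResidueField R) →
      ∀ (L : Type u) [Field L] [Algebra R L] [IsFractionRing R L]
        (a : Spec (CommRingCat.of R) ⟶ S) (A₁ A₂ : (MM Q1 Q2).p.Fiber (Over.mk a))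
        (B₁ B₂ : (MM Q1 Q2).p.Fiber (Over.mk (Spec.map (CommRingCat.ofHom (algebraMap R L)) ≫ a)))
        (ψ₁ : B₁.1 ⟶ A₁.1) (ψ₂ : B₂.1 ⟶ A₂.1),
        (MM Q1 Q2).p.IsHomLift (Over.homMk (Spec.map (CommRingCat.ofHom (algebraMap R L))) rfl :
            Over.mk (Spec.map (CommRingCat.ofHom (algebraMap R L)) ≫ a) ⟶ Over.mk a) ψ₁ →
        (MM Q1 Q2).p.IsHomLift (Over.homMk (Spec.map (CommRingCat.ofHom (algebraMap R L))) rfl :
            Over.mk (Spec.map (CommRingCat.ofHom (algebraMap R L)) ≫ a) ⟶ Over.mk a) ψ₂ →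
        ∀ e : B₁ ≅ B₂, ∃ E : A₁ ≅ A₂, ψ₁ ≫ E.hom.1 = e.hom.1 ≫ ψ₂

/-- The limit property of families of schemes. -/
theorem lim_of_uniqL (s1 : ∀ {x y : (Curves S n).obj}, (y ⟶ x) → Q1 x → Q1 y)
    (s2 : ∀ {x y : (AlgSt.fullSub (Curves S n) Q1).obj}, (y ⟶ x) → Q2 x → Q2 y) (hu : UniqL Q1 Q2)
    {Ω : Type u} [Field Ω] (t : Spec (CommRingCat.of Ω) ⟶ S) {X : Scheme.{u}} (q : X ⟶ Spec (CommRingCat.of Ω))
    (σ : Fin n → (Spec (CommRingCat.of Ω) ⟶ X)) (hσ : ∀ i, σ i ≫ q = 𝟙 _) (D : (MM Q1 Q2).obj)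
    (m : (toSpFam S n).obj (fam (Over.mk t) q σ hσ) ⟶ D.obj.obj.obj) : K903.AutStmt.Lim q σ := by
  intro R _ _ _ hR L _ _ _ a' XR XL jR qR sR jL qL sL τ τ1 τ2 e he1 he2
  let μ : Spec (CommRingCat.of L) ⟶ Spec (CommRingCat.of R) := Spec.map (CommRingCat.ofHom (algebraMap R L))
  let σR : Fin n → (Spec (CommRingCat.of R) ⟶ XR) := fun i => sR.lift (a' ≫ σ i) (𝟙 _) (by simp [hσ])
  have σR1 (i) : σR i ≫ jR = a' ≫ σ i := sR.lift_fst _ _ _
  have σR2 (i) : σR i ≫ qR = 𝟙 _ := sR.lift_snd _ _ _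
  let A₂ : PtFamObj S n := fam (Over.mk t) q σ hσ
  let AR : PtFamObj S n := fam (Over.mk (a' ≫ t)) qR σR σR2
  let BL : PtFamObj S n := fam (Over.mk (μ ≫ a' ≫ t)) qL τ τ1
  let cR : AR ⟶ A₂ := ptHomMk (Over.homMk a' rfl) jR sR σR1
  let cL : BL ⟶ AR := ptHomMk (Over.homMk μ rfl) jL sL (fun i => by
    apply sR.hom_ext
    · change (τ i ≫ jL) ≫ jR = (μ ≫ σR i) ≫ jR
      rw [Category.assoc, Category.assoc, σR1]
      exact τ2 i
    · change (τ i ≫ jL) ≫ qR = (μ ≫ σR i) ≫ qR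
      rw [Category.assoc, Category.assoc, σR2, sL.w, reassoc_of% (τ1 i), Category.comp_id])
  have hei1 : e.inv ≫ qL = qL := by rw [Iso.inv_comp_eq, he1]
  have hei2 (i) : τ i ≫ e.inv = τ i := by rw [Iso.comp_inv_eq, he2]
  let eh : BL ⟶ BL := ptHomMk (𝟙 _) e.hom (IsPullback.of_horiz_isIso ⟨by
    change e.hom ≫ qL = qL ≫ 𝟙 _
    rw [he1, Category.comp_id]⟩) (fun i => by
    change τ i ≫ e.hom = 𝟙 _ ≫ τ i
    rw [he2, Category.id_comp])
  let ei : BL ⟶ BL := ptHomMk (𝟙 _) e.inv (IsPullback.of_horiz_isIso ⟨by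
    change e.inv ≫ qL = qL ≫ 𝟙 _
    rw [hei1, Category.comp_id]⟩) (fun i => by
    change τ i ≫ e.inv = 𝟙 _ ≫ τ i
    rw [hei2, Category.id_comp])
  have hhi : eh ≫ ei = 𝟙 BL := PtFamObj.hom_ext (Category.comp_id _) e.hom_inv_id
  have hih : ei ≫ eh = 𝟙 BL := PtFamObj.hom_ext (Category.comp_id _) e.inv_hom_id
  have memR : Mem Q1 Q2 AR := mem_of_hom s1 s2 D ((toSpFam S n).map cR ≫ m)
  have memL : Mem Q1 Q2 BL := mem_of_hom s1 s2 D ((toSpFam S n).map (cL ≫ cR) ≫ m)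
  let FR : (MM Q1 Q2).p.Fiber (Over.mk (a' ≫ t)) := ⟨toM memR, rfl⟩
  let FL : (MM Q1 Q2).p.Fiber (Over.mk (μ ≫ a' ≫ t)) := ⟨toM memL, rfl⟩
  have hcomp : ∀ {B B' B'' : PtFamObj S n} (h : Mem Q1 Q2 B) (h' : Mem Q1 Q2 B') (h'' : Mem Q1 Q2 B'')
      (φ : B ⟶ B') (ψ : B' ⟶ B''), homM h h' φ ≫ homM h' h'' ψ = homM h h'' (φ ≫ ψ) := by
    intro B B' B'' h h' h'' φ ψ
    apply ObjectProperty.hom_ext
    apply ObjectProperty.hom_ext
    apply ObjectProperty.hom_ext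
    exact ((toSpFam S n).map_comp φ ψ).symm
  have hid : ∀ {B : PtFamObj S n} (h : Mem Q1 Q2 B), homM h h (𝟙 B) = 𝟙 (toM h) := by
    intro B h
    apply ObjectProperty.hom_ext
    apply ObjectProperty.hom_ext
    apply ObjectProperty.hom_ext
    exact (toSpFam S n).map_id B
  have hl1 : (MM Q1 Q2).p.IsHomLift (𝟙 (Over.mk (μ ≫ a' ≫ t))) (homM memL memL eh) :=
    (K734.Fib.isHomLift_iff_map_eq (𝒳 := MM Q1 Q2) (a := toM memL) (b := toM memL) _ _).2 rfl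
  have hl2 : (MM Q1 Q2).p.IsHomLift (𝟙 (Over.mk (μ ≫ a' ≫ t))) (homM memL memL ei) :=
    (K734.Fib.isHomLift_iff_map_eq (𝒳 := MM Q1 Q2) (a := toM memL) (b := toM memL) _ _).2 rfl
  let eF : FL ≅ FL :=
    { hom := ⟨homM memL memL eh, hl1⟩
      inv := ⟨homM memL memL ei, hl2⟩
      hom_inv_id := Subtype.ext (by
        change homM memL memL eh ≫ homM memL memL ei = 𝟙 _
        rw [hcomp, hhi, hid])
      inv_hom_id := Subtype.ext (by
        change homM memL memL ei ≫ homM memL memL eh = 𝟙 _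
        rw [hcomp, hih, hid]) }
  have hψ : (MM Q1 Q2).p.IsHomLift (Over.homMk μ rfl : Over.mk (μ ≫ a' ≫ t) ⟶ Over.mk (a' ≫ t)) (homM memL memR cL) :=
    (K734.Fib.isHomLift_iff_map_eq (𝒳 := MM Q1 Q2) (a := toM memL) (b := toM memR) _ _).2 rfl
  obtain ⟨E, hE⟩ := hu R hR L (a' ≫ t) FR FR FL FL (homM memL memR cL) (homM memL memR cL) hψ hψ eF
  obtain ⟨ε, hε⟩ := (toSpFam S n).map_surjective E.hom.1.hom.hom.hom
  obtain ⟨ε', hε'⟩ := (toSpFam S n).map_surjective E.inv.1.hom.hom.hom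
  have k1 : ε ≫ ε' = 𝟙 AR := by
    apply (toSpFam S n).map_injective
    rw [Functor.map_comp, hε, hε']
    have h1 := congrArg (fun f => f.1.hom.hom.hom) E.hom_inv_id
    exact h1.trans ((toSpFam S n).map_id AR).symm
  have k2 : ε' ≫ ε = 𝟙 AR := by
    apply (toSpFam S n).map_injective
    rw [Functor.map_comp, hε, hε']
    have h1 := congrArg (fun f => f.1.hom.hom.hom) E.inv_hom_id
    exact h1.trans ((toSpFam S n).map_id AR).symm
  have k3 : ε.base = 𝟙 _ := by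
    have h1 := (K734.Fib.isHomLift_iff_map_eq (𝒳 := MM Q1 Q2) (a := toM memR) (b := toM memR) _ _).1 E.hom.2
    have h2 : ((toSpFam S n).map ε).base = 𝟙 _ := by
      rw [hε]
      exact h1
    exact h2
  have k4 : cL ≫ ε = eh ≫ cL := by
    apply (toSpFam S n).map_injective
    rw [Functor.map_comp, Functor.map_comp, hε]
    exact congrArg (fun f => f.hom.hom.hom) hE
  refine ⟨⟨ε.top, ε'.top, congrArg PtFamObj.Hom.top k1, congrArg PtFamObj.Hom.top k2⟩, ?_, ?_⟩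
  · have h1 := ε.cart.w
    rw [k3] at h1
    exact h1.trans (Category.comp_id _)
  · exact congrArg PtFamObj.Hom.top k4

end Mem

section Fin

variable {Q1 : (Curves S n).obj → Prop} {Q2 : (AlgSt.fullSub (Curves S n) Q1).obj → Prop}

/-- **Finiteness of automorphism groups.** -/
theorem finite_aut (s1 : ∀ {x y : (Curves S n).obj}, (y ⟶ x) → Q1 x → Q1 y)
    (s2 : ∀ {x y : (AlgSt.fullSub (Curves S n) Q1).obj}, (y ⟶ x) → Q2 x → Q2 y) (hu : UniqL Q1 Q2) (g : ℕ)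
    (hgn : 3 ≤ 2 * g + n)
    (hQ : ∀ D : (Curves S n).obj, Q1 D → GeomFib (fun _ _ _ X' _ _ =>
        AlgebraicGeometry.IsReduced X' ∧ ConnectedSpace ↥X' ∧ topologicalKrullDim ↥X' = 1) D.obj ∧ SpHasGenus D.obj g)
    (Ω : Type u) [Field Ω] [IsAlgClosed Ω] (t : Spec (CommRingCat.of Ω) ⟶ S)
    (A : (MM Q1 Q2).p.Fiber (Over.mk t)) : Finite (Aut A) := by
  obtain ⟨⟨⟨⟨⟨b, Y, f, s, sf⟩, hc⟩, q1⟩, q2⟩, hb⟩ := A
  change b = Over.mk t at hb
  subst hb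
  let D : SpFamObj S n := ⟨Over.mk t, Y, f, s, sf⟩
  obtain ⟨A₁, ι, N, j, hj⟩ := K740.CurvAlg.exists_geom K740.CurvAlg.projEtLoc K740.CurvAlg.existsEmb Ω t (A := D) rfl hc
    (K902.EtSchFin.etLocSch hc)
  let k : A₁.base ≅ Over.mk t :=
    ⟨ι.hom.base, ι.inv.base, congrArg SpFamObj.Hom.base ι.hom_inv_id, congrArg SpFamObj.Hom.base ι.inv_hom_id⟩
  let kl : A₁.base.left ≅ Spec (CommRingCat.of Ω) := (Over.forget S).mapIso k
  let X : Scheme.{u} := A₁.C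
  let q : X ⟶ Spec (CommRingCat.of Ω) := A₁.f ≫ kl.hom
  let σ : Fin n → (Spec (CommRingCat.of Ω) ⟶ X) := fun i => kl.inv ≫ A₁.sect i
  have hσ (i) : σ i ≫ q = 𝟙 _ := by
    change (kl.inv ≫ A₁.sect i) ≫ A₁.f ≫ kl.hom = 𝟙 _
    rw [Category.assoc, reassoc_of% (A₁.sect_f i), kl.inv_hom_id]
  let A₂ : PtFamObj S n := fam (Over.mk t) q σ hσ
  have iso1 : IsIso k.inv.left := inferInstanceAs (IsIso kl.inv)
  have iso2 : IsIso k.hom.left := inferInstanceAs (IsIso kl.hom)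
  let c : A₂ ⟶ A₁ := ptHomMk k.inv (𝟙 X) (IsPullback.of_horiz_isIso ⟨by
    change 𝟙 X ≫ A₁.f = (A₁.f ≫ kl.hom) ≫ kl.inv
    rw [Category.assoc, kl.hom_inv_id, Category.comp_id, Category.id_comp]⟩) (fun i => by
    change (kl.inv ≫ A₁.sect i) ≫ 𝟙 X = kl.inv ≫ A₁.sect i
    rw [Category.comp_id])
  let c' : A₁ ⟶ A₂ := ptHomMk k.hom (𝟙 X) (IsPullback.of_horiz_isIso ⟨by
    change 𝟙 X ≫ A₁.f ≫ kl.hom = A₁.f ≫ kl.hom
    rw [Category.id_comp]⟩) (fun i => by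
    change A₁.sect i ≫ 𝟙 X = kl.hom ≫ kl.inv ≫ A₁.sect i
    rw [Category.comp_id, kl.hom_inv_id_assoc])
  let ci : A₂ ≅ A₁ := ⟨c, c', PtFamObj.hom_ext k.inv_hom_id (Category.comp_id _),
    PtFamObj.hom_ext k.hom_inv_id (Category.comp_id _)⟩
  let m : (toSpFam S n).obj A₂ ≅ D := (toSpFam S n).mapIso ci ≪≫ ι
  have mb : m.hom.base = 𝟙 (Over.mk t) := k.inv_hom_id
  have mb' : m.inv.base = 𝟙 (Over.mk t) := k.inv_hom_id
  have hlim : K903.AutStmt.Lim q σ := lim_of_uniqL s1 s2 hu t q σ hσ ⟨⟨⟨D, hc⟩, q1⟩, q2⟩ m.hom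
  have hA₂ : IsCurveFam ((toSpFam S n).obj A₂) := K898.MbarEq.isCurveFam_of_hom m.hom hc
  obtain ⟨-, hp, -, -⟩ := K898.MbarEq.facts A₂ hA₂
  have hp' : IsProper q := hp
  obtain ⟨g1, g2⟩ := hQ ⟨D, hc⟩ q1
  have hid : IsPullback (𝟙 X) q A₂.f (𝟙 _) := IsPullback.of_horiz_isIso ⟨by
    change 𝟙 X ≫ q = q ≫ 𝟙 _
    rw [Category.id_comp, Category.comp_id]⟩
  obtain ⟨hr, hcn, hdim⟩ := (K901.GeomFibAt.geomFibAt_toSpFam_iff A₂ (𝟙 _)).1
    (K901.GeomFibAt.geomFib_iff.1 (K898.MbarEq.geomFib_of_hom m.hom g1) Ω (𝟙 _)) X (𝟙 X) q hid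
  have hgen := (K901.GeomFibAt.geomFibAt_toSpFam_iff A₂ (𝟙 _)).1
    (K901.GeomFibAt.geomFib_iff.1 (K898.MbarEq.geomFib_of_hom m.hom g2) Ω (𝟙 _)) X (𝟙 X) q hid
  have hfin : K903.AutStmt.FinAut q σ := K903.AutMain.stmt Ω X q hdim n σ hσ (by

    have : @Curv2.genus Ω _ X ⟨q⟩ = g := hgen
    rw [this]
    exact hgn) hlim
  have hfs : Finite {e : X ≅ X | e.hom ≫ q = q ∧ ∀ i, σ i ≫ e.hom = σ i} := hfin
  -- the functor on endomorphisms
  let G : (D ⟶ D) → (A₂ ⟶ A₂) := fun θ => (toSpFam S n).toFunctor.preimage (m.hom ≫ θ ≫ m.inv)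
  have hG (θ) : (toSpFam S n).map (G θ) = m.hom ≫ θ ≫ m.inv := (toSpFam S n).toFunctor.map_preimage _
  have hGinj : Function.Injective G := by
    intro θ θ' h
    have h1 := hG θ
    rw [h, hG θ'] at h1
    have h2 := (cancel_epi m.hom).1 h1
    exact ((cancel_mono m.inv).1 h2).symm
  have hGc (θ θ') : G (θ ≫ θ') = G θ ≫ G θ' := by
    apply (toSpFam S n).map_injective
    rw [Functor.map_comp, hG, hG, hG]
    simp
  have hG1 : G (𝟙 D) = 𝟙 A₂ := by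
    apply (toSpFam S n).map_injective
    rw [hG, CategoryTheory.Functor.map_id]
    simp
  have hGb (θ : D ⟶ D) (hθ : θ.base = 𝟙 _) : (G θ).base = 𝟙 (Over.mk t) := by
    have h1 : ((toSpFam S n).map (G θ)).base = (G θ).base := rfl
    rw [← h1, hG]
    change m.hom.base ≫ θ.base ≫ m.inv.base = _
    rw [hθ, mb, mb', Category.comp_id, Category.comp_id]
  let A : (MM Q1 Q2).p.Fiber (Over.mk t) := ⟨⟨⟨⟨D, hc⟩, q1⟩, q2⟩, rfl⟩
  let θ : (A ⟶ A) → (D ⟶ D) := fun α => α.1.hom.hom.hom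
  have hθinj : Function.Injective θ := by
    intro α β h
    apply Subtype.ext
    apply ObjectProperty.hom_ext
    apply ObjectProperty.hom_ext
    apply ObjectProperty.hom_ext
    exact h
  have hθb (α : A ⟶ A) : (θ α).base = 𝟙 _ :=
    (K734.Fib.isHomLift_iff_map_eq (𝒳 := MM Q1 Q2) (a := A.1) (b := A.1) _ _).1 α.2
  let F : Aut A → {e : X ≅ X | e.hom ≫ q = q ∧ ∀ i, σ i ≫ e.hom = σ i} := fun α =>
    ⟨⟨(G (θ α.hom)).top, (G (θ α.inv)).top, by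
      have h1 : G (θ α.hom) ≫ G (θ α.inv) = 𝟙 A₂ := by
        rw [← hGc]
        have h2 : θ α.hom ≫ θ α.inv = 𝟙 D := congrArg θ α.hom_inv_id
        rw [h2, hG1]
      exact congrArg PtFamObj.Hom.top h1, by
      have h1 : G (θ α.inv) ≫ G (θ α.hom) = 𝟙 A₂ := by
        rw [← hGc]
        have h2 : θ α.inv ≫ θ α.hom = 𝟙 D := congrArg θ α.inv_hom_id
        rw [h2, hG1]
      exact congrArg PtFamObj.Hom.top h1⟩, by
      have h1 := (G (θ α.hom)).cart.w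
      rw [hGb _ (hθb α.hom)] at h1
      exact h1.trans (Category.comp_id _), fun i => by
      have h1 := (G (θ α.hom)).w_sect i
      rw [hGb _ (hθb α.hom)] at h1
      exact h1.trans (Category.id_comp _)⟩
  refine Finite.of_injective F fun α β h => ?_
  have h1 : (G (θ α.hom)).top = (G (θ β.hom)).top := congrArg (fun z => z.1.hom) h
  have h2 : G (θ α.hom) = G (θ β.hom) := PtFamObj.hom_ext (by rw [hGb _ (hθb _), hGb _ (hθb _)]) h1
  exact Iso.ext (hθinj (hGinj h2))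

end Fin

end K903.AutTr
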