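import Groth.Agent.CurvSt.K903.IsomSch
import Groth.Agent.S1551
import Groth.Agent.Etcore.DimBaseChange

/-!
# The universal automorphism of a proper curve over a field

`K903.AutUniv.UnivAut q`: a family of automorphisms (two cartesian squares with the same vertex) over an open subscheme
`B` of a proper scheme `H`, universal for locally Noetherian test schemes; `exists_univAut` : existence for proper curves.
-/

set_option autoImplicit false
set_option backward.isDefEq.respectTransparency false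
set_option backward.isDefEq.respectTransparency.types false

universe u

open CategoryTheory CategoryTheory.Limits AlgebraicGeometry

namespace K903.AutUniv

/-- A universal automorphism. -/
structure UnivAut {T₀ X : Scheme.{u}} (q : X ⟶ T₀) where
  (H B V : Scheme.{u})
  (rH : H ⟶ T₀)
  (j : B ⟶ H)
  (p : V ⟶ B)
  (a t : V ⟶ X)
  proper : IsProper rH
  noeth : IsNoetherian H
  openImm : IsOpenImmersion j
  sa : IsPullback a p q (j ≫ rH)
  st : IsPullback t p q (j ≫ rH)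
  ex : ∀ (T : Scheme.{u}) [IsLocallyNoetherian T] (l : T ⟶ T₀) (V' : Scheme.{u}) (p' : V' ⟶ T)
    (a' t' : V' ⟶ X), IsPullback a' p' q l → IsPullback t' p' q l →
      ∃ (g : T ⟶ B) (v : V' ⟶ V), g ≫ j ≫ rH = l ∧ v ≫ p = p' ≫ g ∧ v ≫ a = a' ∧ v ≫ t = t'
  uniq : ∀ (T : Scheme.{u}) [IsLocallyNoetherian T] (l : T ⟶ T₀) (V' : Scheme.{u}) (p' : V' ⟶ T)
    (a' t' : V' ⟶ X), IsPullback a' p' q l → IsPullback t' p' q l →
      ∀ (g₁ g₂ : T ⟶ B) (v₁ v₂ : V' ⟶ V), g₁ ≫ j ≫ rH = l → g₂ ≫ j ≫ rH = l → v₁ ≫ p = p' ≫ g₁ →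
        v₂ ≫ p = p' ≫ g₂ → v₁ ≫ a = a' → v₂ ≫ a = a' → v₁ ≫ t = t' → v₂ ≫ t = t' → g₁ = g₂

theorem nonempty_univAut {T₀ X₀ : Scheme.{u}} [IsAffine T₀] [IsNoetherian T₀] [ConnectedSpace T₀]
    (g₀ : X₀ ⟶ T₀) [IsProper g₀] [Flat g₀]
    (hdim : ∀ (K : Type u) [Field K] (s : Spec (CommRingCat.of K) ⟶ T₀), topologicalKrullDim ↥(pullback g₀ s) ≤ 1)
    {L : X₀.Modules} (hL : CohB1.IsAmple L) : Nonempty (UnivAut g₀) := by
  obtain ⟨H, B, j, θ, h1, h2, h3, h4, h5⟩ := K903.IsomBdd.exists_isom_curves g₀ g₀ hdim hL hL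
  have sX := IsPullback.of_hasPullback g₀ B.hom
  have hr : j.left ≫ H.hom = B.hom := Over.w j
  -- the equation satisfied by classifying morphisms
  have key : ∀ (T : Scheme.{u}) (l : T ⟶ T₀) (V' : Scheme.{u}) (p' : V' ⟶ T)
      (a' t' : V' ⟶ X₀) (q₁ : IsPullback a' p' g₀ l) (q₂ : IsPullback t' p' g₀ l) (g : Over.mk l ⟶ B),
      (PicF.XTmap g₀ g ≫ θ.hom = (q₁.isoPullback.inv ≫ q₂.isoPullback.hom) ≫ PicF.XTmap g₀ g) ↔
        ∃ v : V' ⟶ pullback g₀ B.hom, v ≫ pullback.snd g₀ B.hom = p' ≫ g.left ∧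
          v ≫ pullback.fst g₀ B.hom = a' ∧ v ≫ θ.hom ≫ pullback.fst g₀ B.hom = t' := by
    intro T l V' p' a' t' q₁ q₂ g
    have e₁f : q₁.isoPullback.hom ≫ pullback.fst g₀ l = a' := q₁.isoPullback_hom_fst
    have e₁s : q₁.isoPullback.hom ≫ pullback.snd g₀ l = p' := q₁.isoPullback_hom_snd
    have e₂f : q₂.isoPullback.hom ≫ pullback.fst g₀ l = t' := q₂.isoPullback_hom_fst
    have e₂s : q₂.isoPullback.hom ≫ pullback.snd g₀ l = p' := q₂.isoPullback_hom_snd
    have m1 : PicF.XTmap g₀ g ≫ pullback.fst g₀ B.hom = pullback.fst g₀ l := by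
      simp [PicF.XTmap]
    have m2 : PicF.XTmap g₀ g ≫ pullback.snd g₀ B.hom = pullback.snd g₀ l ≫ g.left := PicGrp.XTmap_XTproj g₀ g
    have h4' : θ.hom ≫ pullback.snd g₀ B.hom = pullback.snd g₀ B.hom := h4
    constructor
    · intro hg
      refine ⟨q₁.isoPullback.hom ≫ PicF.XTmap g₀ g, ?_, ?_, ?_⟩
      · rw [Category.assoc, m2, reassoc_of% e₁s]
      · rw [Category.assoc, m1, e₁f]
      · rw [Category.assoc, reassoc_of% hg, m1, Iso.hom_inv_id_assoc, e₂f]
    · rintro ⟨v, hv1, hv2, hv3⟩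
      have hv : v = q₁.isoPullback.hom ≫ PicF.XTmap g₀ g := by
        apply sX.hom_ext
        · rw [hv2, Category.assoc, m1, e₁f]
        · rw [hv1, Category.assoc, m2, reassoc_of% e₁s]
      rw [← cancel_epi q₁.isoPullback.hom]
      apply sX.hom_ext
      · simp only [Category.assoc, Iso.hom_inv_id_assoc]
        rw [m1, e₂f, ← hv3, hv, Category.assoc]
      · simp only [Category.assoc, Iso.hom_inv_id_assoc]
        rw [h4', m2, reassoc_of% e₁s, reassoc_of% e₂s]
  refine ⟨{ H := H.left, B := B.left, V := pullback g₀ B.hom, rH := H.hom, j := j.left,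
            p := pullback.snd g₀ B.hom, a := pullback.fst g₀ B.hom, t := θ.hom ≫ pullback.fst g₀ B.hom,
            proper := h2, noeth := h1, openImm := h3, sa := ?_, st := ?_, ex := ?_, uniq := ?_ }⟩
  · rw [hr]
    exact sX
  · rw [hr]
    refine sX.of_iso θ.symm (Iso.refl _) (Iso.refl _) (Iso.refl _) ?_ ?_ ?_ ?_
    · change _ ≫ 𝟙 _ = θ.inv ≫ θ.hom ≫ _
      rw [θ.inv_hom_id_assoc, Category.comp_id]
    · change _ ≫ 𝟙 _ = θ.inv ≫ _
      rw [Category.comp_id, Iso.eq_inv_comp]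
      exact h4
    · simp
    · simp
  · intro T iT l V' p' a' t' q₁ q₂
    have iT' : IsLocallyNoetherian (Over.mk l).left := iT
    obtain ⟨g, hg, -⟩ := h5 (Over.mk l) (q₁.isoPullback.symm ≪≫ q₂.isoPullback) (by
      change (q₁.isoPullback.inv ≫ q₂.isoPullback.hom) ≫ pullback.snd g₀ l = pullback.snd g₀ l
      rw [Category.assoc, q₂.isoPullback_hom_snd, Iso.inv_comp_eq, q₁.isoPullback_hom_snd])
    obtain ⟨v, hv1, hv2, hv3⟩ := (key T l V' p' a' t' q₁ q₂ g).1 hg
    exact ⟨g.left, v, by rw [hr]; exact Over.w g, hv1, hv2, hv3⟩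
  · intro T iT l V' p' a' t' q₁ q₂ g₁ g₂ v₁ v₂ k1 k2 k3 k4 k5 k6 k7 k8
    have iT' : IsLocallyNoetherian (Over.mk l).left := iT
    rw [hr] at k1 k2
    have hu := (h5 (Over.mk l) (q₁.isoPullback.symm ≪≫ q₂.isoPullback) (by
      change (q₁.isoPullback.inv ≫ q₂.isoPullback.hom) ≫ pullback.snd g₀ l = pullback.snd g₀ l
      rw [Category.assoc, q₂.isoPullback_hom_snd, Iso.inv_comp_eq, q₁.isoPullback_hom_snd]))
    have e1 := (key T l V' p' a' t' q₁ q₂ (Over.homMk g₁ k1)).2 ⟨v₁, k3, k5, k7⟩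
    have e2 := (key T l V' p' a' t' q₁ q₂ (Over.homMk g₂ k2)).2 ⟨v₂, k4, k6, k8⟩
    exact congrArg CommaMorphism.left (hu.unique e1 e2)

/-- The universal automorphism of a proper curve. -/
theorem exists_univAut {Ω : Type u} [Field Ω] {X : Scheme.{u}} (q : X ⟶ Spec (CommRingCat.of Ω)) [IsProper q]
    (hdim : topologicalKrullDim X = 1) : Nonempty (UnivAut q) := by
  have i1 : IsLocallyNoetherian X := LocallyOfFiniteType.isLocallyNoetherian q
  have i2 : CompactSpace X := QuasiCompact.compactSpace_of_compactSpace q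
  have i3 : IsNoetherian X := ⟨⟩
  have i4 : X.IsSeparated := by
    have : IsSeparated (q ≫ terminal.from _) := inferInstance
    rw [Subsingleton.elim (q ≫ terminal.from _) (terminal.from X)] at this
    exact ⟨this⟩
  obtain ⟨L, hL⟩ := Groth.Agent.S1551.result X hdim
  have i5 : ConnectedSpace (Spec (CommRingCat.of Ω)) := inferInstance
  have i6 : Flat q := inferInstance
  refine nonempty_univAut q (fun K _ s => ?_) hL
  rw [Groth.Agent.Etcore.DimBaseChange.topologicalKrullDim_eq (K := CommRingCat.of Ω) (L := CommRingCat.of K)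
    (Field.toIsField Ω) (Field.toIsField K) q _ _ s (IsPullback.of_hasPullback q s), hdim]

end K903.AutUniv
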