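import Groth.Agent.Dual.H328.DetCrit
import Mathlib.LinearAlgebra.Matrix.NonsingularInverse
import Mathlib.RingTheory.Nilpotent.Lemmas
import Mathlib.RingTheory.Ideal.MinimalPrime.Basic

/-!
# A map of free modules injective on a fibre is split near that point

`exists_retract`: `δ : C → F` between finite free `B`-modules with `δ ⊗ K` injective for a ring map `B → K` to a field;
then there are `r : F → C` and `g ∈ B` with `g ≠ 0` in `K` and `r ∘ δ = g`.
-/

set_option autoImplicit false

open scoped TensorProduct

namespace K903.SplitAlg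

open Module Groth.Agent.Dual.H328.DetCrit

variable {B C F K : Type*} [CommRing B] [AddCommGroup C] [Module B C] [AddCommGroup F] [Module B F]
  [Field K] [Algebra B K] {m n : ℕ}

theorem exists_retract (c : Basis (Fin m) B C) (e : Basis (Fin n) B F) (δ : C →ₗ[B] F)
    (hinj : Function.Injective (δ.baseChange K)) :
    ∃ (r : F →ₗ[B] C) (g : B), algebraMap B K g ≠ 0 ∧ ∀ y, r (δ y) = g • y := by
  have hm : m ≤ n := by
    have hf : Module.Finite K (K ⊗[B] F) := Module.Finite.of_basis (e.baseChange K)
    have h1 := LinearMap.finrank_le_finrank_of_injective hinj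
    rw [Module.finrank_eq_card_basis (c.baseChange K), Module.finrank_eq_card_basis (e.baseChange K),
      Fintype.card_fin, Fintype.card_fin] at h1
    exact h1
  obtain ⟨q, hq⟩ : ∃ q, q + m = n := ⟨n - m, by omega⟩
  obtain ⟨x, hx⟩ := (injective_baseChange_iff c e δ hq).1 hinj
  set v : Fin n → F := Fin.append x (δ ∘ c) ∘ Fin.cast hq.symm with hv
  let M : Matrix (Fin n) (Fin n) B := e.toMatrix v
  let idx : Fin m → Fin n := fun j => Fin.cast hq (Fin.natAdd q j)
  have hidx : ∀ j, v (idx j) = δ (c j) := fun j => by
    simp [hv, idx]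
  have hinj' : Function.Injective idx := fun a b h => by
    have := congrArg Fin.val h
    simp [idx] at this
    exact Fin.ext this
  let r : F →ₗ[B] C :=
    { toFun := fun y => ∑ j, (M.adjugate.mulVec (e.repr y)) (idx j) • c j
      map_add' := fun y z => by
        simp only [map_add, Finsupp.coe_add, Matrix.mulVec_add, Pi.add_apply, add_smul, Finset.sum_add_distrib]
      map_smul' := fun a y => by
        simp only [map_smul, Finsupp.coe_smul, Matrix.mulVec_smul, Pi.smul_apply, smul_eq_mul, mul_smul,
          Finset.smul_sum, RingHom.id_apply] }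
  refine ⟨r, e.det v, hx, fun y => ?_⟩
  have key : r ∘ₗ δ = e.det v • (LinearMap.id : C →ₗ[B] C) := by
    refine c.ext fun i => ?_
    have h1 : (e.repr (δ (c i)) : Fin n → B) = M.mulVec (Pi.single (idx i) 1) := by
      rw [Matrix.mulVec_single_one]
      funext l
      rw [← hidx i]
      rfl
    change ∑ j, (M.adjugate.mulVec (e.repr (δ (c i)))) (idx j) • c j = e.det v • c i
    rw [h1, Matrix.mulVec_mulVec, Matrix.adjugate_mul, Matrix.smul_mulVec, Matrix.one_mulVec]
    rw [Finset.sum_eq_single i]
    · simp [Module.Basis.det_apply, M]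
    · intro j _ hj
      rw [Pi.smul_apply, Pi.single_eq_of_ne (fun h => hj (hinj' h)), smul_zero, zero_smul]
    · intro h
      exact absurd (Finset.mem_univ i) h
  exact LinearMap.congr_fun key y

/-- An element of a reduced ring all of whose annihilator is not contained in any minimal prime is zero. -/
theorem eq_zero_of_minimal [IsReduced B] (a : B)
    (h : ∀ p : Ideal B, p ∈ minimalPrimes B → ∃ g : B, g ∉ p ∧ g * a = 0) : a = 0 := by
  have h1 : a ∈ sInf (minimalPrimes B) := by
    rw [Submodule.mem_sInf]
    intro (p : Ideal B) hp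
    have hpp : p.IsPrime := hp.1.1
    obtain ⟨g, hg, hga⟩ := h p hp
    exact (hpp.mem_or_mem (hga ▸ p.zero_mem : g * a ∈ p)).resolve_left hg
  have h2 : a ∈ (⊥ : Ideal B).radical := by
    rw [← Ideal.sInf_minimalPrimes]
    exact h1
  exact (isNilpotent_iff_eq_zero).1 ((Ideal.mem_radical_iff (I := (⊥ : Ideal B))).1 h2)

end K903.SplitAlg
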