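import Groth.Agent.Dual.H366.ClassMain
import Groth.Agent.CurvSt.K903.SplitAlg

/-!
# The conormal sequence of a generically smooth closed subscheme

`s : X ⟶ W` a closed immersion of a reduced scheme with finite locally free conormal module, `w : W ⟶ Y` smooth, all
generic points of `X` smooth over `Y`: `0 → C_{X/W} → s^* Ω_{W/Y} → Ω_{X/Y} → 0` is exact, and split near every smooth
point up to a function not vanishing there.
-/

set_option autoImplicit false
universe u

open CategoryTheory CategoryTheory.Limits AlgebraicGeometry Opposite TopologicalSpace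
open Groth.Agent.Sga67.Sec Groth.Agent.Sga67.LocBasis

namespace K903.ConSeq

open Groth.Agent.Dual Groth.Agent.Dual.H366.ConSec Groth.Agent.Dual.H366.Conormal Groth.Agent.Dual.H366.ClassMain

variable {X W Y : Scheme.{u}} (s : X ⟶ W) [IsClosedImmersion s] (w : W ⟶ Y)
  [QuasiCompact (pullback.diagonal w)] [QuasiCompact (pullback.diagonal (s ≫ w))]

/-- The conormal sequence as a short complex. -/
noncomputable def seq : ShortComplex X.Modules :=
  ShortComplex.mk (dMap s w) (pMap s w) (by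
    have hB : Opens.IsBasis (Set.range fun c : Ch w => c.V) := isBasis_ch w
    refine hom_ext_of_locally fun x U hx => ?_
    obtain ⟨O', hxO', hO'⟩ := exists_preimage s x U hx
    obtain ⟨c, hc, hcO⟩ := exists_ch w (s x) O' hxO'
    exact ⟨s ⁻¹ᵁ c.V, (s.preimage_mono hcO).trans hO', hc, fun y => pMap_dMap s w c.V c.hV y⟩)

theorem epi_pMap : Epi (pMap s w) := by
  refine epi_of_locally_surjective _ fun U t x hx => ?_
  obtain ⟨O', hxO', hO'⟩ := exists_preimage s x U hx
  obtain ⟨c, hc, hcO⟩ := exists_ch w (s x) O' hxO'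
  exact ⟨s ⁻¹ᵁ c.V, (s.preimage_mono hcO).trans hO', hc, surj_pMap s w c _⟩

theorem exact_seq : (seq s w).Exact := by
  refine exact_of_locally fun U t ht x hx => ?_
  obtain ⟨O', hxO', hO'⟩ := exists_preimage s x U hx
  obtain ⟨c, hc, hcO⟩ := exists_ch w (s x) O' hxO'
  refine ⟨s ⁻¹ᵁ c.V, (s.preimage_mono hcO).trans hO', hc, ?_⟩
  refine ex_pMap s w c _ ?_
  refine (appS_res (seq s w).g _ t).trans ?_
  rw [ht, map_zero]
  rfl

variable [Smooth w] [LocallyOfFinitePresentation (s ≫ w)]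

/-- Near a smooth point the map `C → s^* Ω` is split up to a function. -/
theorem exists_retract {m n : ℕ} (g : GoodCh s w m n) (x : X) (hx : x ∈ g.B.1)
    (hsm : x ∈ (s ≫ w).smoothLocus) :
    ∃ (r : Sec ((Scheme.Modules.pullback s).obj (Omega.sheaf w)) g.B.1 →ₗ[Γ(X, g.B.1)] Sec (Omega.conormal s) g.B.1)
      (a : Γ(X, g.B.1)), x ∈ X.basicOpen a ∧ ∀ y, r (appS (dMap s w) g.B.1 y) = a • y := by
  let := (X.evaluation (s ⁻¹ᵁ g.ch.V) x hx).hom.toAlgebra
  have h1 := (H328.SmoothPt.mem_smoothLocus_iff s w g.ch x hx).1 hsm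
  obtain ⟨r, a, ha, hr⟩ := SplitAlg.exists_retract (g.hc.basis le_rfl) (g.he.basis le_rfl) _ h1
  refine ⟨r, a, ?_, hr⟩
  exact (X.evaluation_ne_zero_iff_mem_basicOpen x hx a).1 ha

/-- Functions on an affine open vanish when they are killed near every smooth point. -/
theorem eq_zero_of_smooth [IsReduced X]
    (hgen : ∀ x : X, x ∉ (s ≫ w).smoothLocus → ∃ y : X, y ⤳ x ∧ y ≠ x) {U : X.Opens} (hU : IsAffineOpen U)
    (b : Γ(X, U)) (h : ∀ x ∈ U, x ∈ (s ≫ w).smoothLocus → ∃ a : Γ(X, U), x ∈ X.basicOpen a ∧ a * b = 0) : b = 0 := by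
  have hred : _root_.IsReduced Γ(X, U) := IsReduced.component_reduced U
  refine SplitAlg.eq_zero_of_minimal b fun p hp => ?_
  have hpp : p.IsPrime := hp.1.1
  let z : Spec Γ(X, U) := ⟨p, hpp⟩
  let x : X := hU.fromSpec z
  have hxU : x ∈ U := by
    have : x ∈ Set.range hU.fromSpec := ⟨z, rfl⟩
    rwa [hU.range_fromSpec] at this
  have hsm : x ∈ (s ≫ w).smoothLocus := by
    by_contra hx
    obtain ⟨y, hyx, hne⟩ := hgen x hx
    have hyU : y ∈ U := hyx.mem_open U.2 hxU
    obtain ⟨z', rfl⟩ : y ∈ Set.range hU.fromSpec := by rw [hU.range_fromSpec]; exact hyU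
    have h1 : z' ⤳ z := (hU.fromSpec.isOpenEmbedding.isInducing.specializes_iff).1 hyx
    have h2 : z'.asIdeal ≤ p := (PrimeSpectrum.le_iff_specializes _ _).2 h1
    have h3 : p ≤ z'.asIdeal := hp.2 ⟨z'.2, bot_le⟩ h2
    exact hne (congrArg hU.fromSpec (PrimeSpectrum.ext (le_antisymm h2 h3)))
  obtain ⟨a, ha, hab⟩ := h x hxU hsm
  refine ⟨a, fun hap => ?_, hab⟩
  have h4 : z ∈ hU.fromSpec ⁻¹ᵁ X.basicOpen a := ha
  rw [hU.fromSpec_preimage_basicOpen] at h4
  exact h4 hap

/-- `C → s^* Ω` is injective. -/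
theorem mono_dMap [IsReduced X] {m n : ℕ} (hC : FlatMod.IsFinLocFreeOfRank m (Omega.conormal s))
    (hΩ : FlatMod.IsFinLocFreeOfRank n (Omega.sheaf w))
    (hgen : ∀ x : X, x ∉ (s ≫ w).smoothLocus → ∃ y : X, y ⤳ x ∧ y ≠ x) : Mono (dMap s w) := by
  refine mono_of_locally_injective _ fun x U hx => ?_
  obtain ⟨g, hxg, hgU⟩ := exists_goodCh s w hC hΩ x U hx
  refine ⟨g.B.1, hgU, hxg, fun t ht => ?_⟩
  let b := g.hc.basis (le_refl g.B.1)
  rw [← b.sum_repr t]
  refine Finset.sum_eq_zero fun j _ => ?_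
  have h0 : b.repr t j = 0 := by
    refine eq_zero_of_smooth s w hgen g.B.2 _ fun y hy hsm => ?_
    obtain ⟨r, a, ha, hr⟩ := exists_retract s w g y hy hsm
    refine ⟨a, ha, ?_⟩
    have h1 : a • t = 0 := by
      rw [← hr, ht, map_zero]
    have h2 := congrArg (fun z => b.repr z j) h1
    simpa using h2
  rw [h0, zero_smul]

theorem shortExact_seq [IsReduced X] {m n : ℕ} (hC : FlatMod.IsFinLocFreeOfRank m (Omega.conormal s))
    (hΩ : FlatMod.IsFinLocFreeOfRank n (Omega.sheaf w))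
    (hgen : ∀ x : X, x ∉ (s ≫ w).smoothLocus → ∃ y : X, y ⤳ x ∧ y ≠ x) : (seq s w).ShortExact where
  exact := exact_seq s w
  mono_f := mono_dMap s w hC hΩ hgen
  epi_g := epi_pMap s w

end K903.ConSeq
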