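import Groth.Agent.Sga67.KosGlobal

/-!
# The conormal module of a regular closed immersion is finite locally free
-/

set_option autoImplicit false
universe u

open CategoryTheory CategoryTheory.Limits AlgebraicGeometry

namespace K903.ConormalFree

open Groth.Agent.Sga67.Sec Groth.Agent.Sga67.LocBasis Groth.Agent.Sga67.KosImm Groth.Agent.Sga67.KosGlobal Groth.Agent.Sga67.KosConormal

theorem isFinLocFree_conormal {X Y : Scheme.{u}} (i : Y ⟶ X) [IsClosedImmersion i]
    (hi : Mor2.IsRegularClosedImmersion i) : FlatMod.IsFinLocFree (Omega.conormal i) := by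
  rw [isFinLocFree_iff]
  intro y
  obtain ⟨c, hy, -⟩ := exists_chart hi y ⊤ trivial
  exact ⟨(aff c).1, c.l.length, hy, _, isLocBasis_fN c⟩

end K903.ConormalFree
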