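import Groth.Agent.CurvSt.K903.ConSeq
import Groth.Agent.CohqB.HomSheafQCoh
import Groth.Agent.CohqB.HomSheafCoh
import Groth.Agent.CohqB.HomSheafMap
import Groth.Agent.CurvesB.SubH1
import Groth.Agent.LoccohB.HHmap
import Groth.Agent.S0047
import Groth.Agent.PerfA.CohSerre

/-!
# The dual of the conormal map is onto at the smooth points, hence onto on `H^1` for curves
-/

set_option autoImplicit false
universe u

open CategoryTheory CategoryTheory.Limits AlgebraicGeometry Opposite TopologicalSpace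
open Groth.Agent.Sga67.Sec Groth.Agent.Sga67.LocBasis

namespace K903.DualCoker

open Groth.Agent.Dual Groth.Agent.Dual.H366.ConSec Groth.Agent.Dual.H366.Conormal Groth.Agent.Dual.H366.ClassMain
open Groth.Agent.CohqB.HomSheaf Groth.Agent.LoccohB

theorem subsingleton_stalk {X : Scheme.{u}} (M : X.Modules) (x : X)
    (h : ∀ (U : X.Opens) (_ : x ∈ U) (t : Sec M U), ∃ (V : X.Opens) (hV : V ≤ U), x ∈ V ∧ res M hV t = 0) :
    Subsingleton (M.presheaf.stalk x) := by
  refine subsingleton_of_forall_eq 0 fun y => ?_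
  obtain ⟨U, hx, t, rfl⟩ := TopCat.Presheaf.exists_germ_eq M.presheaf y
  obtain ⟨V, hV, hxV, ht⟩ := h U hx t
  have h1 := TopCat.Presheaf.germ_res_apply M.presheaf (homOfLE hV) x hxV t
  rw [← h1]
  have h2 : M.presheaf.map (homOfLE hV).op t = 0 := ht
  rw [h2, map_zero]

theorem res_basicOpen {X : Scheme.{u}} (M : X.Modules) {U : X.Opens} (a : Γ(X, U)) (z : Sec M U) (h : a • z = 0) :
    res M (X.basicOpen_le a) z = 0 := by
  have h5 : res M (X.basicOpen_le a) (a • z) = 0 := by rw [h, map_zero]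
  rw [res_smul] at h5
  have hu : IsUnit (resO X (X.basicOpen_le a) a) := X.toRingedSpace.isUnit_res_basicOpen a
  exact (hu.smul_eq_zero).1 h5

variable {X W Y : Scheme.{u}} (s : X ⟶ W) [IsClosedImmersion s] (w : W ⟶ Y)
  [QuasiCompact (pullback.diagonal w)] [QuasiCompact (pullback.diagonal (s ≫ w))]
  [Smooth w] [LocallyOfFinitePresentation (s ≫ w)]

theorem stalk_cokernel {m n : ℕ} (hC : FlatMod.IsFinLocFreeOfRank m (Omega.conormal s))
    (hΩ : FlatMod.IsFinLocFreeOfRank n (Omega.sheaf w)) (G : X.Modules) (x : X) (hx : x ∈ (s ≫ w).smoothLocus) :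
    Subsingleton ((cokernel (homPre (dMap s w) G)).presheaf.stalk x) := by
  refine subsingleton_stalk _ x fun U hxU t => ?_
  obtain ⟨V, hVU, hxV, t', ht'⟩ := locally_surjective_of_epi (cokernel.π (homPre (dMap s w) G)) t x hxU
  obtain ⟨g, hxg, hgV⟩ := exists_goodCh s w hC hΩ x V hxV
  obtain ⟨r, a, ha, hr⟩ := ConSeq.exists_retract s w g x hxg hx
  have hqC : Coh.IsQCoh (Omega.conormal s) := isQCoh_conormal s
  have hqP : Coh.IsQCoh ((Scheme.Modules.pullback s).obj (Omega.sheaf w)) :=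
    Groth.Agent.VarietyB.PullSec.isQCoh_pullback s _ (isQCoh_omega w)
  -- the section over the chart
  let t₁ : Γ(homSheaf (Omega.conormal s) G, g.B.1) := res _ hgV t'
  let φ : Γ(Omega.conormal s, g.B.1) →ₗ[Γ(X, g.B.1)] Γ(G, g.B.1) := comp t₁ g.B.1 le_rfl
  let ψ : Γ(homSheaf ((Scheme.Modules.pullback s).obj (Omega.sheaf w)) G, g.B.1) :=
    (affineEquiv hqP g.B.2).symm (φ ∘ₗ r)
  have h1 : (homPre (dMap s w) G).app g.B.1 ψ = a • t₁ := by
    refine comp_injective hqC g.B.2 fun m => ?_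
    rw [comp_homPre]
    have h2 : comp ψ g.B.1 le_rfl = φ ∘ₗ r := comp_affineEquiv_symm hqP g.B.2 _
    rw [h2, comp_self_smul]
    have h2' : r (appS (dMap s w) g.B.1 m) = (a • m : Γ(Omega.conormal s, g.B.1)) := hr m
    change φ (r (appS (dMap s w) g.B.1 m)) = a • φ m
    exact (congrArg φ h2').trans (φ.map_smul a m)
  let z : Sec (cokernel (homPre (dMap s w) G)) g.B.1 := appS (cokernel.π (homPre (dMap s w) G)) g.B.1 t₁
  have h3 : a • z = 0 := by
    refine ((appS (cokernel.π (homPre (dMap s w) G)) g.B.1).map_smul a t₁).symm.trans ?_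
    refine (congrArg (appS (cokernel.π (homPre (dMap s w) G)) g.B.1) h1.symm).trans ?_
    exact congrArg (fun f => appS f g.B.1 ψ) (cokernel.condition (homPre (dMap s w) G))
  have hz : z = res _ (hgV.trans hVU) t := by
    refine (appS_res (cokernel.π (homPre (dMap s w) G)) hgV t').trans ?_
    rw [ht', Groth.Agent.Sga67.Sec.res_res]
  refine ⟨X.basicOpen a, (X.basicOpen_le a).trans (hgV.trans hVU), ha, ?_⟩
  have h6 := res_basicOpen _ a z h3
  rw [hz, Groth.Agent.Sga67.Sec.res_res] at h6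
  exact h6

/-- On a curve with finitely many non-smooth points, the dual of the conormal map is onto on `H^1`. -/
theorem surjective_h1 [IsNoetherian X] (hdim : topologicalKrullDim X ≤ 1) {m n : ℕ}
    (hC : FlatMod.IsFinLocFreeOfRank m (Omega.conormal s))
    (hΩ : FlatMod.IsFinLocFreeOfRank n (Omega.sheaf w)) (G : X.Modules) (hG : Coh.IsCoh G)
    (hcC : Coh.IsCoh (Omega.conormal s)) (hcP : Coh.IsCoh ((Scheme.Modules.pullback s).obj (Omega.sheaf w)))
    (hcl : ∀ x : X, x ∉ (s ≫ w).smoothLocus → IsClosed ({x} : Set X)) :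
    Function.Surjective (HHmap.map (homPre (dMap s w) G) 1) := by
  refine Groth.Agent.CurvesB.SubH1.hmap_one_surjective_of_cokernel hdim _ ?_
  refine Groth.Agent.S0047.result X _ ?_ (fun x hx => ?_) 1 one_pos
  · exact Groth.Agent.PerfA.CohSerre.isCoh_cokernel _ (isCoh_homSheaf hcP hG).1 (isCoh_homSheaf hcC hG)
  · by_contra hcx
    refine hx ?_
    refine stalk_cokernel s w hC hΩ G x ?_
    by_contra hsm
    exact hcx (hcl x hsm)

end K903.DualCoker
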