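import Groth.Agent.S1625
import Groth.Agent.CohqB.ProjBC
import Groth.Agent.Ega3B.ProjProper
import Groth.Prelude.Def_KRR

/-!
# A proper curve over a field is projective
-/

set_option autoImplicit false
universe u

open CategoryTheory CategoryTheory.Limits AlgebraicGeometry TopologicalSpace

namespace K903.Embed

open Groth.Agent

theorem exists_closedImmersion (k : Type u) [Field k] (X : Scheme.{u}) [X.Over (Spec (CommRingCat.of k))]
    [IsProper (X ↘ (Spec (CommRingCat.of k)))] (hdim : topologicalKrullDim X ≤ 1) :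
    ∃ (n : ℕ) (i : X ⟶ KRR.PY n (Spec (CommRingCat.of k))), IsClosedImmersion i ∧
      i ≫ KRR.pr n (Spec (CommRingCat.of k)) = X ↘ Spec (CommRingCat.of k) := by
  obtain ⟨d, Y, c, j, hc, hj, hfac, -⟩ := S1625.result k X hdim
  have h1 : IsProper (j ≫ c ≫ CohB1.ProjSpace.toSpec d k) := by rw [hfac]; infer_instance
  have h2 : IsProper (CohB1.ProjSpace.toSpec d k) := Ega3B.ProjProper.isProper_toSpec d k
  have h3 : IsProper j := IsProper.of_comp j (c ≫ CohB1.ProjSpace.toSpec d k)
  have h4 : IsClosedImmersion j := by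
    refine IsClosedImmersion.of_isPreimmersion j ?_
    exact j.isClosedMap.isClosed_range
  refine ⟨d, j ≫ c ≫ (CohqB.ProjBC.projSpaceOverIso d k).inv, inferInstance, ?_⟩
  rw [Category.assoc, Category.assoc]
  erw [CohqB.ProjBC.projSpaceOverIso_inv_toBase]
  exact hfac

end K903.Embed
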