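import Groth.Agent.CurvSt.K903.ExtVB

/-!
# `Ext^n(A ⊗ L, G) = Ext^n(A, Hom(L, G))` for a finite locally free `L`; duals of invertible modules
-/

set_option autoImplicit false
universe w u

open CategoryTheory CategoryTheory.Limits AlgebraicGeometry MonoidalCategory CategoryTheory.Abelian

namespace K903.ExtTwist

open scoped Groth.Agent.Dcoh.MonCat
open Groth.Agent.Dcoh Groth.Agent.Dcoh.MonClosed Groth.Agent.CohqB.HomSheaf K903.ExtVB

variable {X : Scheme.{u}}

/-- `Ext^n(A ⊗ L, G) = Ext^n(A, Hom(L, G))`. -/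
noncomputable def extTwist (k : Type u) [CommRing k] [X.Over (Spec (CommRingCat.of k))] [HasExt.{w} X.Modules]
    {L : X.Modules} (hL : FlatMod.IsFinLocFree L) (A G : X.Modules) (n : ℕ) :
    Ext.{w} (CohB1.tensorMod A L) G n ≃ₗ[k] Ext.{w} A (homSheaf L G) n :=
  haveI := preservesFiniteLimits_tensorLeft hL
  haveI := preservesFiniteColimits_homFunctor hL
  haveI : (homFunctor L).Additive := (tensorHomAdj L).right_adjoint_additive
  haveI := Groth.Agent.PerfA.AffVan.enoughInjectives X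
  (preIso k (β_ L A) G n : Ext.{w} (A ⊗ L) G n ≃ₗ[k] Ext.{w} (L ⊗ A) G n) ≪≫ₗ
    (ExtAdjNat.linEquiv (k := k) (tensorHomAdj L)
      (ExtAdjNat.map_smul_id (tensorHomAdj L) (tensorLeft_smul k L)) A G n).symm

/-- The dual of `L` is its inverse when there is one. -/
theorem nonempty_iso_inverse {L I : X.Modules} (e : CohB1.tensorMod L I ≅ Coh.structureModule X) :
    Nonempty (homSheaf L (Coh.structureModule X) ≅ I) := by
  let e1 : L ⊗ I ≅ 𝟙_ X.Modules := e
  let ε : tensorLeft I ⋙ tensorLeft L ≅ 𝟭 X.Modules :=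
    (tensorLeftTensor L I).symm ≪≫ (tensoringLeft X.Modules).mapIso e1 ≪≫ leftUnitorNatIso X.Modules
  let η : 𝟭 X.Modules ≅ tensorLeft L ⋙ tensorLeft I :=
    ((tensorLeftTensor I L).symm ≪≫ (tensoringLeft X.Modules).mapIso (β_ I L ≪≫ e1) ≪≫
      leftUnitorNatIso X.Modules).symm
  let adj : tensorLeft L ⊣ tensorLeft I := (CategoryTheory.Equivalence.mk _ _ η ε).toAdjunction
  let e' : homFunctor L ≅ tensorLeft I := Adjunction.rightAdjointUniq (tensorHomAdj L) adj
  exact ⟨e'.app (Coh.structureModule X) ≪≫ ρ_ I⟩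

end K903.ExtTwist
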