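import Groth.Agent.CohqB.HomSheafMap
import Groth.Agent.Dcoh.MonClosed

/-!
# The sheaf `Hom` is functorial in isomorphisms of the first variable
-/

set_option autoImplicit false
universe u

open CategoryTheory CategoryTheory.Limits AlgebraicGeometry

namespace K903.HomIso

open Groth.Agent.CohqB.HomSheaf Groth.Agent.Dcoh.MonClosed

variable {X : Scheme.{u}}

theorem homPre_id (E G : X.Modules) : homPre (𝟙 E) G = 𝟙 _ := by
  refine Scheme.Modules.hom_ext _ _ fun U => ?_
  ext s
  exact sec_ext fun V hV m => rfl

theorem homPre_comp {E F H : X.Modules} (f : E ⟶ F) (g : F ⟶ H) (G : X.Modules) :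
    homPre (f ≫ g) G = homPre g G ≫ homPre f G := by
  refine Scheme.Modules.hom_ext _ _ fun U => ?_
  ext s
  exact sec_ext fun V hV m => rfl

/-- `Hom(F, G) ≅ Hom(E, G)` for `E ≅ F`. -/
noncomputable def homPreIso {E F : X.Modules} (e : E ≅ F) (G : X.Modules) : homSheaf F G ≅ homSheaf E G where
  hom := homPre e.hom G
  inv := homPre e.inv G
  hom_inv_id := by rw [← homPre_comp, e.inv_hom_id, homPre_id]
  inv_hom_id := by rw [← homPre_comp, e.hom_inv_id, homPre_id]

end K903.HomIso
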