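import Groth.Agent.Krr.H492.EulerClass
import Groth.Agent.Vancyc.H878.RelOmega
import Groth.Agent.Ega3A.PChart
import Groth.Agent.CurvSt.K903.HomIso
import Groth.Agent.CurvSt.K903.ExtTwist
import Groth.Agent.CurvesC.CurveCoh
import Groth.Agent.CurvesA.HHMap

/-!
# Vanishing of `H^1` of the restricted tangent bundle of projective space on a curve with `H^1(O(1)) = 0`
-/

set_option autoImplicit false
universe u

open CategoryTheory CategoryTheory.Limits AlgebraicGeometry CategoryTheory.Abelian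

namespace K903.EulerVan

open Groth.Agent Groth.Agent.CohqB.HomSheaf
open Groth.Agent.Krr.H492.EulerMap Groth.Agent.Krr.H492.EulerSeq
open Groth.Agent.Grpsch.PicGrp
open Groth.Agent.Fdesc.LocGen (isInvertible_structureModule isInvertible_pullback)

attribute [local instance] Abelian.hasFiniteBiproducts

theorem nonempty_tensor_iso (m : ℕ) {X : Scheme.{u}} (h : X ⟶ CohB1.ProjSpace.{u} m Z.{u}) :
    Nonempty (CohB1.tensorMod ((Scheme.Modules.pullback h).obj (Twist.twistProjSpace.{u} m Z.{u} (-1)))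
      ((Scheme.Modules.pullback h).obj (Twist.twistProjSpace.{u} m Z.{u} 1)) ≅ Coh.structureModule X) := by
  have h1 := congrArg (pull h) (Krr.H492.EulerClass.mk_tw_mul.{u} m)
  rw [map_mul, map_one, pull_mk, pull_mk, mk_mul_mk, mk_eq_one_iff] at h1
  exact h1

/-- `Ext(⨁ L, G) = 0` if `Ext(L, G) = 0`, after an additive functor. -/
theorem subsingleton_ext_map_biproduct {C : Type*} [Category* C] [Preadditive C] [HasFiniteBiproducts C]
    {D : Type*} [Category* D] [Abelian D] [HasExt D] (F : C ⥤ D) [F.Additive] {n : ℕ} (K : Fin n → C) (G : D) (q : ℕ)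
    (h : ∀ j, Subsingleton (Ext (F.obj (K j)) G q)) : Subsingleton (Ext (F.obj (⨁ K)) G q) := by
  refine subsingleton_of_forall_eq 0 fun x => ?_
  have h1 : 𝟙 (F.obj (⨁ K)) = ∑ j, F.map (biproduct.π K j) ≫ F.map (biproduct.ι K j) := by
    rw [← F.map_id, ← biproduct.total, F.map_sum]
    exact Finset.sum_congr rfl fun j _ => F.map_comp _ _
  have h2 : (Ext.mk₀ (𝟙 (F.obj (⨁ K)))).comp x (zero_add q) = x := Ext.mk₀_id_comp x
  rw [← h2, h1, Ext.mk₀_sum, Ext.sum_comp]
  refine Finset.sum_eq_zero fun j _ => ?_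
  rw [← Ext.mk₀_comp_mk₀_assoc, (h j).elim ((Ext.mk₀ (F.map (biproduct.ι K j))).comp x (zero_add q)) 0, Ext.comp_zero]

theorem subsingleton_ext_of_shortExact {C : Type*} [Category* C] [Abelian C] [HasExt C] {S : ShortComplex C}
    (hS : S.ShortExact) (G : C) (q : ℕ) (h2 : Subsingleton (Ext S.X₂ G q)) (h3 : Subsingleton (Ext S.X₃ G (1 + q))) :
    Subsingleton (Ext S.X₁ G q) := by
  refine subsingleton_of_forall_eq 0 fun x => ?_
  obtain ⟨y, hy⟩ := Ext.contravariant_sequence_exact₁ hS _ x (rfl : 1 + q = 1 + q) (h3.elim _ _)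
  rw [← hy, h2.elim y 0, Ext.comp_zero]

theorem subsingleton_h1 (k : Type u) [Field k] (m : ℕ) (X : Scheme.{u}) [X.Over (Spec (CommRingCat.of k))]
    [IsProper (X ↘ (Spec (CommRingCat.of k)))] (hdim : topologicalKrullDim X = 1)
    (h : X ⟶ CohB1.ProjSpace.{u} m Z.{u})
    (hv : Subsingleton (Coh.HH X ((Scheme.Modules.pullback h).obj (Twist.twistProjSpace.{u} m Z.{u} 1)) 1)) :
    Subsingleton (Coh.HH X (homSheaf ((Scheme.Modules.pullback h).obj
      (Omega.sheaf (CohB1.ProjSpace.toSpec.{u} m Z.{u}))) (Coh.structureModule X)) 1) := by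
  let _ := HasExt.standard X.Modules
  have hL0 : FlatMod.IsFinLocFree (Krr.H492.EulerSeq.seq.{u} m).X₃ := Krr.H492.EulerClass.isFinLocFree_tw m 0
  have hS := Krr.H496.PullK0.shortExact_pullback_of_isFinLocFree h (Krr.H492.EulerSeq.shortExact.{u} m) hL0
  have hL : FlatMod.IsFinLocFree (Twist.twistProjSpace.{u} m Z.{u} (-1)) := Krr.H492.EulerClass.isFinLocFree_tw m (-1)
  have h1 : Subsingleton (Ext ((Scheme.Modules.pullback h).obj (L.{u} m)) (Coh.structureModule X) 1) := by
    obtain ⟨e⟩ := nonempty_tensor_iso m h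
    obtain ⟨e'⟩ := K903.ExtTwist.nonempty_iso_inverse e
    have h2 := (K903.ExtVB.extVB k (PerfB.FlatPull.isFinLocFree_pullback h hL) (Coh.structureModule X) 1).toEquiv
    have h3 : Subsingleton (Coh.HH X (homSheaf ((Scheme.Modules.pullback h).obj (Twist.twistProjSpace.{u} m Z.{u} (-1)))
      (Coh.structureModule X)) 1) := (Groth.Agent.CurvesA.HHMap.equivOver k e' 1).toEquiv.subsingleton
    exact h2.subsingleton
  have h2 : Subsingleton (Ext (((Krr.H492.EulerSeq.seq.{u} m).map (Scheme.Modules.pullback h)).X₂) (Coh.structureModule X) 1) :=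
    subsingleton_ext_map_biproduct (Scheme.Modules.pullback h) (fun _ : Fin (m + 1) => L.{u} m) _ 1 fun _ => h1
  have h3 : Subsingleton (Ext (((Krr.H492.EulerSeq.seq.{u} m).map (Scheme.Modules.pullback h)).X₃) (Coh.structureModule X) 2) := by
    have := Groth.Agent.CurvesC.CurveCoh.subsingleton_H_ge_two k X hdim
      (homSheaf ((Scheme.Modules.pullback h).obj (Krr.H492.EulerSeq.seq.{u} m).X₃) (Coh.structureModule X)) 2 (by norm_num)
    exact (K903.ExtVB.extVB k (PerfB.FlatPull.isFinLocFree_pullback h hL0) (Coh.structureModule X) 2).toEquiv.subsingleton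
  have h4 := subsingleton_ext_of_shortExact hS (Coh.structureModule X) 1 h2 h3
  exact @Equiv.subsingleton _ _ (K903.ExtVB.extVB k (Krr.H492.EulerClass.isFinLocFree_pull_omega m h)
    (Coh.structureModule X) 1).toEquiv.symm h4

/-- The same over a field: `H^1(X, (i^* Ω_{P^m_k})^∨) = 0` if `H^1(X, i^* O(1)) = 0`. -/
theorem main (k : Type u) [Field k] (m : ℕ) (X : Scheme.{u}) [X.Over (Spec (CommRingCat.of k))]
    [IsProper (X ↘ (Spec (CommRingCat.of k)))] (hdim : topologicalKrullDim X = 1)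
    (i : X ⟶ CohB1.ProjSpace.{u} m k)
    (hv : Subsingleton (Coh.HH X ((Scheme.Modules.pullback i).obj (Twist.twistProjSpace.{u} m k 1)) 1)) :
    FlatMod.IsFinLocFree ((Scheme.Modules.pullback i).obj (Omega.sheaf (CohB1.ProjSpace.toSpec.{u} m k))) ∧
    Subsingleton (Coh.HH X (homSheaf ((Scheme.Modules.pullback i).obj
      (Omega.sheaf (CohB1.ProjSpace.toSpec.{u} m k))) (Coh.structureModule X)) 1) := by
  have : IsProper (CohB1.ProjSpace.toSpec.{u} m Z.{u}) := Ega3B.ProjProper.isProper_toSpec m _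
  let φ : Z.{u} →+* k := Ega3A.PChart.zmap k
  let h := i ≫ CohqB.ProjBC.pmap φ m
  let e : (Scheme.Modules.pullback i).obj (Omega.sheaf (CohB1.ProjSpace.toSpec.{u} m k)) ≅
      (Scheme.Modules.pullback h).obj (Omega.sheaf (CohB1.ProjSpace.toSpec.{u} m Z.{u})) :=
    (Scheme.Modules.pullback i).mapIso (Vancyc.H878.RelOmega.omegaBC (CohqB.ProjBC.isPullback_pmap φ m)).symm ≪≫
      (Scheme.Modules.pullbackComp i _).app _
  let e1 : (Scheme.Modules.pullback i).obj (Twist.twistProjSpace.{u} m k 1) ≅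
      (Scheme.Modules.pullback h).obj (Twist.twistProjSpace.{u} m Z.{u} 1) :=
    (Scheme.Modules.pullback i).mapIso (Ega3A.PChart.pullTwistIso φ m 1).symm ≪≫
      (Scheme.Modules.pullbackComp i _).app _
  have h1 := @Equiv.subsingleton _ _ (Groth.Agent.CurvesA.HHMap.equivOver k e1 1).toEquiv.symm hv
  refine ⟨Dcoh.FinLocFree.isFinLocFree_of_iso e.symm (Krr.H492.EulerClass.isFinLocFree_pull_omega m h), ?_⟩
  exact @Equiv.subsingleton _ _ (Groth.Agent.CurvesA.HHMap.equivOver k
    (HomIso.homPreIso e.symm (Coh.structureModule X)) 1).toEquiv (subsingleton_h1 k m X hdim h h1)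

end K903.EulerVan
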