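import Mathlib.Algebra.Homology.DerivedCategory.Ext.Linear
import Mathlib.Algebra.Homology.DerivedCategory.Ext.ExactSequences
import Mathlib.LinearAlgebra.FiniteDimensional.Lemmas

/-!
# Counting dimensions in the contravariant long exact Ext sequence

For `0 → E₁ → E₀ → F → 0` in a `k`-linear abelian category and an object `O` with `Ext²(E₀, O) = 0`,
`Ext¹(E₀, O) → Ext¹(E₁, O)` onto and `Ext^{0,1}(E_j, O)` finite-dimensional: `Ext²(F, O) = 0` and
`dim Ext¹(F, O) - dim Ext⁰(F, O) = (ext⁰(E₁) - ext¹(E₁)) - (ext⁰(E₀) - ext¹(E₀))`.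
-/

set_option autoImplicit false
universe w v u t

open CategoryTheory CategoryTheory.Abelian

namespace K903.ExtLin

section LinAlg

variable {k : Type*} [Field k] {A₀ A₁ A₂ A₃ A₄ A₅ : Type*}
  [AddCommGroup A₀] [AddCommGroup A₁] [AddCommGroup A₂] [AddCommGroup A₃] [AddCommGroup A₄] [AddCommGroup A₅]
  [Module k A₀] [Module k A₁] [Module k A₂] [Module k A₃] [Module k A₄] [Module k A₅]

theorem finrank_sub_of_exact (f₀ : A₀ →ₗ[k] A₁) (f₁ : A₁ →ₗ[k] A₂) (f₂ : A₂ →ₗ[k] A₃) (f₃ : A₃ →ₗ[k] A₄)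
    (f₄ : A₄ →ₗ[k] A₅) (h₀ : Function.Injective f₀) (h₁ : Function.Exact f₀ f₁) (h₂ : Function.Exact f₁ f₂)
    (h₃ : Function.Exact f₂ f₃) (h₄ : Function.Exact f₃ f₄) (h₅ : Function.Surjective f₄)
    [FiniteDimensional k A₁] [FiniteDimensional k A₂] [FiniteDimensional k A₄] :
    (Module.finrank k A₃ : ℤ) - Module.finrank k A₀ =
      ((Module.finrank k A₂ : ℤ) - Module.finrank k A₅) - ((Module.finrank k A₁ : ℤ) - Module.finrank k A₄) := by
  have e1 : LinearMap.ker f₁ = LinearMap.range f₀ := (LinearMap.exact_iff.1 h₁)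
  have e2 : LinearMap.ker f₂ = LinearMap.range f₁ := (LinearMap.exact_iff.1 h₂)
  have e3 : LinearMap.ker f₃ = LinearMap.range f₂ := (LinearMap.exact_iff.1 h₃)
  have e4 : LinearMap.ker f₄ = LinearMap.range f₃ := (LinearMap.exact_iff.1 h₄)
  have F3 : FiniteDimensional k A₃ := by
    have a : FiniteDimensional k (LinearMap.ker f₃) := by rw [e3]; infer_instance
    have b : FiniteDimensional k (LinearMap.range f₃) := inferInstance
    have c : FiniteDimensional k (A₃ ⧸ LinearMap.ker f₃) := Module.Finite.equiv f₃.quotKerEquivRange.symm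
    exact Module.Finite.of_submodule_quotient (LinearMap.ker f₃)
  have r0 : Module.finrank k (LinearMap.range f₀) = Module.finrank k A₀ := LinearMap.finrank_range_of_inj h₀
  have r5 : Module.finrank k (LinearMap.range f₄) = Module.finrank k A₅ := by
    rw [LinearMap.range_eq_top.2 h₅, finrank_top]
  have n1 := LinearMap.finrank_range_add_finrank_ker f₁
  have n2 := LinearMap.finrank_range_add_finrank_ker f₂
  have n3 := LinearMap.finrank_range_add_finrank_ker f₃
  have n4 := LinearMap.finrank_range_add_finrank_ker f₄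
  rw [e1] at n1
  rw [e2] at n2
  rw [e3] at n3
  rw [e4] at n4
  omega

end LinAlg

variable {k : Type t} [Field k] {C : Type u} [Category.{v} C] [Abelian C] [Linear k C] [HasExt.{w} C]

theorem main {S : ShortComplex C} (hS : S.ShortExact) (O : C)
    (h2 : Subsingleton (Ext S.X₂ O 2))
    (h1 : Function.Surjective ((Ext.mk₀ S.f).precomp O (zero_add 1)))
    [FiniteDimensional k (Ext S.X₂ O 0)] [FiniteDimensional k (Ext S.X₁ O 0)]
    [FiniteDimensional k (Ext S.X₂ O 1)] :
    (Module.finrank k (Ext S.X₃ O 1) : ℤ) - Module.finrank k (Ext S.X₃ O 0) =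
      ((Module.finrank k (Ext S.X₁ O 0) : ℤ) - Module.finrank k (Ext S.X₁ O 1)) -
        ((Module.finrank k (Ext S.X₂ O 0) : ℤ) - Module.finrank k (Ext S.X₂ O 1)) ∧
    Subsingleton (Ext S.X₃ O 2) := by
  have hepi := hS.epi_g
  constructor
  · refine finrank_sub_of_exact
      (Ext.precompOfLinear (Ext.mk₀ S.g) k O (zero_add 0))
      (Ext.precompOfLinear (Ext.mk₀ S.f) k O (zero_add 0))
      (Ext.precompOfLinear hS.extClass k O (add_zero 1))
      (Ext.precompOfLinear (Ext.mk₀ S.g) k O (zero_add 1))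
      (Ext.precompOfLinear (Ext.mk₀ S.f) k O (zero_add 1)) ?_ ?_ ?_ ?_ ?_ h1
    · exact Ext.precomp_mk₀_injective_of_epi _ _
    · exact (ShortComplex.ab_exact_iff_function_exact _).mp (Ext.contravariant_sequence_exact₂' hS O 0)
    · exact (ShortComplex.ab_exact_iff_function_exact _).mp (Ext.contravariant_sequence_exact₁' hS O 0 1 rfl)
    · exact (ShortComplex.ab_exact_iff_function_exact _).mp (Ext.contravariant_sequence_exact₃' hS O 0 1 rfl)
    · exact (ShortComplex.ab_exact_iff_function_exact _).mp (Ext.contravariant_sequence_exact₂' hS O 1)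
  · refine subsingleton_of_forall_eq 0 fun x => ?_
    obtain ⟨y, rfl⟩ := Ext.contravariant_sequence_exact₃ hS O x (Subsingleton.elim _ _) (n₀ := 1) rfl
    obtain ⟨z, rfl⟩ := h1 y
    change hS.extClass.comp ((Ext.mk₀ S.f).comp z (zero_add 1)) _ = 0
    exact hS.extClass_comp_assoc z

end K903.ExtLin
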