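import Groth.Agent.CurvSt.K903.ExtLin
import Groth.Agent.CurvSt.K903.ExtVB
import Groth.Agent.CurvSt.K903.DualCoker
import Groth.Agent.CurvesC.CurveCoh
import Groth.Agent.PerfA.CohSerre
import Groth.Agent.S0002

/-!
# Ext groups out of the sheaf of differentials of a curve, from a two-term locally free resolution
-/

set_option autoImplicit false
universe w u

open CategoryTheory CategoryTheory.Limits AlgebraicGeometry CategoryTheory.Abelian

namespace K903.ExtOmega

open Groth.Agent.Dual.H366.Conormal Groth.Agent.CohqB.HomSheaf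

theorem mem_smoothLocus_congr {X Y : Scheme.{u}} (f g : X ⟶ Y) [LocallyOfFinitePresentation f]
    [LocallyOfFinitePresentation g] (h : f = g) (x : X) : x ∈ f.smoothLocus ↔ x ∈ g.smoothLocus := by
  subst h
  rfl

theorem main (k : Type u) [Field k] (X : Scheme.{u}) [X.Over (Spec (CommRingCat.of k))]
    [IsProper (X ↘ Spec (CommRingCat.of k))] (hdim : topologicalKrullDim X = 1) [IsReduced X]
    {W : Scheme.{u}} (s : X ⟶ W) [IsClosedImmersion s] (w : W ⟶ Spec (CommRingCat.of k)) [Smooth w]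
    [QuasiCompact (pullback.diagonal w)] (hfac : s ≫ w = X ↘ Spec (CommRingCat.of k)) {m n : ℕ}
    (hC : FlatMod.IsFinLocFreeOfRank m (Omega.conormal s))
    (hΩ : FlatMod.IsFinLocFreeOfRank n (Omega.sheaf w))
    (hgen : ∀ x : X, x ∉ (X ↘ Spec (CommRingCat.of k)).smoothLocus → ∃ y : X, y ⤳ x ∧ y ≠ x)
    (hcl : ∀ x : X, x ∉ (X ↘ Spec (CommRingCat.of k)).smoothLocus → IsClosed ({x} : Set X))
    (hP : FlatMod.IsFinLocFree ((Scheme.Modules.pullback s).obj (Omega.sheaf w)))
    (G : X.Modules) (hG : Coh.IsCoh G) [HasExt.{w} X.Modules] :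
    (Module.finrank k (Ext.{w} (Omega.sheaf (X ↘ Spec (CommRingCat.of k))) G 1) : ℤ) -
      Module.finrank k (Ext.{w} (Omega.sheaf (X ↘ Spec (CommRingCat.of k))) G 0) =
      Curv2.euler k X (homSheaf (Omega.conormal s) G) -
        Curv2.euler k X (homSheaf ((Scheme.Modules.pullback s).obj (Omega.sheaf w)) G) ∧
    Subsingleton (Ext.{w} (Omega.sheaf (X ↘ Spec (CommRingCat.of k))) G 2) := by
  have hN := Groth.Agent.CurvesC.CurveCoh.noetherianSpace k X
  have : LocallyOfFinitePresentation (X ↘ Spec (CommRingCat.of k)) := inferInstance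
  have hlfp : LocallyOfFinitePresentation (s ≫ w) := by rw [hfac]; infer_instance
  have hqd : QuasiCompact (pullback.diagonal (s ≫ w)) := by rw [hfac]; infer_instance
  have hC' : FlatMod.IsFinLocFree (Omega.conormal s) := fun x => by
    obtain ⟨U, hx, hU⟩ := hC x
    exact ⟨U, m, hx, hU⟩
  have hS := ConSeq.shortExact_seq s w hC hΩ (fun x hx => hgen x (by rwa [← mem_smoothLocus_congr _ _ hfac x]))
  have hcC := Groth.Agent.PerfA.CohSerre.isCoh_of_isFinLocFree hC'
  have hcP := Groth.Agent.PerfA.CohSerre.isCoh_of_isFinLocFree hP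
  have hs1 := DualCoker.surjective_h1 s w hdim.le hC hΩ G hG hcC hcP (fun x hx => hcl x (by rwa [← mem_smoothLocus_congr _ _ hfac x]))
  have hs2 := ExtVB.surjective_precomp.{w} hP hC' (dMap s w) G 1 hs1
  have hv2 : Subsingleton (Ext.{w} ((Scheme.Modules.pullback s).obj (Omega.sheaf w)) G 2) :=
    have := Groth.Agent.CurvesC.CurveCoh.subsingleton_H_ge_two k X hdim
      (homSheaf ((Scheme.Modules.pullback s).obj (Omega.sheaf w)) G) 2 (by norm_num)
    (ExtVB.extVB.{w} k hP G 2).toEquiv.subsingleton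
  have f1 : ∀ n, Module.Finite k (Coh.HH X (homSheaf (Omega.conormal s) G) n) := fun n =>
    Groth.Agent.S0002.result k X _ (isCoh_homSheaf hcC hG) n
  have f2 : ∀ n, Module.Finite k (Coh.HH X (homSheaf ((Scheme.Modules.pullback s).obj (Omega.sheaf w)) G) n) := fun n =>
    Groth.Agent.S0002.result k X _ (isCoh_homSheaf hcP hG) n
  have g1 : ∀ n, FiniteDimensional k (Ext.{w} (ConSeq.seq s w).X₁ G n) := fun n =>
    have := f1 n
    Module.Finite.equiv (ExtVB.extVB.{w} k hC' G n).symm
  have g2 : ∀ n, FiniteDimensional k (Ext.{w} (ConSeq.seq s w).X₂ G n) := fun n =>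
    have := f2 n
    Module.Finite.equiv (ExtVB.extVB.{w} k hP G n).symm
  have key := ExtLin.main (k := k) hS G hv2 hs2
  have e1 : ∀ n, Module.finrank k (Ext.{w} (ConSeq.seq s w).X₁ G n) =
      Module.finrank k (Coh.HH X (homSheaf (Omega.conormal s) G) n) := fun n =>
    (ExtVB.extVB.{w} k hC' G n).finrank_eq
  have e2 : ∀ n, Module.finrank k (Ext.{w} (ConSeq.seq s w).X₂ G n) =
      Module.finrank k (Coh.HH X (homSheaf ((Scheme.Modules.pullback s).obj (Omega.sheaf w)) G) n) := fun n =>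
    (ExtVB.extVB.{w} k hP G n).finrank_eq
  rw [e1, e1, e2, e2, ← Groth.Agent.CurvesC.CurveCoh.euler_eq k X hdim,
    ← Groth.Agent.CurvesC.CurveCoh.euler_eq k X hdim] at key
  have hX3 : (ConSeq.seq s w).X₃ = Omega.sheaf (X ↘ Spec (CommRingCat.of k)) := by
    change Omega.sheaf (s ≫ w) = _
    rw [hfac]
  rw [hX3] at key
  exact key

end K903.ExtOmega
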