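import Groth.Agent.S1534
import Groth.Agent.S1536
import Groth.Agent.S2501
import Groth.Agent.CurvesB.DimPts
import Groth.Agent.CurvSt.K903.CINodal

/-!
# Basic facts on a connected at-worst-nodal curve over an algebraically closed field
-/

set_option autoImplicit false
universe u

open CategoryTheory CategoryTheory.Limits AlgebraicGeometry TopologicalSpace

namespace K903.Facts

open Groth.Agent

/-- The local ring at a closed point of a scheme all of whose components are curves has dimension one. -/
theorem ringKrullDim_stalk {X : Scheme.{u}} (hdim : topologicalKrullDim X ≤ 1)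
    (hequi : ∀ Z ∈ irreducibleComponents (X : Type u), topologicalKrullDim Z = 1) (x : X)
    (hx : IsClosed ({x} : Set X)) : ringKrullDim (X.presheaf.stalk x) = 1 := by
  refine le_antisymm ((CurvesB.DimPts.ringKrullDim_stalk_le x).trans hdim) ?_
  rw [ringKrullDim_stalk_eq_coheight]
  obtain ⟨η, hη⟩ := QuasiSober.sober (isIrreducible_irreducibleComponent (x := x)) isClosed_irreducibleComponent
  have h1 : η ⤳ x := by
    rw [specializes_iff_mem_closure, hη.def]
    exact mem_irreducibleComponent
  have hne : η ≠ x := by
    rintro rfl
    have h2 := hequi _ (irreducibleComponent_mem_irreducibleComponents η)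
    rw [← hη.def, hx.closure_eq] at h2
    have h3 : Subsingleton (IrreducibleCloseds ({η} : Set X)) := by
      refine ⟨fun A B => ?_⟩
      have hA : ∀ C : IrreducibleCloseds ({η} : Set X), (C : Set ({η} : Set X)) = Set.univ := fun C => by
        obtain ⟨c, hc⟩ := C.isIrreducible.nonempty
        refine Set.eq_univ_of_forall fun d => ?_
        rwa [Subsingleton.elim d c]
      exact SetLike.coe_injective ((hA A).trans (hA B).symm)
    have h4 : topologicalKrullDim ({η} : Set X) ≤ 0 := Order.krullDim_nonpos_of_subsingleton
    rw [h2] at h4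
    exact absurd h4 (by decide)
  have hlt : x < η := lt_of_le_not_ge h1 fun h2 : x ⤳ η => hne (h1.antisymm h2).eq
  have h5 := Order.coheight_add_one_le hlt
  have h6 : (1 : ℕ∞) ≤ Order.coheight x := le_trans (by simp) h5
  exact_mod_cast h6

section

variable (k : Type u) [Field k] [IsAlgClosed k] (X : Scheme.{u}) [X.Over (Spec (CommRingCat.of k))]
  [IsProper (X ↘ Spec (CommRingCat.of k))]

omit [IsAlgClosed k] in
theorem isReduced (hX : Curv2.AtWorstNodal k X) : IsReduced X := by
  have := CurvesB.NodeSch2.geometricallyReduced_of_atWorstNodal k hX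
  have : IsLocallyNoetherian (Spec (CommRingCat.of k)) := inferInstance
  exact GeometricallyReduced.isReduced_of_flat_of_isLocallyNoetherian (X ↘ (Spec (CommRingCat.of k)))

theorem finrank_h0 [ConnectedSpace X] (hX : Curv2.AtWorstNodal k X) :
    Module.finrank k (Coh.HH X (Coh.structureModule X) 0) = 1 := by
  have := CurvesB.NodeSch2.geometricallyReduced_of_atWorstNodal k hX
  have := S2501.result (X ↘ (Spec (CommRingCat.of k)))
  exact S1536.result k X

theorem equi [ConnectedSpace X] (hdim : topologicalKrullDim X = 1) (hX : Curv2.AtWorstNodal k X) :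
    ∀ Z ∈ irreducibleComponents (X : Type u), topologicalKrullDim Z = 1 :=
  (S1534.result k X hdim (finrank_h0 k X hX)).2.2

include k in
theorem exists_smooth_closed [Nonempty X] [IsReduced X] :
    ∃ x : X, IsClosed ({x} : Set X) ∧ IsRegularLocalRing (X.presheaf.stalk x) := by
  have : JacobsonSpace X := LocallyOfFiniteType.jacobsonSpace (X ↘ Spec (CommRingCat.of k))
  have h := S1561.result k X
  have hne : ((X ↘ (Spec (CommRingCat.of k))).smoothLocus : Set X).Nonempty := h.2.nonempty
  obtain ⟨x, hx, hxc⟩ := nonempty_inter_closedPoints hne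
    (X ↘ (Spec (CommRingCat.of k))).smoothLocus.isOpen.isLocallyClosed
  exact ⟨x, hxc, (h.1 x).1 hx⟩

end

end K903.Facts
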