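import Groth.Agent.CurvSt.K903.GraphHilb
import Groth.Agent.Fga.HilbAsm2
import Groth.Agent.Fga.RepQMain

/-!
# The isomorphisms whose graph has a given Hilbert polynomial (helper903)

* `K903.IsomPart.exists_part` : the part with Hilbert polynomial `Φ` of the Hilbert functor of a closed subscheme of
  `P^n_S` is represented by a scheme projective over `S`;
* `K903.IsomPart.exists_isom` : the isomorphisms `X_T ≅ Y_T` whose graph in `X ×_S Y ⊆ P^n_S` has Hilbert
  polynomial `Φ` are represented by an open subscheme.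
-/

set_option autoImplicit false
universe u

open CategoryTheory CategoryTheory.Limits AlgebraicGeometry Opposite CohB1

namespace K903.IsomPart

open Groth.Agent Groth.Agent.Fga Groth.Agent.Picfga.OverRep NoethRep HilbFun QA0 QA1 HilbAsm1 HilbAsm2 HilbClosed QH
  GraphHilb

/-- The `Φ`-part of the Hilbert functor. -/
theorem exists_part {n : ℕ} {S W : Scheme.{u}} [IsNoetherian S] (i : W ⟶ ProjSpaceOver n S) [IsClosedImmersion i]
    {Φ : ℤ → ℤ} (hΦ : Num (n + 1) Φ) :
    ∃ (H : Over S) (ξ : FGA.HilbSet (fX i) H), IsNoetherian H.left ∧ IsProper H.hom ∧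
      ∀ (T : Over S) [IsLocallyNoetherian T.left] (x : FGA.HilbSet (fX i) T),
        (∀ (K : Type u) [Field K] (s : Spec (CommRingCat.of K) ⟶ S) (g : Over.mk s ⟶ T),
          QX i Φ K s (pullH (fX i) g x)) → ∃! g : T ⟶ H, pullH (fX i) g ξ = x := by
  have hΦ' : Num (Fintype.card (Fin (n + 1))) Φ := by rwa [Fintype.card_fin]
  obtain ⟨P, r, N, c, hc⟩ := RepQMain.exists_repQ (Fin (n + 1)) Unit Φ hΦ'
  obtain ⟨H, ξ, c', h1, h2, h3⟩ := exists_nrep_X i hΦ r c
  let ξ' : {x : (hilb (fX i)).obj (op H) // Fib (QX i Φ) H x} := ξ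
  have hp : IsProper (ProjSpaceOver.toBase N S) := inferInstance
  have hH : IsProper H.hom := by
    rw [← h3]
    infer_instance
  have hN : IsNoetherian H.left := by
    have := h1.noeth
    have h4 : CompactSpace H.left := QuasiCompact.compactSpace_of_compactSpace H.hom
    constructor
  refine ⟨H, ξ'.1, hN, hH, fun T _ x hx => ?_⟩
  obtain ⟨g, hg, hg'⟩ := h1.univ T (⟨x, hx⟩ : {x : (hilb (fX i)).obj (op T) // Fib (QX i Φ) T x})
  exact ⟨g, congrArg Subtype.val hg, fun k hk => hg' k (Subtype.ext hk)⟩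

/-- `exists_part` with the structure map as a variable. -/
theorem exists_part' {n : ℕ} {S W : Scheme.{u}} [IsNoetherian S] (i : W ⟶ ProjSpaceOver n S) [IsClosedImmersion i]
    {f : W ⟶ S} (hf : i ≫ ProjSpaceOver.toBase n S = f) {Φ : ℤ → ℤ} (hΦ : Num (n + 1) Φ)
    (P : ∀ (K : Type u) [Field K] (s : Spec (CommRingCat.of K) ⟶ S), FGA.HilbSet f (Over.mk s) → Prop)
    (hP : ∀ (K : Type u) [Field K] (s : Spec (CommRingCat.of K) ⟶ S) (x : FGA.HilbSet (fX i) (Over.mk s)),
      P K s (hf ▸ x) → QX i Φ K s x) :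
    ∃ (H : Over S) (ξ : FGA.HilbSet f H), IsNoetherian H.left ∧ IsProper H.hom ∧
      ∀ (T : Over S) [IsLocallyNoetherian T.left] (x : FGA.HilbSet f T),
        (∀ (K : Type u) [Field K] (s : Spec (CommRingCat.of K) ⟶ S) (g : Over.mk s ⟶ T),
          P K s (pullH f g x)) → ∃! g : T ⟶ H, pullH f g ξ = x := by
  subst hf
  obtain ⟨H, ξ, h1, h2, h3⟩ := exists_part i hΦ
  exact ⟨H, ξ, h1, h2, fun T _ x hx => h3 T x fun K _ s g => hP K s _ (hx K s g)⟩

/-- The isomorphisms whose graph satisfies `P`. -/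
theorem exists_isom {S X Y : Scheme.{u}} [IsNoetherian S] (gX : X ⟶ S) (gY : Y ⟶ S) [IsProper gX] [Flat gX]
    [IsProper gY]
    (P : ∀ (K : Type u) [Field K] (s : Spec (CommRingCat.of K) ⟶ S), FGA.HilbSet (fXY gX gY) (Over.mk s) → Prop)
    (hP : ∃ (H : Over S) (ξ : FGA.HilbSet (fXY gX gY) H), IsNoetherian H.left ∧ IsProper H.hom ∧
      ∀ (T : Over S) [IsLocallyNoetherian T.left] (x : FGA.HilbSet (fXY gX gY) T),
        (∀ (K : Type u) [Field K] (s : Spec (CommRingCat.of K) ⟶ S) (g : Over.mk s ⟶ T),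
          P K s (pullH (fXY gX gY) g x)) → ∃! g : T ⟶ H, pullH (fXY gX gY) g ξ = x)
    (hgr : ∀ (K : Type u) [Field K] (s : Spec (CommRingCat.of K) ⟶ S) (x : FGA.HilbSet (fXY gX gY) (Over.mk s)),
      IsGr x → P K s x) :
    ∃ (H B : Over S) (j : B ⟶ H) (θ : PicF.XT gX B ≅ PicF.XT gY B), IsNoetherian H.left ∧ IsProper H.hom ∧
      IsOpenImmersion j.left ∧ θ.hom ≫ PicF.XTproj gY B = PicF.XTproj gX B ∧
      (∀ (T : Over S) [IsLocallyNoetherian T.left] (φ : PicF.XT gX T ≅ PicF.XT gY T),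
        φ.hom ≫ PicF.XTproj gY T = PicF.XTproj gX T →
        ∃! g : T ⟶ B, PicF.XTmap gX g ≫ θ.hom = φ.hom ≫ PicF.XTmap gY g) := by
  obtain ⟨H, ξ, h1, h2, h3⟩ := hP
  let U : H.left.Opens := K921.IsoLocus.locus (ξ.1.subschemeι ≫ a1 gX gY H) (PicF.XTproj gX H) ⊓
      K921.IsoLocus.locus (ξ.1.subschemeι ≫ a2 gX gY H) (PicF.XTproj gY H)
  let B : Over S := Over.mk (U.ι ≫ H.hom)
  let j : B ⟶ H := Over.homMk U.ι rfl
  have hj : IsOpenImmersion j.left := inferInstanceAs (IsOpenImmersion U.ι)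
  have hjm : Mono j := by
    have : Mono ((Over.forget S).map j) := inferInstanceAs (Mono U.ι)
    exact (Over.forget S).mono_of_mono_map this
  have hjr : Set.range j.left = (U : Set H.left) := by
    change Set.range U.ι = _
    exact Scheme.Opens.range_ι U
  have hG : IsGr (pullH (fXY gX gY) j ξ) := (range_subset_iff j ξ).1 hjr.subset
  refine ⟨H, B, j, phi _ hG, h1, h2, hj, phi_proj _ _, fun T _ φ hφ => ?_⟩
  have huniv := h3 T (gr φ hφ) fun K _ s g => hgr K s _ (isGr_pull g _ (isGr_gr φ hφ))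
  obtain ⟨g₀, hg₀, hu₀⟩ := huniv
  have hr : Set.range g₀.left ⊆ (U : Set H.left) := by
    refine (range_subset_iff g₀ ξ).2 ?_
    rw [hg₀]
    exact isGr_gr φ hφ
  let g : T ⟶ B := Over.homMk (IsOpenImmersion.lift U.ι g₀.left (by rwa [Scheme.Opens.range_ι])) (by
    change IsOpenImmersion.lift U.ι g₀.left _ ≫ U.ι ≫ H.hom = T.hom
    rw [← Category.assoc, IsOpenImmersion.lift_fac, Over.w])
  have hg : g ≫ j = g₀ := by
    apply Over.OverMorphism.ext
    exact IsOpenImmersion.lift_fac _ _ _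
  refine ⟨g, ?_, fun g' hg' => ?_⟩
  · have e1 : pullH (fXY gX gY) g (pullH (fXY gX gY) j ξ) = gr φ hφ := by
      rw [← pullH_comp, hg, hg₀]
    have hG' := isGr_pull g _ hG
    have e2 := phi_pull g _ hG hG'
    change PicF.XTmap gX g ≫ (phi (pullH (fXY gX gY) j ξ) hG).hom = φ.hom ≫ PicF.XTmap gY g
    rw [← e2]
    have e3 : ∀ (x : FGA.HilbSet (fXY gX gY) T) (hx : IsGr x), x = gr φ hφ → (phi x hx).hom = φ.hom := by
      rintro x hx rfl
      exact phi_gr φ hφ hx
    rw [e3 _ hG' e1]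
  · have hG' := isGr_pull g' _ hG
    have e2 := phi_pull g' _ hG hG'
    change PicF.XTmap gX g' ≫ (phi _ hG).hom = _ at hg'
    rw [← e2] at hg'
    have e3 : (phi _ hG').hom = φ.hom := by
      apply (RelCart.isPullback_XTmap gY g').hom_ext
      · exact hg'
      · rw [phi_proj, hφ]
    have e4 : pullH (fXY gX gY) g' (pullH (fXY gX gY) j ξ) = gr φ hφ := by
      rw [← gr_phi _ hG']
      exact gr_congr _ _ e3
    have e5 : g' ≫ j = g₀ := hu₀ _ ((pullH_comp (fXY gX gY) g' j ξ).trans e4)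
    rw [← cancel_mono j, hg, e5]

end K903.IsomPart
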