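import Groth.Agent.CurvSt.K903.GraphChi
import Groth.Agent.CurvSt.K903.IsomPart
import Groth.Agent.S9816
import Groth.Agent.S2330
import Groth.Agent.S1026
import Groth.Agent.Ega3B.ChiFib

/-!
# The scheme of isomorphisms of two projective families of curves (helper903)

`S` affine, Noetherian and connected, `gX : X ⟶ S`, `gY : Y ⟶ S` proper and flat with ample modules, with fibres of
dimension `≤ 1`.
* `K903.IsomBdd.exists_isom_curves` : the functor `Isom_S(X, Y)` on locally Noetherian schemes is represented by an open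
  subscheme `B` of a scheme `H` which is Noetherian and proper over `S`.
-/

set_option autoImplicit false
universe u

open CategoryTheory CategoryTheory.Limits AlgebraicGeometry Opposite CohB1

namespace K903.IsomBdd

open Groth.Agent Groth.Agent.Fga QA1 QD1Sch QD1Hilb HilbAsm2 HilbFun GraphHilb IsomPart HilbLink GraphChi
open Groth.Agent.CohqB.ProjBC

/-- The condition on a field point of the Hilbert functor. -/
def Cond {n : ℕ} {S W : Scheme.{u}} (i : W ⟶ ProjSpaceOver n S) (Φ : ℤ → ℤ) (f : W ⟶ S) (K : Type u) [Field K]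
    (s : Spec (CommRingCat.of K) ⟶ S) (x : FGA.HilbSet f (Over.mk s)) : Prop :=
  ∃ D : ℕ, ∀ d : ℕ, D ≤ d → chiO (x.1.subschemeι ≫ pullback.fst f s ≫ i ≫ fstZ n S)
    (x.1.subschemeι ≫ PicF.XTproj f (Over.mk s)) d = Φ d

theorem qx_of_cond {n : ℕ} {S W : Scheme.{u}} (i : W ⟶ ProjSpaceOver n S) [IsClosedImmersion i] (Φ : ℤ → ℤ)
    {f : W ⟶ S} (hf : i ≫ ProjSpaceOver.toBase n S = f) (K : Type u) [Field K]
    (s : Spec (CommRingCat.of K) ⟶ S) (x : FGA.HilbSet (fX i) (Over.mk s)) (h : Cond i Φ f K s (hf ▸ x)) :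
    QX i Φ K s x := by
  subst hf
  obtain ⟨D, hD⟩ := h
  obtain ⟨D', hD'⟩ := exists_KX_eq_chiO i s x
  exact ⟨max D D', fun d hd => (hD' d (le_of_max_le_right hd)).trans (hD d (le_of_max_le_left hd))⟩

theorem exists_num {n : ℕ} {S W : Scheme.{u}} (i : W ⟶ ProjSpaceOver n S) [IsClosedImmersion i]
    {f : W ⟶ S} (hf : i ≫ ProjSpaceOver.toBase n S = f) (K : Type u) [Field K]
    (s : Spec (CommRingCat.of K) ⟶ S) (x : FGA.HilbSet f (Over.mk s)) :
    ∃ Φ : ℤ → ℤ, Num (n + 1) Φ ∧ Cond i Φ f K s x := by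
  subst hf
  have h := KX_isQuotPt i s x
  obtain ⟨Φ, h1, ⟨D, hD⟩, -⟩ := QA2.field_main h.isHom h.isSat
  rw [Fintype.card_fin] at h1
  obtain ⟨D', hD'⟩ := exists_KX_eq_chiO i s x
  exact ⟨Φ, h1, max D D', fun d hd => (hD' d (le_of_max_le_right hd)).symm.trans (hD d (le_of_max_le_left hd))⟩

theorem num_zero : ∀ c : ℕ, Num c (fun _ => 0)
  | 0 => fun _ => rfl
  | c + 1 => by
    change Num c (nab fun _ => 0)
    have : nab (fun _ : ℤ => (0 : ℤ)) = fun _ => 0 := by
      funext d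
      simp [nab]
    rw [this]
    exact num_zero c

theorem eulerChar_const {S X : Scheme.{u}} [ConnectedSpace S] (f : X ⟶ S) [IsProper f] [LocallyOfFinitePresentation f]
    [Flat f] {L : X.Modules} (hL : PicF.IsInvertible L) (s t : S) : PerfAux.eulerChar f L s = PerfAux.eulerChar f L t := by
  exact (Groth.Agent.S1026.result f L (Ega3B.ChiFib.isFP_of_isInvertible hL)
    (Ega3B.ChiFib.isFlatOver_of_isInvertible f hL)).apply_eq_of_isPreconnected isPreconnected_univ trivial trivial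

/-- **The scheme of isomorphisms of two projective families of curves.** -/
theorem exists_isom_curves {S X Y : Scheme.{u}} [IsAffine S] [IsNoetherian S] [ConnectedSpace S]
    (gX : X ⟶ S) (gY : Y ⟶ S) [IsProper gX] [Flat gX] [IsProper gY] [Flat gY]
    (hdim : ∀ (K : Type u) [Field K] (s : Spec (CommRingCat.of K) ⟶ S), topologicalKrullDim ↥(pullback gX s) ≤ 1)
    {L : X.Modules} {M : Y.Modules} (hL : CohB1.IsAmple L) (hM : CohB1.IsAmple M) :
    ∃ (H B : Over S) (j : B ⟶ H) (θ : PicF.XT gX B ≅ PicF.XT gY B), IsNoetherian H.left ∧ IsProper H.hom ∧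
      IsOpenImmersion j.left ∧ θ.hom ≫ PicF.XTproj gY B = PicF.XTproj gX B ∧
      (∀ (T : Over S) [IsLocallyNoetherian T.left] (φ : PicF.XT gX T ≅ PicF.XT gY T),
        φ.hom ≫ PicF.XTproj gY T = PicF.XTproj gX T →
        ∃! g : T ⟶ B, PicF.XTmap gX g ≫ θ.hom = φ.hom ≫ PicF.XTmap gY g) := by
  have hLi := hL.1
  have hMi := hM.1
  have hA := Groth.Agent.S9816.result gX gY L M hL hM
  obtain ⟨c, -, n, i, hi, hif, hO⟩ := (Groth.Agent.S2330.result (fXY gX gY) _ hA.1).1.1 hA
  have hif' : i ≫ ProjSpaceOver.toBase n S = fXY gX gY := hif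
  have hip : IsProper i := by
    have : IsProper (i ≫ ProjSpaceOver.toBase n S) := by
      rw [hif']
      infer_instance
    exact IsProper.of_comp i (ProjSpaceOver.toBase n S)
  have hic : IsClosedImmersion i := IsClosedImmersion.of_isPreimmersion i (Scheme.Hom.isClosedMap i).isClosed_range
  have key : ∀ {Φ : ℤ → ℤ}, Num (n + 1) Φ → (∀ (K : Type u) [Field K] (s : Spec (CommRingCat.of K) ⟶ S)
      (x : FGA.HilbSet (fXY gX gY) (Over.mk s)), IsGr x → Cond i Φ (fXY gX gY) K s x) →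
      ∃ (H B : Over S) (j : B ⟶ H) (θ : PicF.XT gX B ≅ PicF.XT gY B), IsNoetherian H.left ∧ IsProper H.hom ∧
      IsOpenImmersion j.left ∧ θ.hom ≫ PicF.XTproj gY B = PicF.XTproj gX B ∧
      (∀ (T : Over S) [IsLocallyNoetherian T.left] (φ : PicF.XT gX T ≅ PicF.XT gY T),
        φ.hom ≫ PicF.XTproj gY T = PicF.XTproj gX T →
        ∃! g : T ⟶ B, PicF.XTmap gX g ≫ θ.hom = φ.hom ≫ PicF.XTmap gY g) := by
    intro Φ hΦ hgr
    exact exists_isom gX gY (fun K _ s x => Cond i Φ (fXY gX gY) K s x)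
      (exists_part' i hif' hΦ _ fun K _ s x h => qx_of_cond i Φ hif' K s x h) hgr
  by_cases hex : ∃ (K : Type u) (_ : Field K) (s : Spec (CommRingCat.of K) ⟶ S)
      (x : FGA.HilbSet (fXY gX gY) (Over.mk s)), IsGr x
  · obtain ⟨K₀, _, s₀, x₀, hx₀⟩ := hex
    obtain ⟨Φ, hΦ, D₀, hD₀⟩ := exists_num i hif' K₀ s₀ x₀
    refine key hΦ fun K _ s x hx => ⟨D₀, fun d hd => ?_⟩
    rw [← hD₀ d hd, chiO_graph gX gY i hLi hMi hO s x hx (hdim K s) d,
      chiO_graph gX gY i hLi hMi hO s₀ x₀ hx₀ (hdim K₀ s₀) d,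
      eulerChar_const gX (isInvertible_tensorPow hLi (c * d)) (s (IsLocalRing.closedPoint K))
        (s₀ (IsLocalRing.closedPoint K₀)),
      eulerChar_const gY (isInvertible_tensorPow hMi (c * d)) (s (IsLocalRing.closedPoint K))
        (s₀ (IsLocalRing.closedPoint K₀)),
      eulerChar_const gX (Fdesc.LocGen.isInvertible_structureModule (X := X)) (s (IsLocalRing.closedPoint K))
        (s₀ (IsLocalRing.closedPoint K₀))]
  · exact key (num_zero _) fun K _ s x hx => (hex ⟨K, inferInstance, s, x, hx⟩).elim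

end K903.IsomBdd
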