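import Groth.Agent.CurvSt.K903.PtModel
import Groth.Agent.CurvSt.K903.IsomBdd
import Groth.Agent.Ega3B.SerreTwist
import Groth.Agent.Sga3C.LocConn
import Groth.Agent.AlgSp.K648.FGNbd2
import Groth.Agent.AlgSp.K639.Dim

/-!
# Models over connected affine Noetherian bases (helper903)
-/

set_option autoImplicit false
set_option backward.isDefEq.respectTransparency false
set_option backward.isDefEq.respectTransparency.types false

universe u

open CategoryTheory CategoryTheory.Limits AlgebraicGeometry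

namespace K903.PtModel

open K740.Emb

/-- Every point of a locally Noetherian scheme has a connected affine Noetherian open neighbourhood. -/
theorem exists_connected_nbhd (T : Scheme.{u}) [IsLocallyNoetherian T] (t : T) :
    ∃ (V : Scheme.{u}) (j : V ⟶ T), IsOpenImmersion j ∧ t ∈ Set.range j ∧ IsAffine V ∧ IsNoetherian V ∧
      ConnectedSpace V := by
  obtain ⟨U, hU, ht, -⟩ := exists_isAffineOpen_mem_and_subset (x := t) (U := ⊤) trivial
  have : IsAffine U := hU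
  have hlc := Groth.Agent.Sga3C.LocConn.locallyConnectedSpace_of_isLocallyNoetherian (U : Scheme.{u})
  let t' : (U : Scheme.{u}) := ⟨t, ht⟩
  have hC : IsClopen (connectedComponent t') := ⟨isClosed_connectedComponent, isOpen_connectedComponent⟩
  obtain ⟨e, he⟩ := K648.FG.exists_basicOpen_of_isClopen hC
  let W := (U : Scheme.{u}).basicOpen e
  have hW : IsAffineOpen W := (isAffineOpen_top (U : Scheme.{u})).basicOpen e
  have : IsAffine W := hW
  have hcon : ConnectedSpace W := by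
    have h1 : _root_.IsConnected (W : Set (U : Scheme.{u})) := by
      have := isConnected_connectedComponent (x := t')
      rwa [← he] at this
    exact isConnected_iff_connectedSpace.1 h1
  have hmem : t' ∈ W := by
    change t' ∈ (W : Set (U : Scheme.{u}))
    have h1 : (W : Set (U : Scheme.{u})) = connectedComponent t' := he
    rw [h1]
    exact mem_connectedComponent
  exact ⟨W, W.ι ≫ U.ι, inferInstance, ⟨⟨t', hmem⟩, rfl⟩, inferInstance, { }, hcon⟩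

/-- A pair of pointed families has a model over a connected affine Noetherian scheme. -/
def Good {n : ℕ} {Z X Y : Scheme.{u}} (gX : X ⟶ Z) (gY : Y ⟶ Z) (σ : Fin n → (Z ⟶ X)) (τ : Fin n → (Z ⟶ Y)) : Prop :=
  ∃ (T₀ X₀ Y₀ : Scheme.{u}) (g₀ : X₀ ⟶ T₀) (h₀ : Y₀ ⟶ T₀) (L : X₀.Modules) (M : Y₀.Modules)
    (b : Z ⟶ T₀) (a : X ⟶ X₀) (c : Y ⟶ Y₀) (σ₀ : Fin n → (T₀ ⟶ X₀)) (τ₀ : Fin n → (T₀ ⟶ Y₀)),
    IsAffine T₀ ∧ IsNoetherian T₀ ∧ ConnectedSpace T₀ ∧ IsProper g₀ ∧ Flat g₀ ∧ IsProper h₀ ∧ Flat h₀ ∧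
    (∀ (K : Type u) [Field K] (s : Spec (CommRingCat.of K) ⟶ T₀), topologicalKrullDim ↥(pullback g₀ s) ≤ 1) ∧
    CohB1.IsAmple L ∧ CohB1.IsAmple M ∧ IsPullback a gX g₀ b ∧ IsPullback c gY h₀ b ∧
    (∀ i, σ₀ i ≫ g₀ = 𝟙 _) ∧ (∀ i, τ₀ i ≫ h₀ = 𝟙 _) ∧ (∀ i, σ i ≫ a = b ≫ σ₀ i) ∧ (∀ i, τ i ≫ c = b ≫ τ₀ i)

theorem dim_le_of_fibreDimAt {K : Type u} [Field K] {Y : Scheme.{u}} (q : Y ⟶ Spec (CommRingCat.of K))
    [LocallyOfFiniteType q] {d : WithBot ℕ∞} (h : ∀ y, FlatMor.fibreDimAt q y ≤ d) : topologicalKrullDim Y ≤ d := by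
  let s : Spec (CommRingCat.of K) := IsLocalRing.closedPoint K
  have h1 := (K639.Dim.dim_fiber_le_iff q s d).2 fun u _ => h u
  have h2 : q ⁻¹' {s} = Set.univ := by
    ext y
    simp only [Set.mem_preimage, Set.mem_singleton_iff, Set.mem_univ, iff_true]
    exact Subsingleton.elim (α := PrimeSpectrum K) _ _
  let e : ↥(q.fiber s) ≃ₜ ↥Y := (q.fiberHomeo s).trans ((Homeomorph.setCongr h2).trans (Homeomorph.Set.univ _))
  rw [← e.isHomeomorph.topologicalKrullDim_eq]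
  exact h1

theorem IsEmb.dim_fibre {X T : Scheme.{u}} {N : ℕ} {q : X ⟶ T} {j : X ⟶ PZ N} (h : IsEmb N q j) (K : Type u) [Field K]
    (s : Spec (CommRingCat.of K) ⟶ T) : topologicalKrullDim ↥(pullback q s) ≤ 1 := by
  have h1 := h.bc (IsPullback.of_hasPullback q s)
  have := h1.lfp
  exact dim_le_of_fibreDimAt (pullback.snd q s) h1.dim

/-- Near a point a pair of pointed embedded families has, after every base change, a good model. -/
theorem Mdl.exists_good {n : ℕ} {Z X Y : Scheme.{u}} {gX : X ⟶ Z} {gY : Y ⟶ Z} {σ : Fin n → (Z ⟶ X)}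
    {τ : Fin n → (Z ⟶ Y)} (m : Mdl gX gY σ τ) (z : Z) :
    ∃ U : Z.Opens, z ∈ U ∧ ∀ (Z' X' Y' : Scheme.{u}) (w : Z' ⟶ Z) (gX' : X' ⟶ Z') (gY' : Y' ⟶ Z') (aX : X' ⟶ X)
      (aY : Y' ⟶ Y) (σ' : Fin n → (Z' ⟶ X')) (τ' : Fin n → (Z' ⟶ Y')), Set.range w ⊆ (U : Set Z) →
      IsPullback aX gX' gX w → IsPullback aY gY' gY w → (∀ i, σ' i ≫ gX' = 𝟙 _) → (∀ i, τ' i ≫ gY' = 𝟙 _) →
      (∀ i, σ' i ≫ aX = w ≫ σ i) → (∀ i, τ' i ≫ aY = w ≫ τ i) → Good gX' gY' σ' τ' := by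
  obtain ⟨N, M, T₀, X₀, Y₀, g₀, h₀, jX, jY, b, a, c, σ₀, τ₀, hN, e₁, e₂, s₁, s₂, h₁, h₂, h₃, h₄⟩ := m
  obtain ⟨V, j, hj, ht, hV1, hV2, hV3⟩ := exists_connected_nbhd T₀ (b z)
  refine ⟨b ⁻¹ᵁ j.opensRange, ht, ?_⟩
  intro Z' X' Y' w gX' gY' aX aY σ' τ' hw q₁ q₂ hσ' hτ' k₁ k₂
  -- the classifying morphism
  have hr : Set.range (w ≫ b) ⊆ Set.range j := by
    rintro _ ⟨x, rfl⟩
    exact hw ⟨x, rfl⟩
  let b' : Z' ⟶ V := IsOpenImmersion.lift j (w ≫ b) hr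
  have hb' : b' ≫ j = w ≫ b := IsOpenImmersion.lift_fac _ _ _
  have t₁ := IsPullback.of_hasPullback g₀ j
  have t₂ := IsPullback.of_hasPullback h₀ j
  have e₁' := e₁.bc t₁
  have e₂' := e₂.bc t₂
  have c₁ := e₁'.closed
  have c₂ := e₂'.closed
  let a' : X' ⟶ pullback g₀ j := t₁.lift (aX ≫ a) (gX' ≫ b') (by
    rw [Category.assoc, s₁.w, q₁.w_assoc, Category.assoc, hb'])
  let c' : Y' ⟶ pullback h₀ j := t₂.lift (aY ≫ c) (gY' ≫ b') (by
    rw [Category.assoc, s₂.w, q₂.w_assoc, Category.assoc, hb'])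
  have ha1 : a' ≫ pullback.fst g₀ j = aX ≫ a := t₁.lift_fst _ _ _
  have ha2 : a' ≫ pullback.snd g₀ j = gX' ≫ b' := t₁.lift_snd _ _ _
  have hc1 : c' ≫ pullback.fst h₀ j = aY ≫ c := t₂.lift_fst _ _ _
  have hc2 : c' ≫ pullback.snd h₀ j = gY' ≫ b' := t₂.lift_snd _ _ _
  refine ⟨V, pullback g₀ j, pullback h₀ j, pullback.snd g₀ j, pullback.snd h₀ j, _, _, b', a', c',
    fun i => t₁.lift (j ≫ σ₀ i) (𝟙 _) (by rw [Category.assoc, h₁, Category.comp_id, Category.id_comp]),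
    fun i => t₂.lift (j ≫ τ₀ i) (𝟙 _) (by rw [Category.assoc, h₂, Category.comp_id, Category.id_comp]),
    hV1, hV2, hV3, e₁'.isProper, e₁'.flat, e₂'.isProper, e₂'.flat, fun K _ s => IsEmb.dim_fibre e₁' K s,
    Groth.Agent.Ega3B.SerreTwist.isAmple_lineOne N (K390.PnSec.liftP (pullback.fst g₀ j ≫ jX) (pullback.snd g₀ j)),
    Groth.Agent.Ega3B.SerreTwist.isAmple_lineOne M (K390.PnSec.liftP (pullback.fst h₀ j ≫ jY) (pullback.snd h₀ j)),
    ?_, ?_, fun i => t₁.lift_snd _ _ _, fun i => t₂.lift_snd _ _ _, fun i => ?_, fun i => ?_⟩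
  · refine IsPullback.of_right (h₁₂ := pullback.fst g₀ j) (v₁₃ := g₀) (h₂₂ := j) ?_ ha2 t₁
    rw [ha1, hb']
    exact q₁.paste_horiz s₁
  · refine IsPullback.of_right (h₁₂ := pullback.fst h₀ j) (v₁₃ := h₀) (h₂₂ := j) ?_ hc2 t₂
    rw [hc1, hb']
    exact q₂.paste_horiz s₂
  · refine t₁.hom_ext ?_ ?_
    · rw [Category.assoc, ha1, Category.assoc, t₁.lift_fst, reassoc_of% (k₁ i), h₃, reassoc_of% hb']
    · rw [Category.assoc, ha2, Category.assoc, t₁.lift_snd, reassoc_of% (hσ' i), Category.comp_id]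
  · refine t₂.hom_ext ?_ ?_
    · rw [Category.assoc, hc1, Category.assoc, t₂.lift_fst, reassoc_of% (k₂ i), h₄, reassoc_of% hb']
    · rw [Category.assoc, hc2, Category.assoc, t₂.lift_snd, reassoc_of% (hτ' i), Category.comp_id]

end K903.PtModel
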