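import Groth.Agent.Fga.HilbClosed
import Groth.Agent.Fga.HilbFun
import Groth.Agent.MorSch.K921.IsoLocus

/-!
# Graphs of isomorphisms as points of the Hilbert functor of the product (helper903)

`gX : X ⟶ S`, `gY : Y ⟶ S`, `f : X ×_S Y ⟶ S`.

* `a1 T : (X ×_S Y)_T ⟶ X_T`, `a2 T : (X ×_S Y)_T ⟶ Y_T`;
* `IsGr x` : the closed subscheme `x` maps isomorphically onto `X_T` and `Y_T`;
* `phi x h : X_T ≅ Y_T`, `gr φ hφ : FGA.HilbSet f T` and their relations;
* `range_subset_iff` : the open subset of the base over which a point is a graph.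
-/

set_option autoImplicit false
universe u

open CategoryTheory CategoryTheory.Limits AlgebraicGeometry

namespace K903.GraphHilb

open Groth.Agent.Fga.HilbClosed Groth.Agent.Fga.RelCart Groth.Agent.Fga.HilbFun

variable {X Y S : Scheme.{u}} (gX : X ⟶ S) (gY : Y ⟶ S)

/-- The structure map of the product. -/
noncomputable abbrev fXY : pullback gX gY ⟶ S := pullback.fst gX gY ≫ gX

/-- `(X ×_S Y)_T ⟶ X_T`. -/
noncomputable def a1 (T : Over S) : PicF.XT (fXY gX gY) T ⟶ PicF.XT gX T :=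
  pullback.lift (pullback.fst (fXY gX gY) T.hom ≫ pullback.fst gX gY) (pullback.snd (fXY gX gY) T.hom)
    (by rw [Category.assoc, ← pullback.condition])

/-- `(X ×_S Y)_T ⟶ Y_T`. -/
noncomputable def a2 (T : Over S) : PicF.XT (fXY gX gY) T ⟶ PicF.XT gY T :=
  pullback.lift (pullback.fst (fXY gX gY) T.hom ≫ pullback.snd gX gY) (pullback.snd (fXY gX gY) T.hom)
    (by rw [Category.assoc, ← pullback.condition, fXY, ← pullback.condition])

theorem a1_fst (T : Over S) : a1 gX gY T ≫ pullback.fst gX T.hom =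
    pullback.fst (fXY gX gY) T.hom ≫ pullback.fst gX gY := pullback.lift_fst _ _ _

theorem a1_snd (T : Over S) : a1 gX gY T ≫ PicF.XTproj gX T = PicF.XTproj (fXY gX gY) T :=
  pullback.lift_snd _ _ _

theorem a2_fst (T : Over S) : a2 gX gY T ≫ pullback.fst gY T.hom =
    pullback.fst (fXY gX gY) T.hom ≫ pullback.snd gX gY := pullback.lift_fst _ _ _

theorem a2_snd (T : Over S) : a2 gX gY T ≫ PicF.XTproj gY T = PicF.XTproj (fXY gX gY) T :=
  pullback.lift_snd _ _ _

/-- `(X ×_S Y)_T = X_T ×_T Y_T`. -/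
theorem isPullback_a (T : Over S) :
    IsPullback (a1 gX gY T) (a2 gX gY T) (PicF.XTproj gX T) (PicF.XTproj gY T) := by
  refine ⟨⟨by rw [a1_snd, a2_snd]⟩, ⟨PullbackCone.IsLimit.mk _ (fun s => pullback.lift
    (pullback.lift (s.fst ≫ pullback.fst gX T.hom) (s.snd ≫ pullback.fst gY T.hom) ?_)
    (s.fst ≫ PicF.XTproj gX T) ?_) (fun s => ?_) (fun s => ?_) (fun s m h1 h2 => ?_)⟩⟩
  · have h := s.condition
    unfold PicF.XTproj at h
    rw [Category.assoc, Category.assoc, pullback.condition, pullback.condition, ← Category.assoc, h, Category.assoc]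
  · rw [pullback.lift_fst_assoc, Category.assoc, Category.assoc, pullback.condition]
  · apply pullback.hom_ext
    · rw [Category.assoc, a1_fst, pullback.lift_fst_assoc, pullback.lift_fst]
    · rw [Category.assoc]
      change _ ≫ (a1 gX gY T ≫ PicF.XTproj gX T) = _
      rw [a1_snd]
      exact pullback.lift_snd _ _ _
  · apply pullback.hom_ext
    · rw [Category.assoc, a2_fst, pullback.lift_fst_assoc, pullback.lift_snd]
    · rw [Category.assoc]
      change _ ≫ (a2 gX gY T ≫ PicF.XTproj gY T) = _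
      rw [a2_snd]
      refine (pullback.lift_snd _ _ _).trans ?_
      exact s.condition
  · apply pullback.hom_ext
    · rw [pullback.lift_fst]
      apply pullback.hom_ext
      · rw [pullback.lift_fst, Category.assoc, ← a1_fst, ← Category.assoc, h1]
      · rw [pullback.lift_snd, Category.assoc, ← a2_fst, ← Category.assoc, h2]
    · rw [pullback.lift_snd, ← h1, Category.assoc, a1_snd]

theorem XTmap_a1 {T T' : Over S} (g : T' ⟶ T) :
    PicF.XTmap (fXY gX gY) g ≫ a1 gX gY T = a1 gX gY T' ≫ PicF.XTmap gX g := by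
  have e1 : PicF.XTmap (fXY gX gY) g ≫ pullback.fst (fXY gX gY) T.hom = pullback.fst (fXY gX gY) T'.hom :=
    FGA.XTmap_fst _ g
  have e2 : PicF.XTmap gX g ≫ pullback.fst gX T.hom = pullback.fst gX T'.hom := FGA.XTmap_fst _ g
  apply pullback.hom_ext
  · rw [Category.assoc, Category.assoc, a1_fst, e2, a1_fst, ← Category.assoc, e1]
  · rw [Category.assoc, Category.assoc]
    change _ ≫ (a1 gX gY T ≫ PicF.XTproj gX T) = _ ≫ (PicF.XTmap gX g ≫ PicF.XTproj gX T)
    rw [a1_snd, (isPullback_XTmap (fXY gX gY) g).w, (isPullback_XTmap gX g).w, ← Category.assoc, a1_snd]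

theorem XTmap_a2 {T T' : Over S} (g : T' ⟶ T) :
    PicF.XTmap (fXY gX gY) g ≫ a2 gX gY T = a2 gX gY T' ≫ PicF.XTmap gY g := by
  have e1 : PicF.XTmap (fXY gX gY) g ≫ pullback.fst (fXY gX gY) T.hom = pullback.fst (fXY gX gY) T'.hom :=
    FGA.XTmap_fst _ g
  have e2 : PicF.XTmap gY g ≫ pullback.fst gY T.hom = pullback.fst gY T'.hom := FGA.XTmap_fst _ g
  apply pullback.hom_ext
  · rw [Category.assoc, Category.assoc, a2_fst, e2, a2_fst, ← Category.assoc, e1]
  · rw [Category.assoc, Category.assoc]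
    change _ ≫ (a2 gX gY T ≫ PicF.XTproj gY T) = _ ≫ (PicF.XTmap gY g ≫ PicF.XTproj gY T)
    rw [a2_snd, (isPullback_XTmap (fXY gX gY) g).w, (isPullback_XTmap gY g).w, ← Category.assoc, a2_snd]

theorem isPullback_a1 {T T' : Over S} (g : T' ⟶ T) :
    IsPullback (PicF.XTmap (fXY gX gY) g) (a1 gX gY T') (a1 gX gY T) (PicF.XTmap gX g) := by
  refine IsPullback.of_bot ?_ (XTmap_a1 gX gY g) (isPullback_XTmap gX g)
  rw [a1_snd, a1_snd]
  exact isPullback_XTmap (fXY gX gY) g

theorem isPullback_a2 {T T' : Over S} (g : T' ⟶ T) :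
    IsPullback (PicF.XTmap (fXY gX gY) g) (a2 gX gY T') (a2 gX gY T) (PicF.XTmap gY g) := by
  refine IsPullback.of_bot ?_ (XTmap_a2 gX gY g) (isPullback_XTmap gY g)
  rw [a2_snd, a2_snd]
  exact isPullback_XTmap (fXY gX gY) g

variable {gX gY}

/-- The closed subscheme is the graph of an isomorphism. -/
def IsGr {T : Over S} (x : FGA.HilbSet (fXY gX gY) T) : Prop :=
  IsIso (x.1.subschemeι ≫ a1 gX gY T) ∧ IsIso (x.1.subschemeι ≫ a2 gX gY T)

/-- The isomorphism of a graph. -/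
noncomputable def phi {T : Over S} (x : FGA.HilbSet (fXY gX gY) T) (h : IsGr x) : PicF.XT gX T ≅ PicF.XT gY T :=
  haveI := h.1
  haveI := h.2
  (asIso (x.1.subschemeι ≫ a1 gX gY T)).symm ≪≫ asIso (x.1.subschemeι ≫ a2 gX gY T)

theorem a1_phi {T : Over S} (x : FGA.HilbSet (fXY gX gY) T) (h : IsGr x) :
    (x.1.subschemeι ≫ a1 gX gY T) ≫ (phi x h).hom = x.1.subschemeι ≫ a2 gX gY T := by
  have := h.1
  have := h.2
  rw [phi, Iso.trans_hom, Iso.symm_hom, asIso_inv, asIso_hom, IsIso.hom_inv_id_assoc]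

theorem phi_proj {T : Over S} (x : FGA.HilbSet (fXY gX gY) T) (h : IsGr x) :
    (phi x h).hom ≫ PicF.XTproj gY T = PicF.XTproj gX T := by
  have := h.1
  have := h.2
  rw [← cancel_epi (x.1.subschemeι ≫ a1 gX gY T), ← Category.assoc, a1_phi, Category.assoc, Category.assoc,
    a1_snd, a2_snd]

/-- The graph morphism. -/
noncomputable def Gam {T : Over S} (φ : PicF.XT gX T ≅ PicF.XT gY T)
    (hφ : φ.hom ≫ PicF.XTproj gY T = PicF.XTproj gX T) : PicF.XT gX T ⟶ PicF.XT (fXY gX gY) T :=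
  (isPullback_a gX gY T).lift (𝟙 _) φ.hom (by rw [hφ, Category.id_comp])

section

variable {T : Over S} (φ : PicF.XT gX T ≅ PicF.XT gY T) (hφ : φ.hom ≫ PicF.XTproj gY T = PicF.XTproj gX T)

theorem Gam_a1 : Gam φ hφ ≫ a1 gX gY T = 𝟙 _ := (isPullback_a gX gY T).lift_fst _ _ _

theorem Gam_a2 : Gam φ hφ ≫ a2 gX gY T = φ.hom := (isPullback_a gX gY T).lift_snd _ _ _

theorem isClosedImmersion_Gam [IsSeparated gY] : IsClosedImmersion (Gam φ hφ) := by
  have h0 : IsSeparated (PicF.XTproj gY T) := inferInstanceAs (IsSeparated (pullback.snd gY T.hom))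
  have h1 : IsSeparated (a1 gX gY T) :=
    MorphismProperty.of_isPullback (P := @IsSeparated) (isPullback_a gX gY T).flip h0
  have h2 : IsClosedImmersion (Gam φ hφ ≫ a1 gX gY T) := by
    rw [Gam_a1]
    infer_instance
  exact IsClosedImmersion.of_comp (Gam φ hφ) (a1 gX gY T)

/-- `X_T` as the subscheme defined by the graph. -/
theorem exists_iso_Gam [IsSeparated gY] :
    ∃ e : PicF.XT gX T ≅ (Gam φ hφ).ker.subscheme, e.hom ≫ (Gam φ hφ).ker.subschemeι = Gam φ hφ := by
  have h0 := isClosedImmersion_Gam φ hφ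
  have h2 : ∀ {Z W : Scheme.{u}} (d : Z ⟶ W) [IsClosedImmersion d], IsIso d.toImage :=
      fun d _ => inferInstance
  have h3 : IsIso (Gam φ hφ).toImage := h2 _
  exact ⟨@asIso _ _ _ _ (Gam φ hφ).toImage h3, (Gam φ hφ).toImage_imageι⟩

theorem Gam_mem [IsProper gX] [Flat gX] [IsSeparated gY] :
    IsProper ((Gam φ hφ).ker.subschemeι ≫ PicF.XTproj (fXY gX gY) T) ∧
      Flat ((Gam φ hφ).ker.subschemeι ≫ PicF.XTproj (fXY gX gY) T) := by
  obtain ⟨e, he⟩ := exists_iso_Gam φ hφ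
  have h1 : (Gam φ hφ).ker.subschemeι ≫ PicF.XTproj (fXY gX gY) T = e.inv ≫ PicF.XTproj gX T := by
    rw [Iso.eq_inv_comp, ← Category.assoc, he, ← a1_snd, ← Category.assoc, Gam_a1, Category.id_comp]
  rw [h1]
  have i1 : IsProper (PicF.XTproj gX T) := inferInstanceAs (IsProper (pullback.snd gX T.hom))
  have i2 : Flat (PicF.XTproj gX T) := inferInstanceAs (Flat (pullback.snd gX T.hom))
  exact ⟨inferInstance, inferInstance⟩

/-- The graph, as a point of the Hilbert functor. -/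
noncomputable def gr [IsProper gX] [Flat gX] [IsSeparated gY] : FGA.HilbSet (fXY gX gY) T :=
  ⟨(Gam φ hφ).ker, Gam_mem φ hφ⟩

theorem isGr_gr [IsProper gX] [Flat gX] [IsSeparated gY] : IsGr (gr φ hφ) := by
  obtain ⟨e, he⟩ := exists_iso_Gam φ hφ
  have h1 : (Gam φ hφ).ker.subschemeι ≫ a1 gX gY T = e.inv := by
    rw [← cancel_epi e.hom, ← Category.assoc, he, Gam_a1, Iso.hom_inv_id]
  have h2 : (Gam φ hφ).ker.subschemeι ≫ a2 gX gY T = e.inv ≫ φ.hom := by
    rw [← cancel_epi e.hom, ← Category.assoc, he, Gam_a2, Iso.hom_inv_id_assoc]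
  constructor
  · change IsIso ((Gam φ hφ).ker.subschemeι ≫ a1 gX gY T)
    rw [h1]
    infer_instance
  · change IsIso ((Gam φ hφ).ker.subschemeι ≫ a2 gX gY T)
    rw [h2]
    infer_instance

theorem phi_gr [IsProper gX] [Flat gX] [IsSeparated gY] (h : IsGr (gr φ hφ)) : (phi (gr φ hφ) h).hom = φ.hom := by
  obtain ⟨e, he⟩ := exists_iso_Gam φ hφ
  have h1 : (Gam φ hφ).ker.subschemeι ≫ a1 gX gY T = e.inv := by
    rw [← cancel_epi e.hom, ← Category.assoc, he, Gam_a1, Iso.hom_inv_id]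
  have h2 : (Gam φ hφ).ker.subschemeι ≫ a2 gX gY T = e.inv ≫ φ.hom := by
    rw [← cancel_epi e.hom, ← Category.assoc, he, Gam_a2, Iso.hom_inv_id_assoc]
  have h3 := a1_phi (gr φ hφ) h
  change ((Gam φ hφ).ker.subschemeι ≫ a1 gX gY T) ≫ _ = (Gam φ hφ).ker.subschemeι ≫ a2 gX gY T at h3
  rw [h1, h2] at h3
  exact (cancel_epi e.inv).1 h3

end

/-- A graph is the graph of its isomorphism. -/
theorem gr_phi {T : Over S} [IsProper gX] [Flat gX] [IsSeparated gY] (x : FGA.HilbSet (fXY gX gY) T) (h : IsGr x) :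
    gr (phi x h) (phi_proj x h) = x := by
  have := h.1
  have := h.2
  apply Subtype.ext
  change (Gam (phi x h) (phi_proj x h)).ker = x.1
  have h1 : Gam (phi x h) (phi_proj x h) = inv (x.1.subschemeι ≫ a1 gX gY T) ≫ x.1.subschemeι := by
    apply (isPullback_a gX gY T).hom_ext
    · rw [Gam_a1, Category.assoc, IsIso.inv_hom_id]
    · rw [Gam_a2, Category.assoc, ← a1_phi x h, IsIso.inv_hom_id_assoc]
  rw [h1, Scheme.Hom.ker_comp_of_isIso, Scheme.IdealSheafData.ker_subschemeι]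

theorem gr_congr {T : Over S} [IsProper gX] [Flat gX] [IsSeparated gY] {φ φ' : PicF.XT gX T ≅ PicF.XT gY T}
    (hφ : φ.hom ≫ PicF.XTproj gY T = PicF.XTproj gX T) (hφ' : φ'.hom ≫ PicF.XTproj gY T = PicF.XTproj gX T)
    (h : φ.hom = φ'.hom) : gr φ hφ = gr φ' hφ' := by
  obtain rfl : φ = φ' := Iso.ext h
  rfl

section Pull

variable {T T' : Over S} (g : T' ⟶ T) (x : FGA.HilbSet (fXY gX gY) T)

theorem exists_pull : ∃ k : (pullH (fXY gX gY) g x).1.subscheme ⟶ x.1.subscheme,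
    IsPullback k (pullH (fXY gX gY) g x).1.subschemeι x.1.subschemeι (PicF.XTmap (fXY gX gY) g) := by
  rw [pullH_val, Groth.Agent.Fga.HilbFun.hilbPull_eq_comap]
  exact ⟨_, (isPullback_comap x.1 (PicF.XTmap (fXY gX gY) g)).flip⟩

theorem isGr_pull (h : IsGr x) : IsGr (pullH (fXY gX gY) g x) := by
  obtain ⟨k, hk⟩ := exists_pull g x
  have h1 := hk.paste_vert (isPullback_a1 gX gY g)
  have h2 := hk.paste_vert (isPullback_a2 gX gY g)
  exact ⟨MorphismProperty.of_isPullback (P := MorphismProperty.isomorphisms Scheme.{u}) h1 h.1,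
    MorphismProperty.of_isPullback (P := MorphismProperty.isomorphisms Scheme.{u}) h2 h.2⟩

theorem phi_pull (h : IsGr x) (h' : IsGr (pullH (fXY gX gY) g x)) :
    (phi _ h').hom ≫ PicF.XTmap gY g = PicF.XTmap gX g ≫ (phi x h).hom := by
  obtain ⟨k, hk⟩ := exists_pull g x
  have h1 := (hk.paste_vert (isPullback_a1 gX gY g)).w
  have h2 := (hk.paste_vert (isPullback_a2 gX gY g)).w
  have := h'.1
  rw [← cancel_epi ((pullH (fXY gX gY) g x).1.subschemeι ≫ a1 gX gY T'), ← Category.assoc, a1_phi, ← h2,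
    ← a1_phi x h, ← Category.assoc, h1, Category.assoc]

theorem range_subset_iff [IsLocallyNoetherian T.left] [IsProper gX] [Flat gX] [IsProper gY] :
    Set.range g.left ⊆ ((K921.IsoLocus.locus (x.1.subschemeι ≫ a1 gX gY T) (PicF.XTproj gX T) ⊓
      K921.IsoLocus.locus (x.1.subschemeι ≫ a2 gX gY T) (PicF.XTproj gY T) : T.left.Opens) : Set T.left) ↔
      IsGr (pullH (fXY gX gY) g x) := by
  obtain ⟨k, hk⟩ := exists_pull g x
  have h1 := hk.paste_vert (isPullback_a1 gX gY g)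
  have h2 := hk.paste_vert (isPullback_a2 gX gY g)
  have i1 : IsProper (PicF.XTproj gX T) := inferInstanceAs (IsProper (pullback.snd gX T.hom))
  have i2 : IsProper (PicF.XTproj gY T) := inferInstanceAs (IsProper (pullback.snd gY T.hom))
  have p1 : (x.1.subschemeι ≫ a1 gX gY T) ≫ PicF.XTproj gX T = x.1.subschemeι ≫ PicF.XTproj (fXY gX gY) T := by
    rw [Category.assoc, a1_snd]
  have p2 : (x.1.subschemeι ≫ a2 gX gY T) ≫ PicF.XTproj gY T = x.1.subschemeι ≫ PicF.XTproj (fXY gX gY) T := by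
    rw [Category.assoc, a2_snd]
  have hp : IsProper (x.1.subschemeι ≫ PicF.XTproj (fXY gX gY) T) := x.2.1
  have hf : Flat (x.1.subschemeι ≫ PicF.XTproj (fXY gX gY) T) := x.2.2
  have e1 := K921.IsoLocus.isIso_baseChange_iff (x.1.subschemeι ≫ a1 gX gY T) _ (PicF.XTproj gX T) p1 h1
    (isPullback_XTmap gX g)
  have e2 := K921.IsoLocus.isIso_baseChange_iff (x.1.subschemeι ≫ a2 gX gY T) _ (PicF.XTproj gY T) p2 h2
    (isPullback_XTmap gY g)
  unfold IsGr
  rw [e1, e2, TopologicalSpace.Opens.coe_inf, Set.subset_inter_iff]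

end Pull

end K903.GraphHilb
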