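import Groth.Agent.Fga.SnapperTwist
import Groth.Agent.S1524

/-!
# Euler characteristics of two line bundles on a proper scheme of dimension at most one (helper903)

* `K903.GraphPoly.main`: `χ(L^a ⊗ M^b) = χ(L^a) + χ(M^b) - χ(O)` on a scheme of dimension `≤ 1`, proper over a field.
-/

set_option autoImplicit false
universe u

open CategoryTheory CategoryTheory.Limits AlgebraicGeometry

namespace K903.GraphPoly

open Groth.Agent Groth.Agent.Fga PicMon SnapperTwist

theorem eval_two (P : MvPolynomial (Fin 2) ℚ) (h : P.totalDegree ≤ 1) (a b : ℚ) :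
    MvPolynomial.eval ![a, b] P =
      MvPolynomial.eval ![a, 0] P + MvPolynomial.eval ![0, b] P - MvPolynomial.eval ![0, 0] P := by
  rw [MvPolynomial.eval_eq', MvPolynomial.eval_eq', MvPolynomial.eval_eq', MvPolynomial.eval_eq',
    ← Finset.sum_add_distrib, ← Finset.sum_sub_distrib]
  refine Finset.sum_congr rfl fun m hm => ?_
  have h1 : m 0 + m 1 ≤ 1 := by
    have h2 := (MvPolynomial.le_totalDegree hm).trans h
    rw [Finsupp.sum_fintype _ _ (fun _ => rfl), Fin.sum_univ_two] at h2
    exact h2
  simp only [Fin.prod_univ_two, Matrix.cons_val_zero, Matrix.cons_val_one]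
  rcases Nat.eq_zero_or_pos (m 0) with h0 | h0
  · rcases Nat.eq_zero_or_pos (m 1) with h2 | h2
    · rw [h0, h2]; ring
    · have : m 1 = 1 := by omega
      rw [h0, this]; ring
  · have h2 : m 0 = 1 := by omega
    have h3 : m 1 = 0 := by omega
    rw [h2, h3]; ring

variable (k : Type u) [Field k] (X : Scheme.{u}) [X.Over (Spec (CommRingCat.of k))]

theorem euler_congr {M N : X.Modules} (e : M ≅ N) : Curv2.euler k X M = Curv2.euler k X N := by
  unfold Curv2.euler
  refine finsum_congr fun i => ?_
  have := (hmapEquiv k X e i).finrank_eq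
  rw [this]

theorem euler_mc {M N : X.Modules} (h : mc M = mc N) : Curv2.euler k X M = Curv2.euler k X N := by
  obtain ⟨e⟩ := (mc_eq_iff M N).1 h
  exact euler_congr k X e

variable [IsProper (X ↘ Spec (CommRingCat.of k))]

theorem main (hdim : topologicalKrullDim X ≤ 1) (L M : X.Modules) (hL : PicF.IsInvertible L)
    (hM : PicF.IsInvertible M) (a b : ℕ) (N A B : X.Modules) (hN : mc N = mc L ^ a * mc M ^ b)
    (hA : mc A = mc L ^ a) (hB : mc B = mc M ^ b) :
    Curv2.euler k X N = Curv2.euler k X A + Curv2.euler k X B - Curv2.euler k X (Coh.structureModule X) := by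
  have hNX := isNoetherian_of_proper k X
  have hadd : Groth.Agent.Fga.ChiBasic.IsAdd (Curv2.euler k X) := fun S hS h1 h2 h3 => Groth.Agent.S1524.result k X S hS h1 h2 h3
  let F := Coh.structureModule X
  have hF : Coh.IsCoh F := Groth.Agent.Fdesc.StructMod.isCoh_structureModule X
  have hLM : ∀ i : Fin 2, PicF.IsInvertible ((![L, M] : Fin 2 → X.Modules) i) := by
    intro i
    fin_cases i
    · exact hL
    · exact hM
  obtain ⟨P, hP, hP'⟩ := snapper' hadd ![L, M] hLM F hF 1
    ((topologicalKrullDim_subspace_le X (CohB1.support F)).trans hdim)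
  have key : ∀ c d : ℕ, ∀ Q : X.Modules, mc Q = mc L ^ c * mc M ^ d →
      (Curv2.euler k X Q : ℚ) = MvPolynomial.eval ![(c : ℚ), (d : ℚ)] P := by
    intro c d Q hQ
    have h1 : mc (Curv2.tensorPows F 2 ![L, M] ![c, d]) = mc Q := by
      rw [mc_tensorPows, Fin.prod_univ_two, hQ]
      exact mul_one _
    rw [← euler_mc k X h1, hP']
    congr 2
    funext i
    fin_cases i <;> rfl
  have e1 := key a b N hN
  have e2 := key a 0 A (by rw [hA, pow_zero, mul_one])
  have e3 := key 0 b B (by rw [hB, pow_zero, one_mul])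
  have e4 := key 0 0 F (by rw [pow_zero, pow_zero, mul_one]; rfl)
  have e5 := eval_two P hP a b
  have : (Curv2.euler k X N : ℚ) = Curv2.euler k X A + Curv2.euler k X B - Curv2.euler k X F := by
    rw [e1, e2, e3, e4, e5]
    norm_num
  exact_mod_cast this

end K903.GraphPoly
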