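import Groth.Agent.CurvSt.K903.HilbLink
import Groth.Agent.CurvSt.K903.GraphHilb
import Groth.Agent.CurvSt.K903.GraphPoly
import Groth.Agent.Sga67.TwistProj
import Groth.Agent.Ega3B.PullTensor

/-!
# The Hilbert polynomial of the graph of an isomorphism of curves (helper903)

`X`, `Y` proper over `S` with invertible modules `L`, `M`, `X ×_S Y ⊆ P^n_S` with `O(1) = (L ⊠ M)^c`.
* `K903.GraphChi.chiO_graph` : for the graph of an isomorphism `X_k ≅ Y_k` of schemes of dimension `≤ 1` the Euler
  characteristic of `O(d)` is `χ(L^{cd}) + χ(M^{cd}) - χ(O)`.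
-/

set_option autoImplicit false
universe u

open CategoryTheory CategoryTheory.Limits AlgebraicGeometry

namespace K903.GraphChi

open Groth.Agent Groth.Agent.Fga PicMon HilbLink GraphHilb Groth.Agent.CohqB.ProjBC

section mc

variable {X Y Z : Scheme.{u}}

theorem mc_pull_tensor (f : Z ⟶ X) {A B : X.Modules} (hA : PicF.IsInvertible A) (hB : PicF.IsInvertible B) :
    mc ((Scheme.Modules.pullback f).obj (CohB1.tensorMod A B)) =
      mc ((Scheme.Modules.pullback f).obj A) * mc ((Scheme.Modules.pullback f).obj B) :=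
  mc_eq (Ega3B.PullTensor.pullTensorIso f hA hB)

theorem mc_pull_unit (f : Z ⟶ X) :
    mc ((Scheme.Modules.pullback f).obj (Coh.structureModule X)) = 1 := by
  obtain ⟨e⟩ := Ega3B.PullTensor.nonempty_pullUnitIso f
  exact mc_eq e

theorem isInvertible_tensorPow {A : X.Modules} (hA : PicF.IsInvertible A) (n : ℕ) :
    PicF.IsInvertible (CohB1.tensorPow A n) := by
  induction n with
  | zero => exact Fdesc.LocGen.isInvertible_structureModule
  | succ n ih => exact Fdesc.LocGen.isInvertible_tensorMod ih hA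

theorem mc_pull_pow (f : Z ⟶ X) {A : X.Modules} (hA : PicF.IsInvertible A) (n : ℕ) :
    mc ((Scheme.Modules.pullback f).obj (CohB1.tensorPow A n)) =
      mc ((Scheme.Modules.pullback f).obj A) ^ n := by
  induction n with
  | zero => exact mc_pull_unit f
  | succ n ih =>
    have h : CohB1.tensorPow A (n + 1) = CohB1.tensorMod (CohB1.tensorPow A n) A := rfl
    rw [h, mc_pull_tensor f (isInvertible_tensorPow hA n) hA, ih, pow_succ]

theorem mc_pull_comp (f : Z ⟶ Y) (g : Y ⟶ X) (A : X.Modules) :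
    mc ((Scheme.Modules.pullback f).obj ((Scheme.Modules.pullback g).obj A)) =
      mc ((Scheme.Modules.pullback (f ≫ g)).obj A) :=
  mc_eq ((Scheme.Modules.pullbackComp f g).app A)

theorem mc_pull_congr {f g : Z ⟶ X} (h : f = g) (A : X.Modules) :
    mc ((Scheme.Modules.pullback f).obj A) = mc ((Scheme.Modules.pullback g).obj A) := by
  rw [h]

/-- pull back of classes -/
theorem mc_pull_eq (f : Z ⟶ X) {A B : X.Modules} (h : mc A = mc B) :
    mc ((Scheme.Modules.pullback f).obj A) = mc ((Scheme.Modules.pullback f).obj B) := by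
  obtain ⟨e⟩ := (mc_eq_iff A B).1 h
  exact mc_eq ((Scheme.Modules.pullback f).mapIso e)

theorem mc_twist (n : ℕ) (R : Type u) [CommRing R] (d : ℕ) :
    mc (Twist.twistProjSpace n R (d : ℤ)) = mc (Twist.twistProjSpace n R 1) ^ d := by
  induction d with
  | zero =>
    obtain ⟨e⟩ := Ega2.TwistInv.nonempty_unit_iso (CohB1.polyGrading n R)
    rw [pow_zero]
    exact mc_eq e.symm
  | succ d ih =>
    obtain ⟨e⟩ := Sga67.TwistProj.nonempty_mul n R (d : ℤ) 1
    rw [pow_succ, ← ih, ← mc_tensor, mc_eq e, Nat.cast_succ]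

end mc

theorem euler_mc' {k : Type u} [Field k] {Y : Scheme.{u}} (q : Y ⟶ Spec (CommRingCat.of k)) {M N : Y.Modules}
    (h : mc M = mc N) : @Curv2.euler k _ Y ⟨q⟩ M = @Curv2.euler k _ Y ⟨q⟩ N := by
  obtain ⟨e⟩ := (mc_eq_iff M N).1 h
  exact EulerPt.euler_congr' q e

/-- The Euler characteristic of `O(d)` on the graph of an isomorphism of curves. -/
theorem chiO_graph {X Y S : Scheme.{u}} (gX : X ⟶ S) (gY : Y ⟶ S) [IsProper gX] [IsProper gY] {n c : ℕ}
    (i : pullback gX gY ⟶ CohB1.ProjSpaceOver n S) {L : X.Modules} {M : Y.Modules} (hL : PicF.IsInvertible L)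
    (hM : PicF.IsInvertible M)
    (hO : Nonempty (CohB1.tensorPow (CohB1.tensorMod ((Scheme.Modules.pullback (pullback.fst gX gY)).obj L)
      ((Scheme.Modules.pullback (pullback.snd gX gY)).obj M)) c ≅
        (Scheme.Modules.pullback i).obj (Twist.twistOver n S 1)))
    {k : Type u} [Field k] (s : Spec (CommRingCat.of k) ⟶ S) (x : FGA.HilbSet (fXY gX gY) (Over.mk s))
    (hx : IsGr x) (hdim : topologicalKrullDim ↥(pullback gX s) ≤ 1) (d : ℕ) :
    chiO (x.1.subschemeι ≫ pullback.fst (fXY gX gY) s ≫ i ≫ fstZ n S)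
        (x.1.subschemeι ≫ PicF.XTproj (fXY gX gY) (Over.mk s)) d =
      PerfAux.eulerChar gX (CohB1.tensorPow L (c * d)) (s (IsLocalRing.closedPoint k)) +
        PerfAux.eulerChar gY (CohB1.tensorPow M (c * d)) (s (IsLocalRing.closedPoint k)) -
          PerfAux.eulerChar gX (Coh.structureModule X) (s (IsLocalRing.closedPoint k)) := by
  let Z := x.1.subscheme
  let q : Z ⟶ Spec (CommRingCat.of k) := x.1.subschemeι ≫ PicF.XTproj (fXY gX gY) (Over.mk s)
  let z : Z ⟶ pullback gX gY := x.1.subschemeι ≫ pullback.fst (fXY gX gY) s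
  have hq : IsProper q := x.2.1
  have i1 := hx.1
  have i2 := hx.2
  have q1 : (x.1.subschemeι ≫ a1 gX gY (Over.mk s)) ≫ pullback.snd gX s = q := by
    change (x.1.subschemeι ≫ a1 gX gY (Over.mk s)) ≫ PicF.XTproj gX (Over.mk s) = q
    rw [Category.assoc, a1_snd]
  have q2 : (x.1.subschemeι ≫ a2 gX gY (Over.mk s)) ≫ pullback.snd gY s = q := by
    change (x.1.subschemeι ≫ a2 gX gY (Over.mk s)) ≫ PicF.XTproj gY (Over.mk s) = q
    rw [Category.assoc, a2_snd]
  have z1 : (x.1.subschemeι ≫ a1 gX gY (Over.mk s)) ≫ pullback.fst gX s = z ≫ pullback.fst gX gY := by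
    have := a1_fst gX gY (Over.mk s)
    rw [Category.assoc]
    change x.1.subschemeι ≫ a1 gX gY (Over.mk s) ≫ pullback.fst gX (Over.mk s).hom = _
    rw [this]
    exact (Category.assoc _ _ _).symm
  have z2 : (x.1.subschemeι ≫ a2 gX gY (Over.mk s)) ≫ pullback.fst gY s = z ≫ pullback.snd gX gY := by
    have := a2_fst gX gY (Over.mk s)
    rw [Category.assoc]
    change x.1.subschemeι ≫ a2 gX gY (Over.mk s) ≫ pullback.fst gY (Over.mk s).hom = _
    rw [this]
    exact (Category.assoc _ _ _).symm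
  have H1 : IsPullback (z ≫ pullback.fst gX gY) q gX s := by
    rw [← z1, ← q1]
    exact IsPullback.of_iso (IsPullback.of_hasPullback gX s)
      (asIso (x.1.subschemeι ≫ a1 gX gY (Over.mk s))).symm (Iso.refl _) (Iso.refl _) (Iso.refl _)
      (by simp) (by simp) (by simp) (by simp)
  have H2 : IsPullback (z ≫ pullback.snd gX gY) q gY s := by
    rw [← z2, ← q2]
    exact IsPullback.of_iso (IsPullback.of_hasPullback gY s)
      (asIso (x.1.subschemeι ≫ a2 gX gY (Over.mk s))).symm (Iso.refl _) (Iso.refl _) (Iso.refl _)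
      (by simp) (by simp) (by simp) (by simp)
  let _ : Z.Over (Spec (CommRingCat.of k)) := ⟨q⟩
  have hZ : topologicalKrullDim Z ≤ 1 := by
    refine le_trans ?_ hdim
    exact (Scheme.homeoOfIso (asIso (x.1.subschemeι ≫ a1 gX gY (Over.mk s)))).isHomeomorph.topologicalKrullDim_eq.le
  have hqp : IsProper (Z ↘ Spec (CommRingCat.of k)) := hq
  have hLp := Fdesc.LocGen.isInvertible_pullback (z ≫ pullback.fst gX gY) hL
  have hMp := Fdesc.LocGen.isInvertible_pullback (z ≫ pullback.snd gX gY) hM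
  let N : Z.Modules := (Scheme.Modules.pullback (z ≫ i ≫ fstZ n S)).obj (Twist.twistProjSpace n (ULift.{u} ℤ) (d : ℤ))
  have hN : mc N = mc ((Scheme.Modules.pullback (z ≫ pullback.fst gX gY)).obj L) ^ (c * d) *
      mc ((Scheme.Modules.pullback (z ≫ pullback.snd gX gY)).obj M) ^ (c * d) := by
    have h1 : mc (Twist.twistProjSpace n (ULift.{u} ℤ) (d : ℤ)) =
        mc (CohB1.tensorPow (Twist.twistProjSpace n (ULift.{u} ℤ) 1) d) := by
      rw [mc_tensorPow, mc_twist]
    have h2 : mc N = mc ((Scheme.Modules.pullback (z ≫ i ≫ fstZ n S)).obj (Twist.twistProjSpace n (ULift.{u} ℤ) 1)) ^ d := by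
      rw [← mc_pull_pow _ (FormalB.TwistGen.isInvertible_twistProjSpace n _ 1)]
      exact mc_pull_eq _ h1
    have h3 : mc ((Scheme.Modules.pullback (z ≫ i ≫ fstZ n S)).obj (Twist.twistProjSpace n (ULift.{u} ℤ) 1)) =
        mc ((Scheme.Modules.pullback z).obj ((Scheme.Modules.pullback i).obj (Twist.twistOver n S 1))) := by
      rw [← mc_pull_comp, ← mc_pull_eq z (mc_pull_comp i (fstZ n S) (Twist.twistProjSpace n (ULift.{u} ℤ) 1))]
      rfl
    obtain ⟨eO⟩ := hO
    have h4 := mc_pull_eq z (mc_eq eO)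
    rw [h2, h3, ← h4, mc_pull_pow _ (Fdesc.LocGen.isInvertible_tensorMod
      (Fdesc.LocGen.isInvertible_pullback _ hL) (Fdesc.LocGen.isInvertible_pullback _ hM)),
      mc_pull_tensor _ (Fdesc.LocGen.isInvertible_pullback _ hL) (Fdesc.LocGen.isInvertible_pullback _ hM),
      mc_pull_comp, mc_pull_comp, ← pow_mul, mul_pow]
  have hA := mc_pull_pow (z ≫ pullback.fst gX gY) hL (c * d)
  have hB := mc_pull_pow (z ≫ pullback.snd gX gY) hM (c * d)
  have key := GraphPoly.main k Z hZ _ _ hLp hMp (c * d) (c * d) N _ _ hN hA hB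
  have hC : Curv2.euler k Z (Coh.structureModule Z) =
      Curv2.euler k Z ((Scheme.Modules.pullback (z ≫ pullback.fst gX gY)).obj (Coh.structureModule X)) :=
    euler_mc' q (mc_pull_unit _).symm
  have hq1 := Ega2.QCohLocal.isQCoh_of_isInvertible (isInvertible_tensorPow hL (c * d))
  have hq2 := Ega2.QCohLocal.isQCoh_of_isInvertible (isInvertible_tensorPow hM (c * d))
  have hq3 : Coh.IsQCoh (Coh.structureModule X) :=
    Ega2.QCohLocal.isQCoh_of_isInvertible Fdesc.LocGen.isInvertible_structureModule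
  rw [hC] at key
  have e1 := EulerPt.euler_pull q gX s _ H1 _ hq1
  have e2 := EulerPt.euler_pull q gY s _ H2 _ hq2
  have e3 := EulerPt.euler_pull q gX s _ H1 _ hq3
  rw [← e1, ← e2, ← e3]
  have e4 : chiO (x.1.subschemeι ≫ pullback.fst (fXY gX gY) s ≫ i ≫ fstZ n S)
        (x.1.subschemeι ≫ PicF.XTproj (fXY gX gY) (Over.mk s)) d = Curv2.euler k Z N := by
    unfold chiO
    refine EulerPt.euler_congr' q ?_
    exact (Scheme.Modules.pullbackCongr (by simp only [z, Category.assoc])).app _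
  rw [e4]
  exact key

end K903.GraphChi
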