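import Groth.Agent.Krr.H491.KQ
import Groth.Agent.Krr.H462.GrMap

/-!
# Riemann-Roch in dimension one: reading off `T ↦ c₁(T)` from `f_G (td(T) ch(x)) = χ(x)`
-/

set_option autoImplicit false
universe v

open scoped TensorProduct
open LambdaRing KGr

namespace K903.Grr1

open Groth.Agent.Books.Lambda1 Groth.Agent.Books.Lambda2
open Groth.Agent.Krr.H493.Newton Groth.Agent.Krr.H493.ChK Groth.Agent.Krr.H491.KQ
open Groth.Agent.Krr.H500.GrK Groth.Agent.Krr.H500.GrChern Groth.Agent.Krr.H493.GrBasis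

theorem symmHom_one_X : symmHom 1 (MvPolynomial.X 0) = MvPolynomial.X 0 := by
  have h := varSeq_succ 1 0
  calc symmHom 1 (MvPolynomial.X 0) = symmHom 1 (varSeq 1 (0 + 1)) := congrArg _ h.symm
    _ = MvPolynomial.X 0 := by
      rw [varSeq, symmHom_symm]
      simp

theorem symmHom_C (d : ℕ) (q : ℚ) : symmHom d (MvPolynomial.C q) = MvPolynomial.C q := by
  change (MvPolynomial.symmetricSubalgebra (Fin d) ℚ).val.comp
    (MvPolynomial.esymmAlgEquiv (Fin d) ℚ (Fintype.card_fin d)).toAlgHom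
      (algebraMap ℚ (MvPolynomial (Fin d) ℚ) q) = _
  rw [AlgHom.commutes]
  rfl

theorem chPoly_one : chPoly 1 = 1 + MvPolynomial.X 0 := by
  apply symmHom_injective 1
  rw [chPoly, symmHom_symm, map_add, map_one, symmHom_one_X]
  simp [expTrunc, Finset.sum_range_succ]

theorem toddPoly_one : toddPoly 1 = 1 + MvPolynomial.C (1 / 2) * MvPolynomial.X 0 := by
  apply symmHom_injective 1
  rw [toddPoly, symmHom_symm, map_add, map_one, map_mul, symmHom_one_X, symmHom_C]
  simp [toddTrunc, Finset.sum_range_succ, bernoulli'_one]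

section one

variable {K : Type v} [CommRing K] [LambdaRing.LambdaOps K] (P : LambdaRing.PosStructure K)

theorem chK_one (x : K) : chK P 1 x = algebraMap ℚ (Gr P) (P.aug x : ℚ) + chern P 1 x := by
  rw [chK, chPoly_one, map_add, map_one, MvPolynomial.aeval_X, map_sub, Nat.cast_one, map_one]
  change _ - 1 + (1 + chern P 1 x) = _
  ring

theorem smul_gr (q : ℚ) (z : Gr P) : q • z = algebraMap ℚ (Gr P) q * z := Algebra.smul_def q z

theorem tdK_one (x : K) : tdK P 1 x = 1 + algebraMap ℚ (Gr P) (1 / 2) * chern P 1 x := by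
  rw [tdK, toddPoly_one, map_add, map_one, map_mul, MvPolynomial.aeval_X, MvPolynomial.aeval_C]
  simp

theorem chern_one_add (x y : K) : chern P 1 (x + y) = chern P 1 x + chern P 1 y := by
  rw [chern_add]
  simp [Finset.sum_range_succ, chern_zero, add_comm]

/-- `c₁` as an additive map. -/
noncomputable def cOne : K →+ Gr P := AddMonoidHom.mk' (fun x => chern P 1 x) (chern_one_add P)

theorem cOne_one : cOne P (1 : K) = 0 := by
  change chern P 1 1 = 0
  rw [chern, map_one, Int.cast_one, sub_self, gamma_one, grK_zero]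

theorem algebraMap_injective (h : gammaFiltration P 1 = ⊥) : Function.Injective (algebraMap ℚ (Gr P)) := by
  have h1 : (1 : Gr P) ≠ 0 := by
    rw [← grK_zero_one P]
    intro h0
    obtain ⟨N, hN, hN'⟩ := (grK_eq_zero_iff P (n := 0) (mem_QF_zero (P := P) 1)).1 h0
    rw [zero_add, h, AddSubgroup.mem_bot, mul_one] at hN'
    have h2 := congrArg P.aug hN'
    rw [map_natCast, map_zero] at h2
    have : N = 0 := by exact_mod_cast h2
    omega
  have : Nontrivial (Gr P) := ⟨1, 0, h1⟩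
  exact (algebraMap ℚ (Gr P)).injective

end one

section two

variable {KX KY : Type v} [CommRing KX] [LambdaRing.LambdaOps KX] [CommRing KY] [LambdaRing.LambdaOps KY]
  {PX : LambdaRing.PosStructure KX} {PY : LambdaRing.PosStructure KY}

theorem map_smul_rat (fG : Gr PX →+ Gr PY) (q : ℚ) (z : Gr PX) : fG (q • z) = q • fG z := map_rat_smul fG q z

theorem fG_deg_zero {fK : KX →+ KY} {fG : Gr PX →+ Gr PY} (hG : IsGrPush PX PY fK (-1) fG) (q : ℚ) :
    fG (algebraMap ℚ (Gr PX) q) = 0 := by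
  rw [Algebra.algebraMap_eq_smul_one, map_smul_rat, ← grK_zero_one PX]
  have h := hG 0 1 (mem_filtration_zero PX 1)
  rw [Int.natCast_zero] at h
  rw [h]
  exact (congrArg (fun z => q • z) (Groth.Agent.Krr.H462.GrMap.grK_neg_degree (P := PY) (by norm_num) _)).trans (smul_zero _)

theorem fG_deg_two {fK : KX →+ KY} {fG : Gr PX →+ Gr PY} (hG : IsGrPush PX PY fK (-1) fG)
    (hY : gammaFiltration PY 1 = ⊥) {z : Gr PX} (hz : z ∈ HomG PX 2) : fG z = 0 := by
  refine HomG_induction PX (motive := fun z => fG z = 0) (map_zero _) ?_ ?_ ?_ hz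
  · intro a b ha hb
    rw [map_add, ha, hb, add_zero]
  · intro q a ha
    rw [map_smul_rat, ha, smul_zero]
  · intro x hx
    rw [hG 2 x hx]
    exact grK_eq_zero_of_lt (P := PY) (d := 0) (by simpa using hY) (n := 1) (by norm_num) _

theorem main_one {fK : KX →+ KY} {fG : Gr PX →+ Gr PY} (hG : IsGrPush PX PY fK (-1) fG)
    (hY : gammaFiltration PY 1 = ⊥) (T x : KX) :
    fG (tdK PX 1 T * chK PX 1 x) = fG (cOne PX x) + ((PX.aug x : ℚ) / 2) • fG (cOne PX T) := by
  have h1 : tdK PX 1 T * chK PX 1 x = algebraMap ℚ (Gr PX) (PX.aug x : ℚ) + cOne PX x +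
      ((PX.aug x : ℚ) / 2) • cOne PX T + algebraMap ℚ (Gr PX) (1 / 2) * (chern PX 1 T * chern PX 1 x) := by
    rw [tdK_one, chK_one, smul_gr]
    change _ = _ + chern PX 1 x + _ * chern PX 1 T + _
    have h2 : algebraMap ℚ (Gr PX) ((PX.aug x : ℚ) / 2) = algebraMap ℚ (Gr PX) (1 / 2) *
        algebraMap ℚ (Gr PX) (PX.aug x : ℚ) := by
      rw [← map_mul]
      congr 1
      ring
    rw [h2]
    ring
  rw [h1, map_add, map_add, map_add, fG_deg_zero hG, zero_add, map_smul_rat, ← smul_gr, map_smul_rat,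
    fG_deg_two hG hY (mul_mem_HomG PX (n := 1) (m := 1) (chern_mem_HomG PX 1 T) (chern_mem_HomG PX 1 x)),
    smul_zero, add_zero]

/-- **Riemann-Roch in dimension one**: reading off the degree of the tangent element. -/
theorem main {fK : KX →+ KY} {fG : Gr PX →+ Gr PY} (hG : IsGrPush PX PY fK (-1) fG)
    (hY : gammaFiltration PY 1 = ⊥) (n : ℕ) (o c : KX) (χ₁ χo χc : ℚ)
    (h₁ : fG (tdK PX 1 (((n + 1 : ℕ) : KX) * o - 1 - c) * chK PX 1 1) = algebraMap ℚ (Gr PY) χ₁)
    (ho : fG (tdK PX 1 (((n + 1 : ℕ) : KX) * o - 1 - c) * chK PX 1 o) = algebraMap ℚ (Gr PY) χo)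
    (hc : fG (tdK PX 1 (((n + 1 : ℕ) : KX) * o - 1 - c) * chK PX 1 c) = algebraMap ℚ (Gr PY) χc) :
    2 * χ₁ = (n + 1) * (χo - (PX.aug o : ℚ) * χ₁) - (χc - (PX.aug c : ℚ) * χ₁) := by
  set T := ((n + 1 : ℕ) : KX) * o - 1 - c with hT
  rw [main_one hG hY] at h₁ ho hc
  rw [cOne_one, map_zero, zero_add, map_one] at h₁
  have hD : fG (cOne PX T) = algebraMap ℚ (Gr PY) (2 * χ₁) := by
    rw [map_mul, ← h₁, ← smul_gr, smul_smul]
    norm_num
  rw [hD] at ho hc
  have e : ∀ a b : ℚ, a • algebraMap ℚ (Gr PY) b = algebraMap ℚ (Gr PY) (a * b) := fun a b => by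
    rw [map_mul, smul_gr]
  rw [e] at ho hc
  have ho' : fG (cOne PX o) = algebraMap ℚ (Gr PY) (χo - (PX.aug o : ℚ) * χ₁) := by
    rw [eq_sub_of_add_eq ho, ← map_sub]
    congr 1
    ring
  have hc' : fG (cOne PX c) = algebraMap ℚ (Gr PY) (χc - (PX.aug c : ℚ) * χ₁) := by
    rw [eq_sub_of_add_eq hc, ← map_sub]
    congr 1
    ring
  apply algebraMap_injective PY hY
  rw [← hD, hT, map_sub, map_sub, map_sub, map_sub, cOne_one, map_zero, sub_zero, ← nsmul_eq_mul, map_nsmul,
    map_nsmul, ho', hc', ← map_nsmul, ← map_sub]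
  congr 1
  rw [nsmul_eq_mul]
  push_cast
  ring

end two

end K903.Grr1
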