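import Groth.Agent.Krr.H463.CondHRR
import Groth.Agent.Books.Lambda2
import Groth.Agent.Krr.H492.DualK

/-!
# The `γ`-filtration of the Grothendieck ring of the spectrum of a field
-/

set_option autoImplicit false
universe v u

open CategoryTheory AlgebraicGeometry LambdaRing

namespace K903.SpecK

open Groth.Agent.Books.Lambda1 Groth.Agent.Books.Lambda2

theorem gammaFiltration_one_eq_bot {K : Type v} [CommRing K] [LambdaOps K] (P : PosStructure K)
    (h : ∀ x : K, P.aug x = 0 → x = 0) : gammaFiltration P 1 = ⊥ := by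
  rw [gammaFiltration, if_neg one_ne_zero, AddSubgroup.closure_eq_bot_iff]
  rintro y ⟨l, hl, hs, rfl⟩
  rw [Set.mem_singleton_iff]
  have h0 : ∃ p ∈ l, p.1 ≠ 0 := by
    by_contra hcon
    push Not at hcon
    have : (l.map Prod.fst).sum = 0 := by
      refine List.sum_eq_zero fun a ha => ?_
      obtain ⟨p, hp, rfl⟩ := List.mem_map.1 ha
      exact hcon p hp
    omega
  obtain ⟨p, hp, hp0⟩ := h0
  refine List.prod_eq_zero ?_
  refine List.mem_map.2 ⟨p, hp, ?_⟩
  rw [h p.2 (hl p hp), ← coeff_gammaSeries, gammaSeries_zero, PowerSeries.coeff_one, if_neg hp0]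

theorem eq_zero_of_aug (k : Type u) [Field k] {KY : Type v} [CommRing KY] [LambdaOps KY] (PY : PosStructure KY)
    (φY : SGA6.Kvb (Spec (CommRingCat.of k)) →+ KY) (hKY : KRR.IsModel (Spec (CommRingCat.of k)) KY PY φY) (x : KY)
    (hx : PY.aug x = 0) : x = 0 := by
  obtain ⟨e, f, he, hf, rfl⟩ := PY.exists_sub x
  obtain ⟨n, E, -, hE, rfl⟩ := (hKY.mem_pos_iff e).1 he
  obtain ⟨m, F, -, hF, rfl⟩ := (hKY.mem_pos_iff f).1 hf
  rw [map_sub, hKY.aug_cl n E hE, hKY.aug_cl m F hF, sub_eq_zero] at hx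
  have hnm : n = m := by exact_mod_cast hx
  subst hnm
  have flf : ∀ {G : (Spec (CommRingCat.of k)).Modules}, FlatMod.IsFinLocFreeOfRank n G → FlatMod.IsFinLocFree G :=
    fun hG x => by
      obtain ⟨U, hx, hU⟩ := hG x
      exact ⟨U, n, hx, hU⟩
  obtain ⟨a, ha, ⟨ea⟩⟩ := Groth.Agent.Krr.H463.SpecField.exists_rank k (flf hE)
  obtain ⟨b, hb, ⟨eb⟩⟩ := Groth.Agent.Krr.H463.SpecField.exists_rank k (flf hF)
  have h1 : (a : ℤ) = n := by rw [← hKY.aug_cl a E ha, hKY.aug_cl n E hE]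
  have h2 : (b : ℤ) = n := by rw [← hKY.aug_cl b F hb, hKY.aug_cl n F hF]
  have h1' : a = n := by exact_mod_cast h1
  have h2' : b = n := by exact_mod_cast h2
  subst h1'
  subst h2'
  have h3 : KRR.cl (Spec (CommRingCat.of k)) E = KRR.cl (Spec (CommRingCat.of k)) F :=
    Groth.Agent.Krr.H492.DualK.cl_iso (ea ≪≫ eb.symm) (flf hE)
  rw [h3, sub_self]

theorem gammaFiltration_spec (k : Type u) [Field k] {KY : Type v} [CommRing KY] [LambdaOps KY] (PY : PosStructure KY)
    (φY : SGA6.Kvb (Spec (CommRingCat.of k)) →+ KY) (hKY : KRR.IsModel (Spec (CommRingCat.of k)) KY PY φY) :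
    gammaFiltration PY 1 = ⊥ :=
  gammaFiltration_one_eq_bot PY (eq_zero_of_aug k PY φY hKY)

end K903.SpecK
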