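import Groth.Agent.S3764
import Groth.Agent.S3796
import Groth.Agent.S3798
import Groth.Agent.S3799
import Groth.Agent.CurvSt.K903.Grr1
import Groth.Agent.CurvSt.K903.SpecK
import Groth.Agent.Krr.H463.DualLam
import Groth.Agent.Krr.H453.PnDim
import Groth.Agent.Krr.H460.KPn
import Groth.Agent.Krr.H482.PullLambda
import Groth.Agent.Krr.H492.DualK
import Groth.Agent.Dcoh.MonClosed

/-!
# Riemann-Roch for a local complete intersection curve in projective space
-/

set_option autoImplicit false
universe u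

open CategoryTheory CategoryTheory.Limits AlgebraicGeometry

attribute [local instance] HasDerivedCategory.standard

namespace K903.HrrCurve

open Groth.Agent Groth.Agent.CohqB.HomSheaf

theorem rank_dl {X : Scheme.{u}} {c : ℕ} {C : X.Modules} (hC : FlatMod.IsFinLocFreeOfRank c C) [DCoh.HasSheafHom C] :
    FlatMod.IsFinLocFreeOfRank c ((DCoh.sheafHom C).obj (Coh.structureModule X)) := by
  refine Krr.H487.KerRank.isFinLocFreeOfRank_of_iso ((Dcoh.MonClosed.sheafHomIso C).app _).symm ?_
  exact Krr.H463.DualLam.isFinLocFreeOfRank_homSheaf hC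

theorem main (k : Type u) [Field k] (n : ℕ) (X : Scheme.{u}) [X.Over (Spec (CommRingCat.of k))]
    [ConnectedSpace ↥X] (hdX : topologicalKrullDim ↥X ≤ 1)
    (i : X ⟶ KRR.PY n (Spec (CommRingCat.of k))) (hi : Mor2.IsRegularClosedImmersion i)
    (hfac : i ≫ KRR.pr n (Spec (CommRingCat.of k)) = X ↘ Spec (CommRingCat.of k)) (c : ℕ)
    (hC : FlatMod.IsFinLocFreeOfRank c (Omega.conormal i)) (hcn : n = c + 1) :
    2 * Curv2.euler k X (Coh.structureModule X) =
      (n + 1) * (Curv2.euler k X ((Scheme.Modules.pullback i).obj (Twist.twistOver n (Spec (CommRingCat.of k)) 1)) -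
        Curv2.euler k X (Coh.structureModule X)) -
      (Curv2.euler k X (homSheaf (Omega.conormal i) (Coh.structureModule X)) -
        c * Curv2.euler k X (Coh.structureModule X)) := by
  have : IsNoetherian (KRR.PY n (Spec (CommRingCat.of k))) := Krr.H463.EulerX.isNoetherian_PY n _
  have : ConnectedSpace ↥(Spec (CommRingCat.of k)) := inferInstanceAs (ConnectedSpace (PrimeSpectrum k))
  have : ConnectedSpace ↥(KRR.PY n (Spec (CommRingCat.of k))) := Krr.H453.PnDim.connectedSpace n _
  have : IsClosedImmersion i := hi.1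
  have : IsLocallyNoetherian X := LocallyOfFiniteType.isLocallyNoetherian i
  have : CompactSpace X := QuasiCompact.compactSpace_of_compactSpace i
  have : IsNoetherian X := { }
  have hdX' : topologicalKrullDim ↥X ≤ ((1 : ℕ) : WithBot ℕ∞) := by exact_mod_cast hdX
  have : DCoh.HasSheafHom (Omega.conormal i) := Dcoh.MonClosed.hasSheafHom _
  obtain ⟨KX, _, _, PX, φX, hKX⟩ := S3796.result X
  obtain ⟨KP, _, _, PP, φP, hKP⟩ := S3796.result (KRR.PY n (Spec (CommRingCat.of k)))
  obtain ⟨KY, _, _, PY, φY, hKY⟩ := S3796.result (Spec (CommRingCat.of k))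
  obtain ⟨a, ha, -⟩ := S3799.result i hi (Krr.H463.EulerX.hasEnoughLocFree_PY n _) KX PX φX hKX KP PP φP hKP
  obtain ⟨b, hb, -⟩ := S3798.result n (Spec (CommRingCat.of k)) KP PP φP hKP KY PY φY hKY
  obtain ⟨fG, hfG, hRR⟩ := S3764.result k n X 1 hdX' i hi hfac c hC KX PX φX hKX KP PP φP hKP KY PY φY hKY a ha b hb
  have hd : ((c : ℤ) - n) = -1 := by
    rw [hcn]
    push_cast
    ring
  rw [hd] at hfG
  have hY := SpecK.gammaFiltration_spec k PY φY hKY
  have hC' := rank_dl hC
  have hO1 : FlatMod.IsFinLocFreeOfRank 1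
      ((Scheme.Modules.pullback i).obj (Twist.twistOver n (Spec (CommRingCat.of k)) 1)) :=
    Krr.H482.PullLambda.isFinLocFreeOfRank_pullback i (Krr.H460.KPn.isFinLocFreeOfRank_twistOver 1)
  have hO : FlatMod.IsFinLocFree (Coh.structureModule X) := Krr.H492.DualK.isFinLocFree_structure
  have h₁ := hRR _ hO
  rw [hKX.map_one] at h₁
  have key := Grr1.main hfG hY n _ _ _ _ _ h₁ (hRR _ (Krr.H487.KerRank.isFinLocFree_of_rank hO1))
    (hRR _ (Krr.H487.KerRank.isFinLocFree_of_rank hC'))
  rw [hKX.aug_cl _ _ hO1, hKX.aug_cl _ _ hC'] at key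
  have hs : ∀ E : X.Modules, (∑ q ∈ Finset.range (1 + 1), (-1 : ℚ) ^ q * (Module.finrank k (Coh.HH X E q) : ℚ)) =
      (Curv2.euler k X E : ℚ) := fun E => by
    rw [Krr.H463.EulerX.euler_eq_sum k 1 hdX' E]
    push_cast
    rfl
  rw [hs, hs, hs] at key
  have he : Curv2.euler k X ((DCoh.sheafHom (Omega.conormal i)).obj (Coh.structureModule X)) =
      Curv2.euler k X (homSheaf (Omega.conormal i) (Coh.structureModule X)) :=
    VarietyA.EulerAdd.euler_congr k ((Dcoh.MonClosed.sheafHomIso _).app _)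
  rw [he] at key
  have : ((2 * Curv2.euler k X (Coh.structureModule X) : ℤ) : ℚ) = (((n + 1) *
      (Curv2.euler k X ((Scheme.Modules.pullback i).obj (Twist.twistOver n (Spec (CommRingCat.of k)) 1)) -
        Curv2.euler k X (Coh.structureModule X)) -
      (Curv2.euler k X (homSheaf (Omega.conormal i) (Coh.structureModule X)) -
        c * Curv2.euler k X (Coh.structureModule X)) : ℤ) : ℚ) := by
    push_cast
    rw [key]
    push_cast
    ring
  exact_mod_cast this

end K903.HrrCurve
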