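import Groth.Agent.CurvSt.K903.GoodMdl
import Groth.Prelude.Def_PicGrp2

/-!
# Isomorphisms of pointed projective families of curves are parametrised by quasi-compact schemes (helper903)
-/

set_option autoImplicit false
set_option backward.isDefEq.respectTransparency false
set_option backward.isDefEq.respectTransparency.types false

universe u

open CategoryTheory CategoryTheory.Limits AlgebraicGeometry

namespace K903.IsomSch

open K903.PtModel

/-- A quasi-compact scheme over `Z` parametrising the isomorphisms of the fibres over all field-valued points. -/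
def HasQI {n : ℕ} {Z X Y : Scheme.{u}} (gX : X ⟶ Z) (gY : Y ⟶ Z) (σ : Fin n → (Z ⟶ X)) (τ : Fin n → (Z ⟶ Y)) : Prop :=
  ∃ (W V : Scheme.{u}) (r : W ⟶ Z) (p : V ⟶ W) (a : V ⟶ X) (t : V ⟶ Y) (s : Fin n → (W ⟶ V)),
    CompactSpace W ∧ IsPullback a p gX r ∧ IsPullback t p gY r ∧ (∀ i, s i ≫ p = 𝟙 _) ∧
    (∀ i, s i ≫ a = r ≫ σ i) ∧ (∀ i, s i ≫ t = r ≫ τ i) ∧
    ∀ (K : Type u) [Field K] (l : Spec (CommRingCat.of K) ⟶ Z) (V' : Scheme.{u}) (p' : V' ⟶ Spec (CommRingCat.of K))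
      (a' : V' ⟶ X) (t' : V' ⟶ Y) (s' : Fin n → (Spec (CommRingCat.of K) ⟶ V')), IsPullback a' p' gX l →
      IsPullback t' p' gY l → (∀ i, s' i ≫ p' = 𝟙 _) → (∀ i, s' i ≫ a' = l ≫ σ i) → (∀ i, s' i ≫ t' = l ≫ τ i) →
      ∃ (g : Spec (CommRingCat.of K) ⟶ W) (v : V' ⟶ V), g ≫ r = l ∧ v ≫ p = p' ≫ g ∧ v ≫ a = a' ∧ v ≫ t = t' ∧
        ∀ i, s' i ≫ v = g ≫ s i

theorem exists_base {T₀ X₀ Y₀ : Scheme.{u}} [IsAffine T₀] [IsNoetherian T₀] [ConnectedSpace T₀]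
    (g₀ : X₀ ⟶ T₀) (h₀ : Y₀ ⟶ T₀) [IsProper g₀] [Flat g₀] [IsProper h₀] [Flat h₀]
    (hdim : ∀ (K : Type u) [Field K] (s : Spec (CommRingCat.of K) ⟶ T₀), topologicalKrullDim ↥(pullback g₀ s) ≤ 1)
    {L : X₀.Modules} {M : Y₀.Modules} (hL : CohB1.IsAmple L) (hM : CohB1.IsAmple M) :
    ∃ (B V : Scheme.{u}) (r : B ⟶ T₀) (p : V ⟶ B) (a : V ⟶ X₀) (t : V ⟶ Y₀), CompactSpace B ∧
      IsPullback a p g₀ r ∧ IsPullback t p h₀ r ∧
      ∀ (K : Type u) [Field K] (l : Spec (CommRingCat.of K) ⟶ T₀) (V' : Scheme.{u}) (p' : V' ⟶ Spec (CommRingCat.of K))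
        (a' : V' ⟶ X₀) (t' : V' ⟶ Y₀), IsPullback a' p' g₀ l → IsPullback t' p' h₀ l →
        ∃ (g : Spec (CommRingCat.of K) ⟶ B) (v : V' ⟶ V), g ≫ r = l ∧ v ≫ p = p' ≫ g ∧ v ≫ a = a' ∧ v ≫ t = t' := by
  obtain ⟨H, B, j, θ, h1, h2, h3, h4, h5⟩ := K903.IsomBdd.exists_isom_curves g₀ h₀ hdim hL hM
  have hB : IsNoetherian B.left := by
    have : IsLocallyNoetherian B.left := isLocallyNoetherian_of_isOpenImmersion j.left
    have : CompactSpace B.left := by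
      have h6 : IsCompact (Set.range j.left) := TopologicalSpace.NoetherianSpace.isCompact _
      have h7 : Topology.IsInducing j.left := j.left.isOpenEmbedding.isInducing
      rw [← isCompact_univ_iff, h7.isCompact_iff, Set.image_univ]
      exact h6
    exact { }
  have sX := IsPullback.of_hasPullback g₀ B.hom
  have sY := IsPullback.of_hasPullback h₀ B.hom
  refine ⟨B.left, PicF.XT g₀ B, B.hom, PicF.XTproj g₀ B, pullback.fst g₀ B.hom, θ.hom ≫ pullback.fst h₀ B.hom,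
    inferInstance, sX, ?_, ?_⟩
  · refine sY.of_iso θ.symm (Iso.refl _) (Iso.refl _) (Iso.refl _) ?_ ?_ ?_ ?_
    · change _ ≫ 𝟙 _ = θ.inv ≫ θ.hom ≫ _
      rw [θ.inv_hom_id_assoc, Category.comp_id]
    · change _ ≫ 𝟙 _ = θ.inv ≫ _
      rw [Category.comp_id, Iso.eq_inv_comp]
      exact h4
    · simp
    · simp
  · intro K _ l V' p' a' t' q₁ q₂
    let T : Over T₀ := Over.mk l
    have : IsLocallyNoetherian T.left := by
      change IsLocallyNoetherian (Spec (CommRingCat.of K))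
      infer_instance
    let e₁ : V' ≅ PicF.XT g₀ T := q₁.isoPullback
    let e₂ : V' ≅ PicF.XT h₀ T := q₂.isoPullback
    have e₁f : e₁.hom ≫ pullback.fst g₀ l = a' := q₁.isoPullback_hom_fst
    have e₁s : e₁.hom ≫ pullback.snd g₀ l = p' := q₁.isoPullback_hom_snd
    have e₂f : e₂.hom ≫ pullback.fst h₀ l = t' := q₂.isoPullback_hom_fst
    have e₂s : e₂.hom ≫ pullback.snd h₀ l = p' := q₂.isoPullback_hom_snd
    obtain ⟨g, hg, -⟩ := h5 T (e₁.symm ≪≫ e₂) (by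
      change (e₁.inv ≫ e₂.hom) ≫ pullback.snd h₀ l = pullback.snd g₀ l
      rw [Category.assoc, e₂s, Iso.inv_comp_eq, e₁s])
    replace hg : PicF.XTmap g₀ g ≫ θ.hom = (e₁.inv ≫ e₂.hom) ≫ PicF.XTmap h₀ g := hg
    have m1 : PicF.XTmap g₀ g ≫ pullback.fst g₀ B.hom = pullback.fst g₀ l := by
      simp [PicF.XTmap, T]
    have m2 : PicF.XTmap g₀ g ≫ PicF.XTproj g₀ B = PicF.XTproj g₀ T ≫ g.left := PicGrp.XTmap_XTproj g₀ g
    have m3 : PicF.XTmap h₀ g ≫ pullback.fst h₀ B.hom = pullback.fst h₀ l := by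
      simp [PicF.XTmap, T]
    refine ⟨g.left, e₁.hom ≫ PicF.XTmap g₀ g, Over.w g, ?_, ?_, ?_⟩
    · rw [Category.assoc, m2, ← Category.assoc]
      exact congrArg (· ≫ g.left) e₁s
    · rw [Category.assoc, m1, e₁f]
    · rw [Category.assoc, reassoc_of% hg, m3, Iso.hom_inv_id_assoc, e₂f]

/-- The closed subscheme where finitely many pairs of morphisms agree. -/
theorem exists_agree {B Y T : Scheme.{u}} (h : Y ⟶ T) [IsSeparated h] [CompactSpace B] : ∀ (n : ℕ)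
    (x y : Fin n → (B ⟶ Y)), (∀ i, x i ≫ h = y i ≫ h) → ∃ (W : Scheme.{u}) (ι : W ⟶ B), CompactSpace W ∧
      (∀ i, ι ≫ x i = ι ≫ y i) ∧
      ∀ {Q : Scheme.{u}} (q : Q ⟶ B), (∀ i, q ≫ x i = q ≫ y i) → ∃ q' : Q ⟶ W, q' ≫ ι = q
  | 0, x, y, _ => ⟨B, 𝟙 B, inferInstance, fun i => i.elim0, fun q _ => ⟨q, Category.comp_id q⟩⟩
  | n + 1, x, y, hxy => by
    obtain ⟨W, ι, h1, h2, h3⟩ := exists_agree h n (fun i => x i.castSucc) (fun i => y i.castSucc) (fun i => hxy _)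
    let d : W ⟶ pullback h h := pullback.lift (ι ≫ x (Fin.last n)) (ι ≫ y (Fin.last n)) (by
      rw [Category.assoc, Category.assoc, hxy])
    let κ : pullback (pullback.diagonal h) d ⟶ W := pullback.snd (pullback.diagonal h) d
    have hκ : pullback.fst (pullback.diagonal h) d ≫ pullback.diagonal h = κ ≫ d := pullback.condition
    have k1 : κ ≫ ι ≫ x (Fin.last n) = pullback.fst (pullback.diagonal h) d := by
      have := congrArg (· ≫ pullback.fst h h) hκ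
      simp only [Category.assoc, pullback.diagonal_fst, Category.comp_id] at this
      rw [this]
      simp [d]
    have k2 : κ ≫ ι ≫ y (Fin.last n) = pullback.fst (pullback.diagonal h) d := by
      have := congrArg (· ≫ pullback.snd h h) hκ
      simp only [Category.assoc, pullback.diagonal_snd, Category.comp_id] at this
      rw [this]
      simp [d]
    refine ⟨_, κ ≫ ι, QuasiCompact.compactSpace_of_compactSpace κ, fun i => ?_, fun q hq => ?_⟩
    · refine Fin.lastCases ?_ (fun i => ?_) i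
      · rw [Category.assoc, Category.assoc, k1, k2]
      · rw [Category.assoc, Category.assoc, h2]
    · obtain ⟨q', hq'⟩ := h3 q (fun i => hq i.castSucc)
      refine ⟨pullback.lift (q ≫ x (Fin.last n)) q' ?_, ?_⟩
      · apply pullback.hom_ext
        · rw [Category.assoc, pullback.diagonal_fst, Category.comp_id, Category.assoc, pullback.lift_fst,
            reassoc_of% hq']
        · rw [Category.assoc, pullback.diagonal_snd, Category.comp_id, Category.assoc, pullback.lift_snd,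
            reassoc_of% hq', hq]
      · rw [pullback.lift_snd_assoc, hq']

theorem hasQI_base {n : ℕ} {T₀ X₀ Y₀ : Scheme.{u}} [IsAffine T₀] [IsNoetherian T₀] [ConnectedSpace T₀]
    (g₀ : X₀ ⟶ T₀) (h₀ : Y₀ ⟶ T₀) [IsProper g₀] [Flat g₀] [IsProper h₀] [Flat h₀]
    (hdim : ∀ (K : Type u) [Field K] (s : Spec (CommRingCat.of K) ⟶ T₀), topologicalKrullDim ↥(pullback g₀ s) ≤ 1)
    {L : X₀.Modules} {M : Y₀.Modules} (hL : CohB1.IsAmple L) (hM : CohB1.IsAmple M)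
    (σ : Fin n → (T₀ ⟶ X₀)) (τ : Fin n → (T₀ ⟶ Y₀)) (hσ : ∀ i, σ i ≫ g₀ = 𝟙 _) (hτ : ∀ i, τ i ≫ h₀ = 𝟙 _) :
    HasQI g₀ h₀ σ τ := by
  obtain ⟨B, V, r, p, a, t, hB, sX, sY, hu⟩ := exists_base g₀ h₀ hdim hL hM
  -- the sections of `V` induced by `σ`
  let s : Fin n → (B ⟶ V) := fun i => sX.lift (r ≫ σ i) (𝟙 _) (by rw [Category.assoc, hσ, Category.comp_id, Category.id_comp])
  have hsa (i) : s i ≫ a = r ≫ σ i := sX.lift_fst _ _ _
  have hsp (i) : s i ≫ p = 𝟙 _ := sX.lift_snd _ _ _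
  obtain ⟨W, ι, hW, h1, h2⟩ := exists_agree h₀ n (fun i => s i ≫ t) (fun i => r ≫ τ i) (fun i => by
    rw [Category.assoc, sY.w, reassoc_of% (hsp i), Category.assoc, hτ, Category.comp_id])
  have sV := IsPullback.of_hasPullback p ι
  let s' : Fin n → (W ⟶ pullback p ι) := fun i => sV.lift (ι ≫ s i) (𝟙 _) (by
    rw [Category.assoc, hsp, Category.comp_id, Category.id_comp])
  refine ⟨W, pullback p ι, ι ≫ r, pullback.snd p ι, pullback.fst p ι ≫ a, pullback.fst p ι ≫ t, s', hW,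
    sV.paste_horiz sX, sV.paste_horiz sY, fun i => sV.lift_snd _ _ _, fun i => ?_, fun i => ?_, ?_⟩
  · rw [sV.lift_fst_assoc, Category.assoc, hsa, Category.assoc]
  · rw [sV.lift_fst_assoc, Category.assoc, h1, Category.assoc]
  · intro K _ l V' p' a' t' q q₁ q₂ hq1 hq2 hq3
    obtain ⟨g, v, k1, k2, k3, k4⟩ := hu K l V' p' a' t' q₁ q₂
    have hsv (i) : q i ≫ v = g ≫ s i := by
      refine sX.hom_ext ?_ ?_
      · rw [Category.assoc, k3, hq2, Category.assoc, hsa, reassoc_of% k1]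
      · rw [Category.assoc, k2, reassoc_of% (hq1 i), Category.assoc, hsp, Category.comp_id]
    obtain ⟨g', hg'⟩ := h2 g (fun i => by
      rw [← reassoc_of% (hsv i), k4, hq3, reassoc_of% k1])
    refine ⟨g', sV.lift v (p' ≫ g') (by rw [k2, Category.assoc, hg']), ?_, sV.lift_snd _ _ _, ?_, ?_, fun i => ?_⟩
    · rw [reassoc_of% hg', k1]
    · rw [sV.lift_fst_assoc, k3]
    · rw [sV.lift_fst_assoc, k4]
    · refine sV.hom_ext ?_ ?_
      · rw [Category.assoc, sV.lift_fst, hsv, Category.assoc, sV.lift_fst, reassoc_of% hg']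
      · rw [Category.assoc, sV.lift_snd, reassoc_of% (hq1 i), Category.assoc, sV.lift_snd, Category.comp_id]

theorem HasQI.bc {n : ℕ} {Z X Y T₀ X₀ Y₀ : Scheme.{u}} {gX : X ⟶ Z} {gY : Y ⟶ Z} {σ : Fin n → (Z ⟶ X)}
    {τ : Fin n → (Z ⟶ Y)} {g₀ : X₀ ⟶ T₀} {h₀ : Y₀ ⟶ T₀} {b : Z ⟶ T₀} {a : X ⟶ X₀} {c : Y ⟶ Y₀}
    {σ₀ : Fin n → (T₀ ⟶ X₀)} {τ₀ : Fin n → (T₀ ⟶ Y₀)} (H : HasQI g₀ h₀ σ₀ τ₀) [CompactSpace Z]
    [QuasiSeparatedSpace T₀] [CompactSpace T₀] (s₁ : IsPullback a gX g₀ b) (s₂ : IsPullback c gY h₀ b)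
    (hσ : ∀ i, σ i ≫ gX = 𝟙 _) (hτ : ∀ i, τ i ≫ gY = 𝟙 _)
    (h₃ : ∀ i, σ i ≫ a = b ≫ σ₀ i) (h₄ : ∀ i, τ i ≫ c = b ≫ τ₀ i) : HasQI gX gY σ τ := by
  obtain ⟨W₀, V₀, r₀, p₀, a₀, t₀, s₀, hW, sX, sY, hs1, hs2, hs3, hu⟩ := H
  have hr : QuasiCompact r₀ := (quasiCompact_iff_compactSpace r₀).2 hW
  have sW := IsPullback.of_hasPullback r₀ b
  have hWc : CompactSpace ↥(pullback r₀ b) := QuasiCompact.compactSpace_of_compactSpace (pullback.snd r₀ b)
  have sV := IsPullback.of_hasPullback p₀ (pullback.fst r₀ b)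
  let V := pullback p₀ (pullback.fst r₀ b)
  let a' : V ⟶ X := s₁.lift (pullback.fst _ _ ≫ a₀) (pullback.snd _ _ ≫ pullback.snd r₀ b) (by
    rw [Category.assoc, sX.w, Category.assoc, ← sW.w, sV.w_assoc])
  let t' : V ⟶ Y := s₂.lift (pullback.fst _ _ ≫ t₀) (pullback.snd _ _ ≫ pullback.snd r₀ b) (by
    rw [Category.assoc, sY.w, Category.assoc, ← sW.w, sV.w_assoc])
  have ha1 : a' ≫ a = pullback.fst _ _ ≫ a₀ := s₁.lift_fst _ _ _
  have ha2 : a' ≫ gX = pullback.snd _ _ ≫ pullback.snd r₀ b := s₁.lift_snd _ _ _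
  have ht1 : t' ≫ c = pullback.fst _ _ ≫ t₀ := s₂.lift_fst _ _ _
  have ht2 : t' ≫ gY = pullback.snd _ _ ≫ pullback.snd r₀ b := s₂.lift_snd _ _ _
  have q₁ : IsPullback a' (pullback.snd p₀ (pullback.fst r₀ b)) gX (pullback.snd r₀ b) := by
    refine IsPullback.of_right ?_ ha2 s₁
    rw [ha1, ← sW.w]
    exact sV.paste_horiz sX
  have q₂ : IsPullback t' (pullback.snd p₀ (pullback.fst r₀ b)) gY (pullback.snd r₀ b) := by
    refine IsPullback.of_right ?_ ht2 s₂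
    rw [ht1, ← sW.w]
    exact sV.paste_horiz sY
  let s' : Fin n → (pullback r₀ b ⟶ V) := fun i => sV.lift (pullback.fst r₀ b ≫ s₀ i) (𝟙 _) (by
    rw [Category.assoc, hs1, Category.comp_id, Category.id_comp])
  have hs1' (i) : s' i ≫ pullback.fst p₀ (pullback.fst r₀ b) = pullback.fst r₀ b ≫ s₀ i := sV.lift_fst _ _ _
  have hs2' (i) : s' i ≫ pullback.snd p₀ (pullback.fst r₀ b) = 𝟙 _ := sV.lift_snd _ _ _
  refine ⟨pullback r₀ b, V, pullback.snd r₀ b, pullback.snd _ _, a', t', s', hWc, q₁, q₂, hs2', fun i => ?_,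
    fun i => ?_, ?_⟩
  · refine s₁.hom_ext ?_ ?_
    · rw [Category.assoc, ha1, reassoc_of% (hs1' i), hs2, Category.assoc, h₃, sW.w_assoc]
    · rw [Category.assoc, ha2, reassoc_of% (hs2' i), Category.assoc, hσ, Category.comp_id]
  · refine s₂.hom_ext ?_ ?_
    · rw [Category.assoc, ht1, reassoc_of% (hs1' i), hs3, Category.assoc, h₄, sW.w_assoc]
    · rw [Category.assoc, ht2, reassoc_of% (hs2' i), Category.assoc, hτ, Category.comp_id]
  · intro K _ l V' p' x y q k₁ k₂ m1 m2 m3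
    obtain ⟨g, v, e1, e2, e3, e4, e5⟩ := hu K (l ≫ b) V' p' (x ≫ a) (y ≫ c) q (k₁.paste_horiz s₁) (k₂.paste_horiz s₂) m1
      (fun i => by rw [reassoc_of% (m2 i), h₃, Category.assoc])
      (fun i => by rw [reassoc_of% (m3 i), h₄, Category.assoc])
    let g' : Spec (CommRingCat.of K) ⟶ pullback r₀ b := sW.lift g l e1
    have hg1 : g' ≫ pullback.fst r₀ b = g := sW.lift_fst _ _ _
    have hg2 : g' ≫ pullback.snd r₀ b = l := sW.lift_snd _ _ _
    let v' : V' ⟶ V := sV.lift v (p' ≫ g') (by rw [e2, Category.assoc, hg1])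
    have hv1 : v' ≫ pullback.fst _ _ = v := sV.lift_fst _ _ _
    have hv2 : v' ≫ pullback.snd _ _ = p' ≫ g' := sV.lift_snd _ _ _
    refine ⟨g', v', hg2, hv2, ?_, ?_, fun i => ?_⟩
    · refine s₁.hom_ext ?_ ?_
      · rw [Category.assoc, ha1, reassoc_of% hv1, e3]
      · rw [Category.assoc, ha2, reassoc_of% hv2, hg2, k₁.w]
    · refine s₂.hom_ext ?_ ?_
      · rw [Category.assoc, ht1, reassoc_of% hv1, e4]
      · rw [Category.assoc, ht2, reassoc_of% hv2, hg2, k₂.w]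
    · refine sV.hom_ext ?_ ?_
      · rw [Category.assoc, hv1, e5, Category.assoc, hs1', reassoc_of% hg1]
      · rw [Category.assoc, hv2, reassoc_of% (m1 i), Category.assoc, hs2', Category.comp_id]

/-- **Isomorphisms of two pointed families with a good model are bounded.** -/
theorem hasQI_of_good {n : ℕ} {Z X Y : Scheme.{u}} {gX : X ⟶ Z} {gY : Y ⟶ Z} {σ : Fin n → (Z ⟶ X)}
    {τ : Fin n → (Z ⟶ Y)} (m : Good gX gY σ τ) [CompactSpace Z] (hσ : ∀ i, σ i ≫ gX = 𝟙 _)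
    (hτ : ∀ i, τ i ≫ gY = 𝟙 _) : HasQI gX gY σ τ := by
  obtain ⟨T₀, X₀, Y₀, g₀, h₀, L, M, b, a, c, σ₀, τ₀, hT, hN, hC, p1, f1, p2, f2, hd, hL, hM, s₁, s₂, k1, k2, k3,
    k4⟩ := m
  exact (hasQI_base g₀ h₀ hd hL hM σ₀ τ₀ k1 k2).bc s₁ s₂ hσ hτ k3 k4

end K903.IsomSch
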