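import Groth.Agent.Sga5.H844.FinLen
import Groth.Agent.Sga67.FiberPre
import Groth.Agent.VarietyB.DegFin
import Groth.Agent.Ega1.ReducedSub

/-!
# The degree of a reduced divisor on a curve over an algebraically closed field
-/

set_option autoImplicit false
universe u

open CategoryTheory CategoryTheory.Limits AlgebraicGeometry TopologicalSpace

namespace K903.MarkedDeg

open Groth.Agent

/-- The divisor of `n` distinct closed points has degree `n`. -/
theorem finrank_eq (k : Type u) [Field k] [IsAlgClosed k] (X : Scheme.{u}) [X.Over (Spec (CommRingCat.of k))]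
    [IsProper (X ↘ (Spec (CommRingCat.of k)))] (hdim : topologicalKrullDim X ≤ 1) {n : ℕ} (x : Fin n → X)
    (hx : Function.Injective x) (hxs : ∀ i, IsClosed ({x i} : Set X)) (hD : IsClosed (Set.range x))
    (hC : BlowUp.IsEffCartierIdeal (Scheme.IdealSheafData.vanishingIdeal ⟨Set.range x, hD⟩)) :
    Module.finrank k (Coh.HH X (ClSub.quotMod (Scheme.IdealSheafData.vanishingIdeal ⟨Set.range x, hD⟩)) 0) = n := by
  set I := Scheme.IdealSheafData.vanishingIdeal ⟨Set.range x, hD⟩ with hI
  have hf : IsFinite (I.subschemeι ≫ (X ↘ (Spec (CommRingCat.of k)))) :=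
    VarietyB.DegFin.isFinite_effCartier k X hdim I hC
  have hred : IsReduced I.subscheme := Ega1.ReducedSub.isReduced_subscheme_vanishingIdeal _
  have hrange : Set.range I.subschemeι = Set.range x := by
    rw [Scheme.IdealSheafData.range_subschemeι, hI, Scheme.IdealSheafData.coe_support_vanishingIdeal]
    rfl
  have hpt : ∀ z : I.subscheme, ∃ i, I.subschemeι z = x i := fun z => by
    have : I.subschemeι z ∈ Set.range x := by rw [← hrange]; exact ⟨z, rfl⟩
    obtain ⟨i, hi⟩ := this
    exact ⟨i, hi.symm⟩
  have h1 : ∀ z : I.subscheme,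
      (Module.length (I.subscheme.presheaf.stalk z) (I.subscheme.presheaf.stalk z)).toNat = 1 := fun z => by
    have h2 : IsField (I.subscheme.presheaf.stalk z) := Sga67.FiberPre.isField_stalk z fun t ht => by
      obtain ⟨i, hi⟩ := hpt t
      have h3 : I.subschemeι t ⤳ I.subschemeι z := ht.map I.subschemeι.continuous
      have h4 : I.subschemeι z ∈ closure ({I.subschemeι t} : Set X) := h3.mem_closure
      rw [hi, (hxs i).closure_eq, Set.mem_singleton_iff, ← hi] at h4
      exact (I.subschemeι.injective h4).symm
    have h5 : IsSimpleOrder (Ideal (I.subscheme.presheaf.stalk z)) := Ring.isField_iff_isSimpleOrder_ideal.1 h2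
    have h6 : IsSimpleModule (I.subscheme.presheaf.stalk z) (I.subscheme.presheaf.stalk z) :=
      (isSimpleModule_iff _ _).2 h5
    rw [Module.length_eq_one]
    rfl
  rw [Dix.InterNum.finrank_quotMod, Sga5.H844.FinLen.h0_eq_finsum, finsum_congr h1]
  have e : I.subscheme ≃ Fin n :=
    (Equiv.ofInjective _ I.subschemeι.injective).trans ((Equiv.setCongr hrange).trans (Equiv.ofInjective x hx).symm)
  rw [← finsum_comp_equiv e.symm (f := fun _ => 1), finsum_eq_sum_of_fintype, Finset.sum_const, Finset.card_univ,
    Fintype.card_fin, smul_eq_mul, mul_one]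

end K903.MarkedDeg
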