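import Groth.Agent.Dual.H339.OmegaRank
import Groth.Agent.Dual.H328.ClopenGlue
import Groth.Agent.Lefpen.H703.ClosedSmooth
import Groth.Agent.Krr.H487.KerRank
import Groth.Agent.Krr.H482.PullLambda
import Groth.Agent.CurvSt.K903.ConSeq

/-!
# The rank of the conormal module of a curve in a smooth scheme
-/

set_option autoImplicit false
universe u

open CategoryTheory CategoryTheory.Limits AlgebraicGeometry TopologicalSpace

namespace K903.RankOne

open Groth.Agent Groth.Agent.Sga67.Sec Groth.Agent.Sga67.LocBasis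

theorem exists_basis_omega {X S : Scheme.{u}} (f : X ⟶ S) [QuasiSeparated f] (V : X.Opens) (d : ℕ)
    [SmoothOfRelativeDimension d (V.ι ≫ f)] (x : X) (hx : x ∈ V) :
    ∃ (W : X.Opens) (b : Fin d → Sec (Omega.sheaf f) W), x ∈ W ∧ IsLocBasis b := by
  obtain ⟨U, hU, ⟨e⟩⟩ := Dual.H339.OmegaRank.isFinLocFreeOfRank_omega d (V.ι ≫ f) ⟨x, hx⟩
  obtain ⟨e₁⟩ := Dual.H328.ClopenGlue.nonempty_omega_restrict f V
  let j : (U : Scheme.{u}) ⟶ X := U.ι ≫ V.ι
  let e₂ : (Omega.sheaf f).restrict j ≅ FlatMod.freeMod U d :=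
    (Scheme.Modules.restrictFunctorComp U.ι V.ι).app (Omega.sheaf f) ≪≫
      (Scheme.Modules.restrictFunctor U.ι).mapIso e₁ ≪≫ e
  refine ⟨j.opensRange, ?_⟩
  have h1 := PerfA.TildeModel.nonempty_iso_freeMod_restrict e₂ j.opensRange.ι j.isoOpensRange.inv
    (Scheme.Hom.isoOpensRange_inv_comp j)
  obtain ⟨b, hb⟩ := nonempty_restrict_iso_iff.1 h1
  exact ⟨b, ⟨⟨⟨x, hx⟩, hU⟩, rfl⟩, hb⟩

/-- The rank of the conormal module is `n - d` when there is a smooth point of relative dimension `d`. -/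
theorem rank_eq {X W Y : Scheme.{u}} (s : X ⟶ W) [IsClosedImmersion s] (w : W ⟶ Y)
    [QuasiCompact (pullback.diagonal w)] [QuasiCompact (pullback.diagonal (s ≫ w))] [Smooth w]
    [LocallyOfFinitePresentation (s ≫ w)] [IsReduced X] {m n d : ℕ}
    (hC : FlatMod.IsFinLocFreeOfRank m (Omega.conormal s))
    (hΩ : FlatMod.IsFinLocFreeOfRank n (Omega.sheaf w))
    (hgen : ∀ x : X, x ∉ (s ≫ w).smoothLocus → ∃ y : X, y ⤳ x ∧ y ≠ x)
    {V : X.Opens} {x : X} (hx : x ∈ V) [SmoothOfRelativeDimension d (V.ι ≫ s ≫ w)] : n = m + d := by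
  have hS := ConSeq.shortExact_seq s w hC hΩ hgen
  have : QuasiSeparated (s ≫ w) := ⟨inferInstance⟩
  obtain ⟨U₃, c, hU₃, hc⟩ := exists_basis_omega (s ≫ w) V d x hx
  obtain ⟨U₁, hU₁, b, hb⟩ := (Krr.H487.KerRank.isFinLocFreeOfRank_iff _).1 hC x
  obtain ⟨U₂, e, hU₂, he⟩ := Krr.H487.KerRank.exists_basis_mid hS (x := x) hb hU₁ hc hU₃
  have h2 : FlatMod.IsFinLocFreeOfRank n ((Scheme.Modules.pullback s).obj (Omega.sheaf w)) :=
    Krr.H482.PullLambda.isFinLocFreeOfRank_pullback s hΩ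
  obtain ⟨U₄, hU₄, e', he'⟩ := (Krr.H487.KerRank.isFinLocFreeOfRank_iff _).1 h2 x
  have := Krr.H487.KerRank.card_eq he he' x hU₂ hU₄
  simp only [Fintype.card_sum, Fintype.card_fin] at this
  exact this.symm

/-- A closed smooth point of a curve over a perfect field has a neighbourhood smooth of relative dimension one. -/
theorem exists_nhd {k : Type u} [Field k] [PerfectField k] {Z : Scheme.{u}} (g : Z ⟶ Spec (CommRingCat.of k))
    [LocallyOfFiniteType g] (m : ℕ) (z : Z) (hz : IsClosed ({z} : Set Z))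
    (hreg : IsRegularLocalRing (Z.presheaf.stalk z)) (hdim : ringKrullDim (Z.presheaf.stalk z) = m) :
    ∃ V : Z.Opens, z ∈ V ∧ SmoothOfRelativeDimension m (V.ι ≫ g) :=
  Lefpen.H703.ClosedSmooth.exists_nhd_smooth g m z hz hreg hdim

end K903.RankOne
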