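import Groth.Agent.AlgSt.K738.Open1
import Groth.Agent.CurvSt.K740.DiagFin
import Groth.Agent.CurvSt.K902.SchInst
import Groth.Agent.CurvSt.K903.IsomQC
import Groth.Agent.Etcore.DimBaseChange
import Groth.Agent.S0403
import Groth.Agent.S0404

/-!
# The stack of curves and its open substacks: algebraicity, finiteness, diagonal

* `std_curves` : the standing assumptions of the criteria for open substacks hold for the stack of curves;
* `schOpen_dimOne`, `schOpen_redConn_genus` : loci of fibres of dimension one, and of reduced connected fibres of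
  dimension one and genus `g`;
* `main` : algebraicity for the étale topology, locally of finite type, quasi-compact and separated diagonal, for open
  substacks of the stack of curves.
-/

set_option autoImplicit false

universe v w u

open CategoryTheory CategoryTheory.Limits AlgebraicGeometry CurvSt AlgSp

namespace K903.StdCurves

open K902.SchSet K899.OpenCrit

variable (S : Scheme.{u}) (n : ℕ)

/-- The diagonal of the stack of curves is quasi-compact and separated. -/
theorem diag_curves : AlgSt.RepByAlgSpWith (IsQuasiCompactMor ⊓ IsSeparatedMor)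
    (FibCat.diag (FibCat.toSelf (Curves S n))) :=
  K903.IsomQC.main_of K740.CurvAlg.projEtLoc (fun _ hA => K902.EtSchFin.etLocSch hA)
    (K740.CurvAlg.isSeparatedMor_diag S n)

theorem locQ_lft_curves : AlgSt.LocQ (LocP @LocallyOfFiniteType) (FibCat.toSelf (Curves S n)) := by
  obtain ⟨U, V, x, y, g, α, h1, h2, h3, h4⟩ := K740.CurvAlg.locQ_lfp_toSelf S n
  exact ⟨U, V, x, y, g, α, h1, h2, h3, K901.Loci.locP_lft_of_lfp h4⟩

/-- The standing assumptions hold for the stack of curves. -/
theorem std_curves : K738.OSub.Std (Curves S n) where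
  alg := K740.CurvAlg.isAlgStack_curves S n
  sep := K740.CurvAlg.isSeparatedMor_diag S n
  qc := fun U y => by
    obtain ⟨F, e, he, h1, -⟩ := diag_curves S n U y
    exact ⟨F, e, he, h1⟩
  lft := locQ_lft_curves S n

/-- **Open substacks of the stack of curves.** -/
theorem main {Q : (Curves S n).obj → Prop} (hQ : HasOpenLocus Q) :
    AlgSt.IsAlgStack Scheme.etalePrecoverage (AlgSt.fullSub (Curves S n) Q) ∧
      AlgSt.LocQ (LocP @LocallyOfFiniteType) (FibCat.toSelf (AlgSt.fullSub (Curves S n) Q)) ∧
      AlgSt.RepByAlgSpWith (IsQuasiCompactMor ⊓ IsSeparatedMor)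
        (FibCat.diag (FibCat.toSelf (AlgSt.fullSub (Curves S n) Q))) := by
  have h1 := (std_curves S n).sub hQ
  exact ⟨K738.AutDM.isAlgStack_etale h1.alg, h1.lft,
    K738.OSub.repByAlgSpWith_diag_fullSub _ (diag_curves S n) fun φ hx => hQ.of_hom φ hx⟩

theorem dim_eq {C T : Scheme.{u}} (f : C ⟶ T) [LocallyOfFiniteType f] {Ω : Type u} [Field Ω]
    {t : Spec (CommRingCat.of Ω) ⟶ T} {X' : Scheme.{u}} {i : X' ⟶ C} {q : X' ⟶ Spec (CommRingCat.of Ω)}
    (sq : IsPullback i q f t) :
    topologicalKrullDim X' = topologicalKrullDim (f.fiber (t.base (IsLocalRing.closedPoint Ω))) := by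
  obtain ⟨⟨s, φ⟩, rfl⟩ := (Scheme.SpecToEquivOfField Ω T).symm.surjective t
  obtain ⟨s', hs'⟩ : ∃ s', s' = (((Scheme.SpecToEquivOfField Ω T).symm ⟨s, φ⟩).base (IsLocalRing.closedPoint Ω)) :=
    ⟨_, rfl⟩
  obtain rfl : s' = s := by
    rw [hs']
    simp [Scheme.SpecToEquivOfField]
  rw [← hs']
  have h1 : IsPullback (f.fiberι s') (f.fiberToSpecResidueField s') f (T.fromSpecResidueField s') :=
    IsPullback.of_hasPullback _ _
  obtain ⟨p, hp, -⟩ := Groth.Agent.Flat2D.GeomFib.exists_isPullback_lift h1 sq (Spec.map φ) rfl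
  exact Groth.Agent.Etcore.DimBaseChange.topologicalKrullDim_eq
    (K := T.residueField s') (L := CommRingCat.of Ω) (Field.toIsField _) (Field.toIsField _)
    (f.fiberToSpecResidueField s') q p (Spec.map φ) hp

theorem one_le_of_pos {d : WithBot ℕ∞} (h : 0 < d) : 1 ≤ d := by
  induction d with
  | bot => exact absurd h (by simp)
  | coe d =>
    have h1 : (0 : ℕ∞) < d := WithBot.coe_lt_coe.1 h
    exact WithBot.coe_le_coe.2 (Order.one_le_iff_pos.2 h1)

/-- Fibres of dimension one. -/
theorem schOpen_dimOne : SchOpen.{u} (fun _ _ _ X' _ => topologicalKrullDim X' = 1) := by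
  intro C T f _ _ _
  refine ⟨{s | topologicalKrullDim (f.fiber s) ≤ 1} ∩ {s | 0 < topologicalKrullDim (f.fiber s)},
    (Groth.Agent.S0403.result f 1).inter (Groth.Agent.S0404.result f 0), fun Ω _ _ t X' i q sq => ?_⟩
  have e := dim_eq f sq
  constructor
  · intro h
    have h' : topologicalKrullDim (f.fiber (t.base (IsLocalRing.closedPoint Ω))) = 1 := e.symm.trans h
    exact ⟨h'.le, by
      change 0 < topologicalKrullDim (f.fiber (t.base (IsLocalRing.closedPoint Ω)))
      rw [h']
      exact zero_lt_one⟩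
  · rintro ⟨h1, h2⟩
    refine e.trans (le_antisymm h1 ?_)
    change 0 < topologicalKrullDim (f.fiber (t.base (IsLocalRing.closedPoint Ω))) at h2
    exact one_le_of_pos h2

theorem hasOpenLocus_dimOne : HasOpenLocus (𝒳 := Curves S n)
    (fun A => GeomFib (fun _ _ _ X' _ _ => topologicalKrullDim ↥X' = 1) A.obj) :=
  schOpen_dimOne.hasOpenLocus S n

/-- Reduced connected fibres of dimension one and genus `g`. -/
theorem schOpen_redConn_genus (g : ℕ) :
    SchOpen.{u} (fun Ω _ _ X' q => K902.SchInst.RedConn Ω X' q ∧ @Curv2.genus Ω _ X' ⟨q⟩ = g) :=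
  K902.SchInst.schOpen_redConn.genus K902.SchInst.hOne_redConn g

theorem hasOpenLocus_redConn_genus (g : ℕ) : HasOpenLocus (𝒳 := Curves S n)
    (fun A => GeomFib (fun _ _ _ X' _ _ =>
        IsReduced X' ∧ ConnectedSpace ↥X' ∧ topologicalKrullDim ↥X' = 1) A.obj ∧ SpHasGenus A.obj g) := by
  have h : (fun A : (Curves S n).obj => GeomFib (fun _ _ _ X' _ _ =>
        IsReduced X' ∧ ConnectedSpace ↥X' ∧ topologicalKrullDim ↥X' = 1) A.obj ∧ SpHasGenus A.obj g) =
      fun A => GeomFib (fun Ω _ _ X' q _ => K902.SchInst.RedConn Ω X' q ∧ @Curv2.genus Ω _ X' ⟨q⟩ = g) A.obj := by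
    funext A
    exact propext K902.SchInst.geomFib_and_iff.symm
  rw [h]
  exact (schOpen_redConn_genus g).hasOpenLocus S n

end K903.StdCurves
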