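import Groth.Agent.Krr.H492.EulerClass
import Groth.Agent.Krr.H463.ChiHom
import Groth.Agent.Vancyc.H878.RelOmega
import Groth.Agent.CurvSt.K903.HomIso

/-!
# `χ` of the restriction of the tangent bundle of projective space
-/

set_option autoImplicit false
universe u

open CategoryTheory CategoryTheory.Limits AlgebraicGeometry

namespace K903.TangentNum

open Groth.Agent Groth.Agent.CohqB.HomSheaf Groth.Agent.Krr.H492.DualK
open Groth.Agent.Krr.H496.PullK0 (cl)

theorem isPullback_PY (n : ℕ) (Y : Scheme.{u}) :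
    IsPullback (pullback.fst (CohB1.ProjSpace.toSpec n (ULift.{u} ℤ)) (specULiftZIsTerminal.from Y))
      (KRR.pr n Y) (CohB1.ProjSpace.toSpec n (ULift.{u} ℤ)) (specULiftZIsTerminal.from Y) :=
  IsPullback.of_hasPullback _ _

/-- `i^* Ω_{P^n_Y / Y}` is the pull-back of `Ω_{P^n_ℤ}`. -/
theorem nonempty_iso_omega (n : ℕ) {X Y : Scheme.{u}} (i : X ⟶ KRR.PY n Y) :
    Nonempty ((Scheme.Modules.pullback i).obj (Omega.sheaf (KRR.pr n Y)) ≅
      (Scheme.Modules.pullback (i ≫ pullback.fst (CohB1.ProjSpace.toSpec n (ULift.{u} ℤ))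
        (specULiftZIsTerminal.from Y))).obj (Omega.sheaf (CohB1.ProjSpace.toSpec n (ULift.{u} ℤ)))) := by
  have : IsProper (CohB1.ProjSpace.toSpec n (ULift.{u} ℤ)) := Ega3B.ProjProper.isProper_toSpec n _
  exact ⟨(Scheme.Modules.pullback i).mapIso (Vancyc.H878.RelOmega.omegaBC (isPullback_PY n Y)).symm ≪≫
    (Scheme.Modules.pullbackComp i _).app _⟩

theorem main (k : Type u) [Field k] (n : ℕ) (X : Scheme.{u}) [X.Over (Spec (CommRingCat.of k))]
    [IsProper (X ↘ (Spec (CommRingCat.of k)))] {Y : Scheme.{u}} (i : X ⟶ KRR.PY n Y) :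
    FlatMod.IsFinLocFree ((Scheme.Modules.pullback i).obj (Omega.sheaf (KRR.pr n Y))) ∧
    Curv2.euler k X (homSheaf ((Scheme.Modules.pullback i).obj (Omega.sheaf (KRR.pr n Y))) (Coh.structureModule X)) =
      (n + 1) * Curv2.euler k X ((Scheme.Modules.pullback i).obj (Twist.twistOver n Y 1)) -
        Curv2.euler k X (Coh.structureModule X) := by
  obtain ⟨e⟩ := nonempty_iso_omega n i
  let h := i ≫ pullback.fst (CohB1.ProjSpace.toSpec n (ULift.{u} ℤ)) (specULiftZIsTerminal.from Y)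
  have h1 := Krr.H492.EulerClass.isFinLocFree_pull_omega n h
  have hE : FlatMod.IsFinLocFree ((Scheme.Modules.pullback i).obj (Omega.sheaf (KRR.pr n Y))) :=
    Dcoh.FinLocFree.isFinLocFree_of_iso e.symm h1
  refine ⟨hE, ?_⟩
  have h2 := congrArg (Krr.H463.ChiHom.chi k X) (Krr.H492.EulerClass.cl_dual_pull n h)
  have ht : FlatMod.IsFinLocFree ((Scheme.Modules.pullback h).obj (Twist.twistProjSpace.{u} n (ULift.{u} ℤ) 1)) :=
    PerfB.FlatPull.isFinLocFree_pullback h (Krr.H492.EulerClass.isFinLocFree_tw n 1)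
  have hO : FlatMod.IsFinLocFree (Coh.structureModule X) := isFinLocFree_structure
  rw [map_add, map_nsmul, dualK_cl h1] at h2
  have c1 := Krr.H463.ChiHom.chi_cl k X (isFinLocFree_dl h1)
  have c2 := Krr.H463.ChiHom.chi_cl k X hO
  have c3 := Krr.H463.ChiHom.chi_cl k X ht
  have h3 : Curv2.euler k X (dl ((Scheme.Modules.pullback h).obj
      (Omega.sheaf (CohB1.ProjSpace.toSpec.{u} n (ULift.{u} ℤ))))) + Curv2.euler k X (Coh.structureModule X) =
      (n + 1) * Curv2.euler k X ((Scheme.Modules.pullback h).obj (Twist.twistProjSpace.{u} n (ULift.{u} ℤ) 1)) := by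
    rw [← c1, ← c2, ← c3]
    refine h2.trans ?_
    rw [nsmul_eq_mul]
    push_cast
    rfl
  have e1 : Curv2.euler k X (homSheaf ((Scheme.Modules.pullback i).obj (Omega.sheaf (KRR.pr n Y)))
      (Coh.structureModule X)) = Curv2.euler k X (dl ((Scheme.Modules.pullback h).obj
      (Omega.sheaf (CohB1.ProjSpace.toSpec.{u} n (ULift.{u} ℤ))))) :=
    VarietyA.EulerAdd.euler_congr k (HomIso.homPreIso e.symm _)
  have e2 : Curv2.euler k X ((Scheme.Modules.pullback i).obj (Twist.twistOver n Y 1)) =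
      Curv2.euler k X ((Scheme.Modules.pullback h).obj (Twist.twistProjSpace.{u} n (ULift.{u} ℤ) 1)) :=
    VarietyA.EulerAdd.euler_congr k ((Scheme.Modules.pullbackComp i _).app _)
  rw [e1, e2]
  linarith

end K903.TangentNum
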