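import Groth.Agent.Krr.H463.HomTensor
import Groth.Agent.Krr.H463.DualLam
import Groth.Agent.Krr.H495.Rank
import Groth.Agent.S1604
import Groth.Agent.S2122
import Groth.Agent.Fga.IntAdd
import Groth.Agent.Dix.IdealModCartier
import Groth.Agent.VarietyA.EulerAdd
import Groth.Agent.Dcoh.MonClosed

/-!
# `χ(Hom(E, I_D)) = χ(E^∨) - rk(E) deg(D)` on a curve
-/

set_option autoImplicit false
universe u

open CategoryTheory CategoryTheory.Limits AlgebraicGeometry MonoidalCategory

namespace K903.TwistNum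

open scoped Groth.Agent.Dcoh.MonCat
open Groth.Agent.CohqB.HomSheaf Groth.Agent.Dcoh.MonClosed Groth.Agent

theorem isFinLocFree_of_rank {X : Scheme.{u}} {n : ℕ} {E : X.Modules} (h : FlatMod.IsFinLocFreeOfRank n E) :
    FlatMod.IsFinLocFree E := fun x => by
  obtain ⟨U, hx, hU⟩ := h x
  exact ⟨U, n, hx, hU⟩

theorem rank_one {X : Scheme.{u}} {L : X.Modules} (hL : PicF.IsInvertible L) : FlatMod.IsFinLocFreeOfRank 1 L :=
  Ega2.QCohLocal.isFinLocFreeOfRank_one_iff.mpr hL

/-- `χ(Hom(E, I_D)) = χ(E^∨) - rk(E) deg(D)`. -/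
theorem euler_homSheaf_ideal (k : Type u) [Field k] (X : Scheme.{u}) [X.Over (Spec (CommRingCat.of k))]
    [IsProper (X ↘ (Spec (CommRingCat.of k)))] (hdim : topologicalKrullDim X ≤ 1)
    (D : X.IdealSheafData) (L : X.Modules) (hLD : ClSub.IsInverseOf L (ClSub.idealMod D))
    {G : X.Modules} (e : G ≅ ClSub.idealMod D) (n : ℕ) (E : X.Modules) (hE : FlatMod.IsFinLocFreeOfRank n E) :
    Curv2.euler k X (homSheaf E G) =
      Curv2.euler k X (homSheaf E (Coh.structureModule X)) - n * Module.finrank k (Coh.HH X (ClSub.quotMod D) 0) := by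
  obtain ⟨eL⟩ := hLD
  have hL : PicF.IsInvertible L := S2122.result L _ eL
  have hI : PicF.IsInvertible (ClSub.idealMod D) := Fga.IntAdd.isInvertible_of_tensor eL
  have hD : BlowUp.IsEffCartierIdeal D := Dix.IdealModCartier.isEffCartierIdeal_of_isInvertible hI
  obtain ⟨e₁⟩ := Krr.H463.HomTensor.nonempty_iso (isFinLocFree_of_rank hE) (rank_one hI)
  have hdl := Krr.H463.DualLam.isFinLocFreeOfRank_homSheaf hE
  have hT : FlatMod.IsFinLocFreeOfRank n
      (CohB1.tensorMod (homSheaf E (Coh.structureModule X)) (ClSub.idealMod D)) := by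
    have := Krr.H495.Rank.rank_tensor hdl (rank_one hI)
    rwa [mul_one] at this
  have h1 := S1604.euler_eq k X hdim D hD L hL ⟨eL⟩ n _ hT
  have e₂ : CohB1.tensorMod (CohB1.tensorMod (homSheaf E (Coh.structureModule X)) (ClSub.idealMod D)) L ≅
      homSheaf E (Coh.structureModule X) := by
    let A : X.Modules := homSheaf E (Coh.structureModule X)
    let B : X.Modules := ClSub.idealMod D
    exact (α_ A B L) ≪≫ whiskerLeftIso A (β_ B L ≪≫ eL) ≪≫ ρ_ A
  rw [VarietyA.EulerAdd.euler_congr k e₂] at h1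
  have e₃ : homSheaf E G ≅ CohB1.tensorMod (homSheaf E (Coh.structureModule X)) (ClSub.idealMod D) :=
    (homFunctor E).mapIso e ≪≫ e₁.symm
  rw [VarietyA.EulerAdd.euler_congr k e₃, h1]
  ring

end K903.TwistNum
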